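import Cfsg.Agent.H6.Chain

/-! Frames of an extraspecial group of order 512. -/

set_option autoImplicit false

namespace Cfsg.Co.Rc

open Subgroup Cfsg.H6

variable {G : Type*} [Group G]

/-- The centraliser of `z` has the self-centralising extraspecial normal subgroup `Q`. -/
structure ES (z : G) (Q : Subgroup G) : Prop where
  z1 : z ≠ 1
  zz : z * z = 1
  zQ : z ∈ Q
  qz : ∀ q ∈ Q, q * z = z * q
  nrm : ∀ c, c * z = z * c → ∀ q ∈ Q, c * q * c⁻¹ ∈ Q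
  cen : ∀ c, c * z = z * c → (∀ q ∈ Q, c * q = q * c) → c = 1 ∨ c = z
  comm : ∀ p ∈ Q, ∀ q ∈ Q, q * p = p * q ∨ q * p = z * (p * q)
  sq : ∀ q ∈ Q, q * q = 1 ∨ q * q = z
  card : Nat.card Q = 512
  cardC : Nat.card (centralizer ({z} : Set G)) = 512 * 174182400

/-- The partner of an index. -/
def pr (i : ℕ) : ℕ := (i + 4) % 8

/-- A frame of plus type (`m = false`) or of minus type. -/
structure Fr (z : G) (Q : Subgroup G) (m : Bool) (a : ℕ → G) : Prop where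
  mem : ∀ i < 8, a i ∈ Q
  sq : ∀ i < 8, a i * a i = if m = true ∧ i % 4 = 3 then z else 1
  cm : ∀ i < 8, ∀ j < 8, a j * a i = if j = pr i then z * (a i * a j) else a i * a j

variable {z : G} {Q : Subgroup G}

/-- A subgroup of `Q` with the same centre. -/
structure Gd (z : G) (Q S : Subgroup G) (n : ℕ) : Prop where
  le : S ≤ Q
  zS : z ∈ S
  cen : ∀ s ∈ S, (∀ t ∈ S, s * t = t * s) → s = 1 ∨ s = z
  card : n ≤ Nat.card S

theorem mem_cen {x y : G} : y ∈ centralizer ({x} : Set G) ↔ y * x = x * y :=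
  mem_centralizer_singleton_iff

theorem ES.ne (E : ES z Q) (x : G) : z * x ≠ x := fun h => E.z1 (by simpa using h)

theorem ES.zinv (E : ES z Q) : z⁻¹ = z := inv_eq_of_mul_eq_one_right E.zz

theorem ES.zzm (E : ES z Q) (x : G) : z * (z * x) = x := by rw [← mul_assoc, E.zz, one_mul]

theorem ES.anti (E : ES z Q) {x s t : G} (hs : s * z = z * s) (h1 : s * x = z * (x * s))
    (h2 : t * x = z * (x * t)) : s * t * x = x * (s * t) := by
  rw [mul_assoc, h2, ← mul_assoc, hs, mul_assoc, ← mul_assoc s, h1, mul_assoc z, E.zzm, mul_assoc]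

theorem card_le_two [Finite G] {S K : Subgroup G} (h : ∀ s ∈ S, ∀ t ∈ S, s ∉ K → t ∉ K → s * t ∈ K) :
    Nat.card S ≤ 2 * Nat.card (S ⊓ K : Subgroup G) := by
  by_cases hS : S ≤ K
  · rw [inf_eq_left.mpr hS]; omega
  obtain ⟨s, hs, hs'⟩ := SetLike.not_le_iff_exists.mp hS
  have : K.relIndex S = 2 := by
    refine index_eq_two_iff.mpr ⟨⟨s, hs⟩, fun b => ?_⟩
    by_cases hb : (b : G) ∈ K
    · exact Or.inr ⟨hb, fun h1 => hs' ((K.mul_mem_cancel_left hb).mp h1)⟩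
    · exact Or.inl ⟨h b b.2 s hs hb hs', hb⟩
  have h2 := relIndex_mul_relIndex (⊥ : Subgroup G) (S ⊓ K) S bot_le inf_le_left
  rw [relIndex_bot_left, relIndex_bot_left, inf_relIndex_left, this] at h2
  omega

theorem ES.card_le [Finite G] (E : ES z Q) {S : Subgroup G} (hS : S ≤ Q) {x : G} (hx : x ∈ Q) :
    Nat.card S ≤ 2 * Nat.card (S ⊓ centralizer {x} : Subgroup G) :=
  card_le_two fun s hs t ht h1 h2 => mem_cen.mpr (E.anti (E.qz s (hS hs))
    ((E.comm x hx s (hS hs)).resolve_left fun h => h1 (mem_cen.mpr h))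
    ((E.comm x hx t (hS ht)).resolve_left fun h => h2 (mem_cen.mpr h)))

theorem ES.flip (E : ES z Q) {x y : G} (h : y * x = z * (x * y)) : x * y = z * (y * x) := by
  rw [h, E.zzm]

theorem Gd.step [Finite G] (E : ES z Q) {S : Subgroup G} {n : ℕ} (h : Gd z Q S (4 * n)) {x y : G}
    (hx : x ∈ S) (hy : y ∈ S) (e : y * x = z * (x * y)) :
    Gd z Q (S ⊓ centralizer {x} ⊓ centralizer {y}) n := by
  refine ⟨inf_le_left.trans (inf_le_left.trans h.le), ⟨⟨h.zS, mem_cen.mpr (E.qz x (h.le hx)).symm⟩,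
    mem_cen.mpr (E.qz y (h.le hy)).symm⟩, fun s hs hc => h.cen s hs.1.1 fun t ht => ?_, ?_⟩
  · have sx : Commute s x := mem_cen.mp hs.1.2
    have sy : Commute s y := mem_cen.mp hs.2
    have k : ∀ t ∈ S, t * x = x * t → Commute s t := fun t ht h1 => by
      rcases E.comm y (h.le hy) t (h.le ht) with h2 | h2
      · exact hc t ⟨⟨ht, mem_cen.mpr h1⟩, mem_cen.mpr h2⟩
      · have : Commute s (t * x) := hc _ ⟨⟨S.mul_mem ht hx, mem_cen.mpr (by
          rw [mul_assoc, ← mul_assoc x, ← h1, mul_assoc])⟩,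
          mem_cen.mpr (E.anti (E.qz t (h.le ht)) h2 (E.flip e))⟩
        simpa using this.mul_right sx.inv_right
    rcases E.comm x (h.le hx) t (h.le ht) with h1 | h1
    · exact k t ht h1
    · have := k _ (S.mul_mem ht hy) (E.anti (E.qz t (h.le ht)) h1 e)
      have := this.mul_right sy.inv_right
      rwa [mul_inv_cancel_right] at this
  · have h1 := E.card_le h.le (h.le hx)
    have h2 := E.card_le (S := S ⊓ centralizer {x}) (inf_le_left.trans h.le) (h.le hy)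
    have := h.card
    omega

theorem Gd.partner (E : ES z Q) {S : Subgroup G} {n : ℕ} (h : Gd z Q S n) {x : G} (hx : x ∈ S)
    (h1 : x ≠ 1) (h2 : x ≠ z) : ∃ y ∈ S, y * x = z * (x * y) := by
  by_contra hc
  push Not at hc
  rcases h.cen x hx fun t ht =>
    ((E.comm x (h.le hx) t (h.le ht)).resolve_right (hc t ht)).symm with e | e
  · exact h1 e
  · exact h2 e

theorem ES.sq_mul (E : ES z Q) {x y : G} (hx : x ∈ Q) (e : y * x = z * (x * y)) :
    x * y * (x * y) = z * (x * x * (y * y)) := by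
  calc x * y * (x * y) = x * (y * x) * y := by group
    _ = x * z * (x * y * y) := by rw [e]; group
    _ = _ := by rw [E.qz x hx]; group

theorem Gd.partner' (E : ES z Q) {S : Subgroup G} {n : ℕ} (h : Gd z Q S n) {x : G} (hx : x ∈ S)
    (h1 : x ≠ 1) (h2 : x ≠ z) (h3 : x * x = 1) : ∃ y ∈ S, y * x = z * (x * y) ∧ y * y = 1 := by
  obtain ⟨y, hy, e⟩ := h.partner E hx h1 h2
  rcases E.sq y (h.le hy) with h4 | h4
  · exact ⟨y, hy, e, h4⟩
  · refine ⟨x * y, S.mul_mem hx hy, ?_, by rw [E.sq_mul (h.le hx) e, h3, h4, one_mul, E.zz]⟩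
    rw [mul_assoc, e, ← mul_assoc, E.qz x (h.le hx), mul_assoc]

theorem Gd.nc {S : Subgroup G} (h : Gd z Q S 3) : ∃ x ∈ S, x ≠ 1 ∧ x ≠ z := by
  by_contra hc
  push Not at hc
  have h1 : (S : Set G) ⊆ {1, z} := fun x hx => by
    by_cases e : x = 1
    · exact Or.inl e
    · exact Or.inr (hc x hx e)
  have h2 := Set.ncard_le_ncard h1 (Set.toFinite _)
  have h3 : ({1, z} : Set G).ncard ≤ 2 := (Set.ncard_insert_le _ _).trans (by simp)
  have h4 := h.card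
  have h5 : Nat.card S = (S : Set G).ncard := rfl
  omega

theorem Gd.mono {S : Subgroup G} {n k : ℕ} (h : Gd z Q S n) (e : k ≤ n) : Gd z Q S k :=
  ⟨h.le, h.zS, h.cen, e.trans h.card⟩

theorem Gd.inv [Finite G] (E : ES z Q) {S : Subgroup G} (h : Gd z Q S 12) :
    ∃ x ∈ S, x ≠ 1 ∧ x ≠ z ∧ x * x = 1 := by
  obtain ⟨x, hx, x1, xz⟩ := (h.mono (by norm_num)).nc
  rcases E.sq x (h.le hx) with h1 | h1
  · exact ⟨x, hx, x1, xz, h1⟩
  obtain ⟨y, hy, e⟩ := h.partner E hx x1 xz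
  obtain ⟨u, hu, u1, uz⟩ := (Gd.step (n := 3) E h hx hy e).nc
  rcases E.sq u (h.le hu.1.1) with h2 | h2
  · exact ⟨u, hu.1.1, u1, uz, h2⟩
  have ux : u * x = x * u := mem_cen.mp hu.1.2
  have uy : u * y = y * u := mem_cen.mp hu.2
  have k : y * (x * u) ≠ x * u * y := by
    rw [← mul_assoc, e, mul_assoc x u, uy, mul_assoc, mul_assoc x]
    exact E.ne _
  refine ⟨x * u, S.mul_mem hx hu.1.1, fun h3 => k (by simp [h3]),
    fun h3 => k (by rw [h3, E.qz y (h.le hy)]), ?_⟩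
  calc x * u * (x * u) = x * (u * x) * u := by group
    _ = x * x * (u * u) := by rw [ux]; group
    _ = 1 := by rw [h1, h2, E.zz]

theorem Gd.last (E : ES z Q) {S : Subgroup G} (h : Gd z Q S 3) :
    ∃ (m : Bool) (x y : G), x ∈ S ∧ y ∈ S ∧ y * x = z * (x * y) ∧
      (x * x = if m = true then z else 1) ∧ y * y = if m = true then z else 1 := by
  obtain ⟨x, hx, x1, xz⟩ := h.nc
  rcases E.sq x (h.le hx) with h1 | h1
  · obtain ⟨y, hy, e, h2⟩ := h.partner' E hx x1 xz h1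
    exact ⟨false, x, y, hx, hy, e, h1, h2⟩
  obtain ⟨y, hy, e⟩ := h.partner E hx x1 xz
  rcases E.sq y (h.le hy) with h2 | h2
  · refine ⟨false, x * y, y, S.mul_mem hx hy, hy, by rw [← mul_assoc, e, mul_assoc], ?_, h2⟩
    rw [E.sq_mul (h.le hx) e, h1, h2, mul_one, E.zz]
    rfl
  · exact ⟨true, x, y, hx, hy, e, h1, h2⟩

theorem ES.exists_fr [Finite G] (E : ES z Q) {x0 : G} (hx : x0 ∈ Q) (h1 : x0 ≠ 1) (h2 : x0 ≠ z)
    (h3 : x0 * x0 = 1) : ∃ m a, Fr z Q m a ∧ a 0 = x0 := by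
  have g0 : Gd z Q Q (4 * 128) := ⟨le_rfl, E.zQ, fun s hs h => E.cen s (E.qz s hs) h, E.card.ge⟩
  obtain ⟨y0, hy0, e0, s0⟩ := g0.partner' E hx h1 h2 h3
  have g1 := g0.step E hx hy0 e0
  obtain ⟨x1, hx1, n1, n1', r1⟩ := (g1.mono (by norm_num)).inv E
  obtain ⟨y1, hy1, e1, s1⟩ := g1.partner' E hx1 n1 n1' r1
  have g2 := Gd.step (n := 32) E g1 hx1 hy1 e1
  obtain ⟨x2, hx2, n2, n2', r2⟩ := (g2.mono (by norm_num)).inv E
  obtain ⟨y2, hy2, e2, s2⟩ := g2.partner' E hx2 n2 n2' r2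
  have g3 := Gd.step (n := 8) E g2 hx2 hy2 e2
  obtain ⟨m, x3, y3, hx3, hy3, e3, r3, s3⟩ := (g3.mono (by norm_num)).last E
  simp only [mem_inf, mem_cen] at hx1 hy1 hx2 hy2 hx3 hy3
  obtain ⟨⟨q1, a1⟩, a2⟩ := hx1
  obtain ⟨⟨q2, a3⟩, a4⟩ := hy1
  obtain ⟨⟨⟨⟨q3, b1⟩, b2⟩, b3⟩, b4⟩ := hx2
  obtain ⟨⟨⟨⟨q4, b5⟩, b6⟩, b7⟩, b8⟩ := hy2
  obtain ⟨⟨⟨⟨⟨⟨q5, c1⟩, c2⟩, c3⟩, c4⟩, c5⟩, c6⟩ := hx3
  obtain ⟨⟨⟨⟨⟨⟨q6, d1⟩, d2⟩, d3⟩, d4⟩, d5⟩, d6⟩ := hy3
  have f0 := E.flip e0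
  have f1 := E.flip e1
  have f2 := E.flip e2
  have f3 := E.flip e3
  refine ⟨m, fun i => [x0, x1, x2, x3, y0, y1, y2, y3].getD i 1, ⟨fun i hi => ?_, fun i hi => ?_,
    fun i hi j hj => ?_⟩, rfl⟩
  · interval_cases i <;> assumption
  · interval_cases i <;> first | simpa using r3 | simpa using s3 | simpa
  · interval_cases i <;> interval_cases j <;>
      first | rfl | assumption | (symm; assumption)

end Cfsg.Co.Rc
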