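import Cfsg.Agent.Co.A2

/-! The orthogonal groups of the frames. -/

set_option autoImplicit false
set_option maxRecDepth 100000

namespace Cfsg.Co.Rc

open Subgroup Cfsg.H6

/-- The sum of two vectors. -/
def xo (u v : Fin 256) : Fin 256 := ⟨u.1 ^^^ v.1, xor_lt u.2 v.2⟩

/-- The orthogonal group. -/
def OG (m : Bool) : Subgroup (Equiv.Perm (Fin 256)) where
  carrier := {σ | (∀ u v, σ (xo u v) = xo (σ u) (σ v)) ∧ ∀ v, qf m (σ v) = qf m v}
  one_mem' := ⟨fun _ _ => rfl, fun _ => rfl⟩
  mul_mem' := fun {σ τ} h k => ⟨fun u v => by simp only [Equiv.Perm.mul_apply, h.1, k.1],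
    fun v => by rw [Equiv.Perm.mul_apply, h.2, k.2]⟩
  inv_mem' := fun {σ} h => ⟨fun u v => σ.injective (by simp [h.1]),
    fun v => by rw [← h.2]; simp⟩

/-- A number as a vector. -/
def fv (p : ℕ) : Fin 256 := ⟨p % 256, Nat.mod_lt _ (by norm_num)⟩

theorem fv_val (v : Fin 256) : fv v = v := Fin.ext (Nat.mod_eq_of_lt v.2)

theorem split_vec : ∀ v : Fin 256, v = 0 ∨ ∃ i < 8, xo v (fv (2 ^ i)) < v ∧
    v = xo (xo v (fv (2 ^ i))) (fv (2 ^ i)) := by decide +kernel

theorem OG_zero {m : Bool} {σ : Equiv.Perm (Fin 256)} (h : σ ∈ OG m) : σ 0 = 0 := by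
  have := h.1 0 0
  rw [show xo 0 0 = 0 from rfl] at this
  exact this.trans (Fin.ext (Nat.xor_self _))

theorem ext_basis {m : Bool} {σ τ : Equiv.Perm (Fin 256)} (h : σ ∈ OG m) (k : τ ∈ OG m)
    (e : ∀ i < 8, σ (fv (2 ^ i)) = τ (fv (2 ^ i))) : σ = τ := by
  ext1 v
  induction v using WellFoundedLT.induction with
  | ind v ih =>
    rcases split_vec v with rfl | ⟨i, hi, h1, h2⟩
    · rw [OG_zero h, OG_zero k]
    · rw [h2, h.1, k.1, ih _ h1, e i hi]

/-- The possible images of a vector. -/
def isoP (m : Bool) (bs : List ℕ) (b p : ℕ) : Bool :=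
  qf m (fv p) == qf m (fv b) &&
    (bs.all fun c => qf m (xo (fv p) (fv c)) == qf m (xo (fv b) (fv c))) &&
    (decide (fv b = 0) || !decide (fv p = 0))

theorem card_OG (m : Bool) : Nat.card (OG m) ≤
    prodCnt (isoP m) 256 [1, 16, 2, 32, 4, 64, 8, 128] [] := by
  have h := card_le_of_chain (OG m).subtype fv 256
    (fun v => ⟨v, v.2, fv_val v⟩) (isoP m) ?_ [1, 16, 2, 32, 4, 64, 8, 128] []
  · rw [List.map_nil, fixS_nil, Subgroup.card_top] at h
    have h2 : fixS (OG m).subtype
        (List.map fv ([1, 16, 2, 32, 4, 64, 8, 128].reverse ++ [])) = ⊥ := by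
      refine eq_bot_iff.mpr fun g hg => Subtype.ext (ext_basis g.2 (one_mem _) fun i hi => ?_)
      refine hg _ ?_
      interval_cases i <;> decide
    rwa [h2, Subgroup.card_bot, mul_one] at h
  · intro bs b p g hg hv
    have hv' : g.1 (fv p) = fv b := (Equiv.Perm.inv_eq_iff_eq.mp hv).symm
    unfold isoP
    simp only [Bool.and_eq_true, decide_eq_true_eq, List.all_eq_true, Bool.or_eq_true,
      Bool.not_eq_true', decide_eq_false_iff_not, beq_iff_eq]
    refine ⟨⟨by rw [← hv', g.2.2], fun c hc => ?_⟩, ?_⟩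
    · have h1 : g.1 (fv c) = fv c := hg _ (List.mem_map.mpr ⟨c, hc, rfl⟩)
      rw [← g.2.2 (xo (fv p) (fv c)), g.2.1, hv', h1]
    · by_cases h0 : fv p = 0
      · left; rw [← hv', h0, OG_zero g.2]
      · exact Or.inr h0

theorem card_plus : Nat.card (OG false) ≤ 2 * 174182400 :=
  (card_OG false).trans (by decide +kernel)

theorem card_minus : Nat.card (OG true) ≤ 394813440 :=
  (card_OG true).trans (by decide +kernel)

/-- A matrix applied to a vector. -/
noncomputable def ap8 (A p : ℕ) : ℕ :=
  xv (fun k => Nat.land (Nat.shiftRight A (Nat.mul 8 k)) 255) p 8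

theorem xv_xor (rw : ℕ → ℕ) (p q n : ℕ) : xv rw (p ^^^ q) n = xv rw p n ^^^ xv rw q n := by
  induction n with
  | zero => exact (Nat.xor_self 0).symm
  | succ n ih =>
    have e : ∀ p, xv rw p (n + 1) = xv rw p n ^^^ ((p >>> n) &&& 1) * rw n := fun _ => rfl
    rw [e, e, e, ih, Nat.shiftRight_xor_distrib, Nat.and_one_is_mod, Nat.and_one_is_mod,
      Nat.and_one_is_mod, Nat.xor_mod_two_eq]
    rcases Nat.mod_two_eq_zero_or_one (p >>> n) with a | a <;>
      rcases Nat.mod_two_eq_zero_or_one (q >>> n) with b | b <;>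
      rw [Nat.add_mod, a, b] <;> simp [Nat.xor_assoc, Nat.xor_comm, Nat.xor_left_comm]

theorem ap8_xor (A p q : ℕ) : ap8 A (p ^^^ q) % 256 = (ap8 A p % 256) ^^^ (ap8 A q % 256) := by
  unfold ap8
  rw [xv_xor]
  exact Nat.xor_mod_two_pow (n := 8)

/-- An isometry of order 17. -/
noncomputable def g17 : Equiv.Perm (Fin 256) :=
  ⟨fun v => fv (ap8 7985415589707070786 v), fun v => fv (ap8 16801339661029878756 v), by decide +kernel,
    by decide +kernel⟩

theorem dvd_minus : 17 ∣ Nat.card (OG true) := by
  have h1 : g17 ∈ OG true := ⟨fun u v => Fin.ext (ap8_xor _ _ _), by decide +kernel⟩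
  have h2 : g17 ^ 17 = 1 := by
    ext1 v
    rw [Equiv.Perm.coe_pow]
    revert v
    decide +kernel
  have h3 : g17 ≠ 1 := fun h => absurd (Equiv.congr_fun h 1) (by decide +kernel)
  have : Fact (Nat.Prime 17) := ⟨by norm_num⟩
  rw [← orderOf_eq_prime h2 h3]
  exact (OG true).orderOf_dvd_natCard h1

/-- The matrices of the letters. -/
noncomputable def R8 : ℕ → ℕ := nthN [9241421688590303745, 9241421688590303745, 9241421688590303745, 9241421688590303745, 9241421688590303745, 9241421688590303745, 9241421688590303745, 9241421688590303745, 9241421688590303745, 9241421688590303745, 9241421826029257473, 9241439280776348163, 9241492057334612481, 9250428887845045761, 9277450485676376577, 13853107707018215937, 9531903864555700737, 9241421689672434177, 9241421963468276225, 9241422238362894849, 9241422796691866113, 9241703180746883585, 9313479316987970049, 9241989036590236161, 9385545672759181825, 9241439280776348163, 9241422797773996545]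

/-- The action of the letters on vectors. -/
noncomputable def img8 (x p : ℕ) : ℕ := frc (fun A => ap8 A p) (R8 x)

theorem inv8 : ∀ x < 27, ∀ v : Fin 256, fv (img8 x (fv (img8 x v))) = v ∧ img8 x v < 256 := by
  decide +kernel

/-- The letters as permutations of the vectors. -/
noncomputable def M8 (x : ℕ) : Equiv.Perm (Fin 256) :=
  if h : x < 27 then Function.Involutive.toPerm (fun v => fv (img8 x v)) fun v => (inv8 x h v).1
  else 1

theorem M8_apply {x : ℕ} (h : x < 27) (v : Fin 256) : M8 x v = fv (img8 x v) := by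
  rw [M8, dif_pos h]; rfl

theorem M8_mem (x : ℕ) : M8 x ∈ OG false := by
  by_cases h : x < 27
  · have k : ∀ x < 27, (∀ v : Fin 256, qf false (fv (img8 x v)) = qf false v) ∧
        ∀ i < 8, ap8 (R8 x) (2 ^ i) < 256 := by decide +kernel
    refine ⟨fun u v => ?_, fun v => by rw [M8_apply h, (k x h).1]⟩
    rw [M8_apply h, M8_apply h, M8_apply h]
    unfold img8
    rw [frc_eq, frc_eq, frc_eq]
    exact Fin.ext (ap8_xor _ _ _)
  · rw [M8, dif_neg h]; exact one_mem _

/-- The vectors as numbers. -/
noncomputable def ph : Equiv.Perm (Fin 256) →* Equiv.Perm ℕ :=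
  Equiv.Perm.viaEmbeddingHom Fin.valEmbedding

theorem ph_val (σ : Equiv.Perm (Fin 256)) (v : Fin 256) : ph σ v = σ v :=
  Equiv.Perm.viaEmbedding_apply σ Fin.valEmbedding v

theorem act' : IsAct ph M8 img8 256 27 := fun x _ h p hp => by
  have h1 := (inv8 x h ⟨p, hp⟩).2
  refine ⟨?_, h1⟩
  have : (M8 x)⁻¹ = M8 x := by rw [M8, dif_pos h]; rfl
  rw [← map_inv, this, ph_val _ ⟨p, hp⟩, M8_apply h]
  exact Nat.mod_eq_of_lt h1

theorem act : IsAct ph M8 img8 256 18 := fun x h1 h => act' x h1 (by omega)

theorem evM_mem (w : List ℕ) : evL M8 w ∈ OG false := evL_mem_of_letters fun x _ => M8_mem x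

theorem evM_inv {w : List ℕ} (hw : inR 27 w = true) (v : Fin 256) :
    ((evL M8 w)⁻¹ v : ℕ) = trF img8 w v := by
  rw [← ph_val, map_inv, (act'.trF hw v.2).1]

/-- Two words act in the same way. -/
noncomputable def eq8 (u w : List ℕ) : Bool :=
  inR 27 u && inR 27 w && (List.range 8).all fun i => trF img8 u (2 ^ i) == trF img8 w (2 ^ i)

theorem eq8_spec {u w : List ℕ} (h : eq8 u w = true) : evL M8 u = evL M8 w := by
  simp only [eq8, Bool.and_eq_true, List.all_eq_true, List.mem_range, beq_iff_eq] at h
  refine inv_injective (ext_basis (inv_mem (evM_mem u)) (inv_mem (evM_mem w)) fun i hi => ?_)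
  have : ((fv (2 ^ i) : Fin 256) : ℕ) = 2 ^ i := by interval_cases i <;> rfl
  exact Fin.ext (by rw [evM_inv h.1.1, evM_inv h.1.2, this, h.2 i hi])

/-- The root letters. -/
def RT : List (List ℕ) := [[10], [11], [12], [13], [14], [15], [16], [17]]

def lW0 : List (List ℕ) := [[nat_lit 10], [nat_lit 11], [nat_lit 12], [nat_lit 13], [nat_lit 14], [nat_lit 15], [nat_lit 16], [nat_lit 17]]

theorem l0 : lvlChk img8 256 18 [] (1, lW0, unp 134 (nat_lit 0xaa000000ae030000a5060000a40600009b00000099010000990000009d04000092000000960300009000000094060000830000008101000085060000840600007e0700007e0400007d0700007d0400007604000075040000730400005f0700005f0400005d0700005d040000570500005704000055050000550400005701000073030000700400006f0700006f0400006e0700006e040000670400006604000061040000520400005a06000050040000580600003f0700003f0200003c0700003c0200003b0200003802000037070000370200002d0700002d04000025070000250500003701000034070000340200002c0700002c0400002407000024050000340100001e0700001a0700001a0000001e0300001e0000001c07000018070000180000001c0400001c00000016070000160500001407000014050000140000001602000016000000120300003300000021010000610200006101000060040000300000002001000060020000600100004b0300004a03000043040000430300004204000042030000430000004104000041030000410100004906000049030000400400004003000048060000480300000f0700000e0700000d0700000b0700000a0700000b00000009070000090100000d0400000c070000080700000c040000070700000705000005070000050500000701000006070000060500000407000004050000060200000303000002030000030000000101))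 = true := by
  decide +kernel

def lW1 : List (List ℕ) := [[nat_lit 10], [nat_lit 12], [nat_lit 13], [nat_lit 14], [nat_lit 15], [nat_lit 16], [nat_lit 17]]

theorem l1 : lvlChk img8 256 18 [1] (16, lW1, unp 63 (nat_lit 0x9b0000009f020000990000009d030000920000009602000090000000940500007e0600007e0300007d0600007d0300007603000075030000730300005f0600005f0300005d0600005d03000057040000570300005504000055030000570100007302000070030000520300005a0500003f0600003f0100003c0600003c0100003b01000037060000370100003406000034010000330100001e0600001a0600001a0000001e0200001e000000160600001200000016020000160000001406000014010000140000001c0400001c0100001c0000001803000018000000580600005803000058000000500500005003000070000000300100001000)) = true := by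
  decide +kernel

def lW2 : List (List ℕ) := [[nat_lit 12], [nat_lit 13], [nat_lit 14], [nat_lit 15], [nat_lit 16], [nat_lit 17]]

theorem l2 : lvlChk img8 256 18 [16,1] (2, lW2, unp 34 (nat_lit 0xae010000a404000086010000840400006e0500006e020000660200002c0500002c020000240500002403000066000000600200006000000042020000420100004a0400004a010000400200004001000048040000480100000e0500000a0500000e0100000c050000080500000c02000006050000060300000405000004030000060000000201)) = true := by
  decide +kernel

def lW3 : List (List ℕ) := [[nat_lit 12], [nat_lit 14], [nat_lit 15], [nat_lit 16], [nat_lit 17]]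

theorem l3 : lvlChk img8 256 18 [2,16,1] (32, lW3, unp 15 (nat_lit 0xae010000a40300006e0400006e010000660100002c04000024040000240000002c0200002c000000280100006800000060030000600100002000)) = true := by
  decide +kernel

def lW4 : List (List ℕ) := [[nat_lit 14], [nat_lit 15], [nat_lit 16], [nat_lit 17]]

theorem l4 : lvlChk img8 256 18 [32,2,16,1] (4, lW4, unp 8 (nat_lit 0x8402000040000000480200000c030000080300000c000000040300000401)) = true := by
  decide +kernel

def lW5 : List (List ℕ) := [[nat_lit 14], [nat_lit 16]]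

theorem l5 : lvlChk img8 256 18 [4,32,2,16,1] (64, lW5, unp 3 (nat_lit 0x48000000400100004000)) = true := by
  decide +kernel


theorem lb8 : 174182400 ≤ Nat.card (gen M8 RT) :=
  (LBn.cast (((((((LBn.nil ph _ 256).stepU act (mem_of_letChk (Ws := RT) (by decide +kernel)) l0).stepU act (mem_of_letChk (Ws := RT) (by decide +kernel)) l1).stepU act (mem_of_letChk (Ws := RT) (by decide +kernel)) l2).stepU act (mem_of_letChk (Ws := RT) (by decide +kernel)) l3).stepU act (mem_of_letChk (Ws := RT) (by decide +kernel)) l4).stepU act (mem_of_letChk (Ws := RT) (by decide +kernel)) l5) (by decide +kernel)).1.le_card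

/-- Square roots of the root letters. -/
def SW : List (List ℕ) := [[], [], [], [], [], [], [], [], [], [], [12,13,10,12,13,12], [10,11,12,13,10,12,13,12,11,10], [10,11,10,12,11,10], [11,10,12,13,10,11,12,13,10,12,13,12,11,10,13,12,10,11], [12,13,15,14,10,11,10,12,11,10,14,15,13,12], [13,12,14,15,11,10,12,13,10,11,12,13,10,12,13,12,11,10,13,12,10,11,15,14,12,13], [12,13,17,16,10,11,10,12,11,10,16,17,13,12], [13,12,16,17,11,10,12,13,10,11,12,13,10,12,13,12,11,10,13,12,10,11,17,16,12,13]]

theorem hSW : ∀ w ∈ RT, ∃ u ∈ SW, eq8 w (u ++ u) = true := by decide +kernel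

/-- Words that move the singular vectors to the first one. -/
def TW : List (List ℕ) := [[], [], [10,11], [11], [12,13,10,11], [11,13,11], [13,10,11], [13,11], [14,15,12,13,10,11], [14,15,11,13,11], [13,15,13,10,11], [13,15,13,11], [15,12,13,10,11], [15,11,13,11], [15,13,10,11], [15,13,11], [10,12,16,11,13,17,14,15,12,13,10,11], [], [13,17,15,13,11,13,17,15,13,10,11], [], [17,15,10,11,13,17,15,12,13,10,11], [], [17,15,13,11,13,17,15,13,10,11], [], [17,10,11,13,17,14,15,12,13,10,11], [], [17,13,11,13,17,13,15,13,10,11], [], [17,10,11,13,17,15,12,13,10,11], [], [17,13,11,13,17,15,13,10,11], [], [12,16,13,17,14,15,12,13,10,11], [12,16,13,17,14,15,11,13,11], [], [], [17,15,13,17,15,12,13,10,11], [17,15,13,17,15,11,13,11], [], [], [12,13,17,14,15,12,13,10,11], [12,13,17,14,15,11,13,11], [], [], [17,13,17,15,12,13,10,11], [17,13,17,15,11,13,11], [], [], [12,16,11,13,17,14,15,12,13,10,11], [], [], [12,16,11,13,17,14,15,11,13,11], [17,15,11,13,17,15,12,13,10,11], [], [], [17,15,11,13,17,15,11,13,11], [12,11,13,17,14,15,12,13,10,11],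 [], [], [12,11,13,17,14,15,11,13,11], [17,11,13,17,15,12,13,10,11], [], [], [17,11,13,17,15,11,13,11], [16,17,14,15,12,13,10,11], [16,17,14,15,11,13,11], [16,17,13,15,13,10,11], [16,17,13,15,13,11], [], [], [], [], [17,14,15,12,13,10,11], [17,14,15,11,13,11], [17,13,15,13,10,11], [17,13,15,13,11], [], [], [], [], [16,10,11,13,17,14,15,12,13,10,11], [], [16,13,11,13,17,13,15,13,10,11], [], [], [15,10,11,13,17,13,15,13,11], [], [15,10,11,13,17,13,15,13,10,11], [10,11,13,17,14,15,12,13,10,11], [], [13,11,13,17,13,15,13,10,11], [], [], [10,11,13,17,13,15,13,11], [], [10,11,13,17,13,15,13,10,11], [16,13,17,14,15,12,13,10,11], [16,13,17,14,15,11,13,11], [], [], [], [], [15,13,17,13,15,13,10,11], [15,13,17,13,15,13,11], [13,17,14,15,12,13,10,11], [13,17,14,15,11,13,11], [], [], [], [], [13,17,13,15,13,10,11], [13,17,13,15,13,11], [16,11,13,17,14,15,12,13,10,11], [], [], [16,11,13,17,14,15,11,13,11], [], [15,11,13,17,13,15,13,11], [15,11,13,17,13,15,13,10,11], [], [11,13,17,14,15,12,13,10,11], [], [], [11,13,17,14,15,11,13,11],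 [], [11,13,17,13,15,13,11], [11,13,17,13,15,13,10,11], [], [16,17,12,13,10,11], [16,17,11,13,11], [13,17,13,10,11], [13,17,13,11], [17,12,13,10,11], [17,11,13,11], [17,13,10,11], [17,13,11], [], [], [], [], [], [], [], [], [16,15,10,11,13,17,15,12,13,10,11], [], [13,15,13,11,13,17,15,13,10,11], [], [15,10,11,13,17,15,12,13,10,11], [], [15,13,11,13,17,15,13,10,11], [], [], [15,10,11,13,17,15,13,11], [], [15,10,11,13,17,15,13,10,11], [], [10,12,11,13,17,15,11,13,11], [], [10,12,11,13,17,15,12,13,10,11], [16,15,13,17,15,12,13,10,11], [16,15,13,17,15,11,13,11], [], [], [15,13,17,15,12,13,10,11], [15,13,17,15,11,13,11], [], [], [], [], [12,13,17,15,13,10,11], [12,13,17,15,13,11], [], [], [12,13,17,15,12,13,10,11], [12,13,17,15,11,13,11], [16,15,11,13,17,15,12,13,10,11], [], [], [13,15,11,13,17,15,11,13,11], [15,11,13,17,15,12,13,10,11], [], [], [15,11,13,17,15,11,13,11], [], [12,11,13,17,15,13,11], [12,11,13,17,15,13,10,11], [], [], [12,11,13,17,15,11,13,11], [12,11,13,17,15,12,13,10,11], [], [16,17,15,12,13,10,11], [16,17,15,11,13,11],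 [16,17,15,13,10,11], [16,17,15,13,11], [], [], [], [], [], [], [], [], [17,15,12,13,10,11], [17,15,11,13,11], [17,15,13,10,11], [17,15,13,11], [16,10,11,13,17,15,12,13,10,11], [], [16,13,11,13,17,15,13,10,11], [], [], [16,10,11,13,17,15,13,11], [], [16,10,11,13,17,15,13,10,11], [], [10,11,13,17,15,13,11], [], [10,11,13,17,15,13,10,11], [10,11,13,17,15,12,13,10,11], [], [13,11,13,17,15,13,10,11], [], [16,13,17,15,12,13,10,11], [16,13,17,15,11,13,11], [], [], [], [], [16,13,17,15,13,10,11], [16,13,17,15,13,11], [], [], [13,17,15,13,10,11], [13,17,15,13,11], [13,17,15,12,13,10,11], [13,17,15,11,13,11], [], [], [16,11,13,17,15,12,13,10,11], [], [], [16,11,13,17,15,11,13,11], [], [16,11,13,17,15,13,11], [16,11,13,17,15,13,10,11], [], [], [11,13,17,15,13,11], [11,13,17,15,13,10,11], [], [11,13,17,15,12,13,10,11], [], [], [11,13,17,15,11,13,11]]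

theorem hTW : ∀ v : Fin 256, v ≠ 0 → qf false v = false →
    letChk RT [nthW TW v] = true ∧ inR 27 (nthW TW v) = true ∧ trF img8 (nthW TW v) v = 1 := by
  decide +kernel

theorem trans8 {v : Fin 256} (h0 : v ≠ 0) (h : qf false v = false) : ∃ σ ∈ gen M8 RT, σ v = 1 := by
  obtain ⟨h1, h2, h3⟩ := hTW v h0 h
  exact ⟨_, inv_mem (mem_of_letChk h1 _ List.mem_cons_self), Fin.ext (by rw [evM_inv h2, h3]; rfl)⟩

variable {G : Type*} [Group G] [Finite G] {z : G} {Q : Subgroup G} {m : Bool} {a : ℕ → G}

theorem rho_le (E : ES z Q) (F : Fr z Q m a) : (rho E F).range ≤ OG m := by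
  rintro _ ⟨c, rfl⟩
  exact ⟨fun u v => Fin.ext (rc_xor E F (mem_cen.mp c.2) u.2 v.2),
    fun v => rc_qf E F (mem_cen.mp c.2) v.2⟩

theorem plus (E : ES z Q) (F : Fr z Q m a) : m = false := by
  cases m
  · rfl
  have h1 := card_dvd_of_le (rho_le E F)
  rw [card_range E F] at h1
  have h2 := Nat.le_of_dvd Nat.card_pos
    (Nat.Coprime.mul_dvd_of_dvd_of_dvd (by norm_num) dvd_minus h1)
  have := card_minus
  omega

theorem range_eq (E : ES z Q) (F : Fr z Q false a) : (rho E F).range = gen M8 RT := by
  have k : ∀ σ ∈ OG false, σ * σ ∈ (rho E F).range := fun σ hσ => by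
    have h1 := ((rho E F).range.subgroupOf (OG false)).card_mul_index
    rw [Nat.card_congr (subgroupOfEquivOfLe (rho_le E F)).toEquiv, card_range E F] at h1
    have h2 := card_plus
    have h3 : 0 < Nat.card (OG false) := Nat.card_pos
    have h4 : ((rho E F).range.subgroupOf (OG false)).index = 1 ∨
        ((rho E F).range.subgroupOf (OG false)).index = 2 := by omega
    rcases h4 with h | h
    · exact subgroupOf_eq_top.mp (index_eq_one.mp h) (mul_mem hσ hσ)
    · exact mul_self_mem_of_index_two h ⟨σ, hσ⟩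
  refine (eq_of_le_of_card_ge (gen_le fun w hw => ?_) ((card_range E F).le.trans lb8)).symm
  obtain ⟨u, -, h⟩ := hSW w hw
  rw [eq8_spec h, evL_append]
  exact k _ (evM_mem u)

theorem index_fix (E : ES z Q) (F : Fr z Q false a) : (fixS (rho E F) [1]).index = 135 := by
  have : orb (rho E F) ⊤ 1 = ↑(Finset.univ.filter fun v : Fin 256 => v ≠ 0 ∧ qf false v = false) := by
    ext v
    simp only [Finset.coe_filter, Finset.mem_univ, true_and, Set.mem_ofPred_eq]
    constructor
    · rintro ⟨c, -, rfl⟩
      have h := inv_mem (rho_le E F ⟨c, rfl⟩)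
      refine ⟨fun e => ?_, (h.2 1).trans rfl⟩
      rw [← OG_zero h] at e
      exact absurd ((rho E F c)⁻¹.injective e) (by decide)
    · rintro ⟨h0, h⟩
      obtain ⟨σ, h1, h2⟩ := trans8 h0 h
      rw [← range_eq E F] at h1
      obtain ⟨c, rfl⟩ := h1
      exact ⟨c, trivial, by rw [← h2]; simp⟩
  rw [index_fixS, this, Set.ncard_coe_finset]
  decide +kernel

end Cfsg.Co.Rc
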