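import Cfsg.Agent.Co.CM
import Cfsg.Agent.Co.C1b
import Cfsg.Agent.Co.M2
import Cfsg.Agent.Co.C0.Main

/-! The finite checks in the model. -/

set_option autoImplicit false
set_option maxRecDepth 100000
set_option Elab.async false

namespace Cfsg.Co.Md

open Cfsg.H4.Golay Cfsg.H6

/-- The word is a relator in one of the two groups of the amalgam. -/
noncomputable def okW (w : List ℕ) : Bool := (inR 27 w || inK w) && fixB im 28 [b1] w

/-- The letters that are sign changes. -/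
def EL : List ℕ := [1,2,3,4,5,16,20,21,22,23,24]

/-- The letters that generate the complement. -/
def ML : List ℕ := [6,7,8,9,10,11,12,13,14,15,18,19,27]

/-- The action of `ML` on `EL`. -/
def tab : List (ℕ × ℕ × List ℕ) := [(6, 1, [1]), (6, 2, [1,2]), (6, 3, [3]), (6, 4, [4]), (6, 5, [5]), (6, 16, [16]), (6, 20, [3,20]), (6, 21, [4,21]), (6, 22, [5,22]), (6, 23, [23]), (6, 24, [24]), (7, 1, [1]), (7, 2, [2]), (7, 3, [1,3]), (7, 4, [4]), (7, 5, [5]), (7, 16, [16]), (7, 20, [1,2,20]), (7, 21, [21]), (7, 22, [22]), (7, 23, [4,23]), (7, 24, [5,24]), (8, 1, [1]), (8, 2, [2]), (8, 3, [3]), (8, 4, [1,4]), (8, 5, [5]), (8, 16, [5,16]), (8, 20, [20]), (8, 21, [1,2,21]), (8, 22, [22]), (8, 23, [3,23]), (8, 24, [24]), (9, 1, [1]), (9, 2, [2]), (9, 3, [3]), (9, 4, [4]), (9, 5, [1,5]), (9, 16, [4,16]), (9, 20, [20]), (9, 21, [21]), (9, 22, [1,2,22]), (9, 23, [23]), (9, 24, [3,24]), (10, 1, [1]), (10, 2, [2]), (10, 3, [1,2,3]), (10, 4,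 [4]), (10, 5, [5]), (10, 16, [1,16]), (10, 20, [2,20]), (10, 21, [21]), (10, 22, [22]), (10, 23, [1,21,23]), (10, 24, [1,22,24]), (11, 1, [1]), (11, 2, [2,3]), (11, 3, [3]), (11, 4, [4]), (11, 5, [5]), (11, 16, [1,16]), (11, 20, [1,3,20]), (11, 21, [1,21,23]), (11, 22, [22,24]), (11, 23, [23]), (11, 24, [24]), (12, 1, [1]), (12, 2, [2]), (12, 3, [3]), (12, 4, [3,4]), (12, 5, [5]), (12, 16, [1,16,24]), (12, 20, [20]), (12, 21, [1,20,21]), (12, 22, [1,22]), (12, 23, [1,3,23]), (12, 24, [24]), (13, 1, [1]), (13, 2, [2]), (13, 3, [3,4]), (13, 4, [4]), (13, 5, [5]), (13, 16, [16]), (13, 20, [20,21]), (13, 21, [21]), (13, 22, [1,22]), (13, 23, [1,4,23]), (13, 24, [16,24]), (14, 1, [1]), (14, 2, [2]), (14, 3, [3]), (14, 4, [4]), (14, 5, [4,5]), (14, 16, [1,4,16]), (14, 20, [1,20]), (14, 21, [21]), (14, 22, [1,21,22]), (14, 23, [23]), (14, 24, [1,23,24]), (15, 1, [1]), (15, 2, [2]), (15, 3, [3]), (15, 4, [4,5]), (15, 5, [5]), (15,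 16, [1,5,16]), (15, 20, [1,20]), (15, 21, [1,21,22]), (15, 22, [22]), (15, 23, [23,24]), (15, 24, [24]), (18, 1, [1]), (18, 2, [2]), (18, 3, [3]), (18, 4, [1,2,4]), (18, 5, [5]), (18, 16, [16,22]), (18, 20, [20]), (18, 21, [2,21]), (18, 22, [22]), (18, 23, [20,23]), (18, 24, [1,24]), (19, 1, [1]), (19, 2, [2]), (19, 3, [3]), (19, 4, [4]), (19, 5, [1,2,5]), (19, 16, [16,21]), (19, 20, [20]), (19, 21, [21]), (19, 22, [2,22]), (19, 23, [1,23]), (19, 24, [1,20,24]), (27, 1, [1,2]), (27, 2, [2]), (27, 3, [1,3,20]), (27, 4, [4,21]), (27, 5, [1,5,22]), (27, 16, [1,16,20,21]), (27, 20, [2,20]), (27, 21, [21]), (27, 22, [2,22]), (27, 23, [20,21,22,23]), (27, 24, [2,21,24])]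

theorem tab_ok : tab.all (fun e => e.2.2.all EL.elem && okW ([e.1, e.2.1, e.1] ++ e.2.2.reverse)) =
    true := by decide +kernel

theorem tab_all : ∀ l ∈ ML, ∀ k ∈ EL, ∃ e ∈ tab, e.1 = l ∧ e.2.1 = k := by decide +kernel

theorem EL_ok : ∀ l ∈ EL, 1 ≤ l ∧ l < 27 ∧ l ≠ 17 ∧ l ≠ 26 ∧ ∀ i < 24, tb (ta l) i = i := by
  decide +kernel

theorem ML_ok : ∀ l ∈ 25 :: ML, 1 ≤ l ∧ l < 28 ∧ l ≠ 17 ∧ l ≠ 26 ∧ em l = 0 := by decide +kernel

/-- The mask of a word. -/
noncomputable def xorL (w : List ℕ) : ℕ := w.foldr (fun l m => em l ^^^ m) 0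

theorem basis_ok : ∀ b ∈ basis, ∃ w ∈ [[3,20,21,22,23,24], [2,20,21,22,24], [1,4,22], [1,2,3,4,5,21,23], [1,4,5,16,20,22,23,24], [1,2,5,20,22,24], [1,3,4,5,16,24], [20,22], [1,2,3,4,5,16,20,21,24], [1,22,24], [1,2,4,5,16,21,23,24], [3,20]], w.all EL.elem = true ∧
    (xorL w = b ∨ xorL w = 16777215 ^^^ b) := by decide +kernel

/-- The permutation of a word. -/
noncomputable def apl (w : List ℕ) (i : ℕ) : ℕ := w.foldr (fun x p => tb (ta x) p) i

/-- The root of the last relator. -/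
def uw : List ℕ := [27,7,11,14,15]

/-- The last relator. -/
def w0 : List ℕ := rp 4 uw

/-- An element of order three. -/
def sw : List ℕ := [11,10]

theorem w0_e0 : fixB im 28 [b1] w0 = true := by decide +kernel

theorem rw_ok : rwChk okW [(16, 6, [7,10,14,15]), (13, 9, [15,18,14]), (11, 8, [7,12,18]), (8, 8, [10,14,8,12,19,15]), (23, 10, [7,10,14,15]), (20, 9, [15,18,14]), (18, 8, [7,12,18]), (15, 8, [10,14,8,12,19,15]), (6, 18, [10,12,7,19]), (3, 9, [14,12,15,18]), (1, 9, [7,15,14,19]), (0, 7, [10,15,14]), (0, 10, [])]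
    (w0 ++ (sw ++ w0 ++ sw.reverse) ++ (sw ++ (sw ++ w0 ++ sw.reverse) ++ sw.reverse)) = true := by
  decide +kernel

/-- A bit as a residue. -/
def bt (m i : ℕ) : ZMod 2 := if m.testBit i then 1 else 0

/-- The first condition. -/
noncomputable def cA (m : ℕ) (e : ZMod 2) : Bool :=
  (List.range 24).all fun i => decide (bt m (apl uw.reverse i) = e + bt m i)

/-- The second condition. -/
noncomputable def cB (m : ℕ) (e : ZMod 2) : Bool :=
  (List.range 24).all fun i => decide (bt m i + bt m (apl sw.reverse i) +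
    bt m (apl sw.reverse (apl sw.reverse i)) = e)

theorem fin_ok : allSpan (fun m => !((cA m 0 || cA m 1) && (cB m 0 || cB m 1)) ||
    m == 0 || m == 16777215) basis 0 = true := by decide +kernel

theorem R_ok : ∀ r ∈ C0.R, (r = w0 ∨ okW r = true) ∧ inR 28 r = true ∧ ∀ i < 24, apl r i = i := by
  decide +kernel

/-- Letters that are words in known letters. -/
def gr : List (ℕ × List ℕ) := [(2, [26, 7, 26, 7]), (1, [6, 2, 6, 2]), (3, [2, 11, 2, 11]),
  (4, [3, 13, 3, 13]), (5, [4, 15, 4, 15]), (20, [3, 1, 27, 3, 27]), (21, [4, 27, 4, 27]),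
  (22, [5, 1, 27, 5, 27]), (23, [21, 1, 11, 21, 11]), (24, [22, 11, 22, 11]),
  (16, [24, 13, 24, 13]), (17, [26, 20, 3])]

theorem gr_ok : growChk okW (26 :: ML) gr = true := by decide +kernel

/-- The relators of the double coset enumeration. -/
def RB : List (List ℕ) := [[26,8,26,8], [26,9,26,9], [26,10,26,10], [26,12,26,12], [26,14,26,14], [26,15,26,15], [26,18,26,18], [26,19,26,19], [26,27,26,27], [26,25,26,25], [26,13,26,8,12,13,12,26,7,13,12,19]]

theorem RB_ok : RB.all okW = true := by decide +kernel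

theorem k1_ok : okW ([25] ++ [6, 11].reverse) = true ∧ ∀ i < 24, apl [25] i = apl [6, 11] i := by
  decide +kernel

theorem tq_ok : okW ([26, 7, 26] ++ [2, 7].reverse) = true := by decide +kernel

theorem tz_ok : okW ([27, 1, 27] ++ [1, 2].reverse) = true ∧ val [1] ≠ val [1, 2] := by
  decide +kernel

theorem oct_ok : ∀ l ∈ ML, l = 27 ∨
    ∀ i < 24, (em 1).testBit i = (em 1).testBit (tb (ta l) i) := by decide +kernel

end Cfsg.Co.Md
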