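import Cfsg.Agent.Co.C1
import Cfsg.Agent.Co.M1
import Cfsg.Agent.H6.M24

set_option autoImplicit false
set_option maxRecDepth 100000
set_option Elab.async false

namespace Cfsg.Co.CM

open Cfsg.H6

open Cfsg.H4.Golay Cfsg.Co.Md

/-- The letters of the model among all letters. -/
def s1 : List ℕ := [0,6,7,8,9,10,11,12,13,14,15,18,19,27,25]

/-- The letters of the model. -/
noncomputable def ev (l : ℕ) : M24 := pl (s1.getD l 0)

noncomputable def img (x p : ℕ) : ℕ :=
  Nat.land (Nat.shiftRight (nat_lit 0x928ae9ddb07d22b658e8492a61882063eb44c946b1db74466b740851882072eb4848b345da7b10cf6262a188208a6b47cae8995aa332d022dc718820b92957ca30995ab618e84a9d61880171eb29d23045dab6254fb10a600823432a098e3073db6390d75a4aa90834b9ab47ca289b9a749170658aa10c01baab40ca22039ab658e3490a64426f41eb42ca1173dab61897b2a6918820759b2850b345eac5a92f39a24004438da957b6e89964c5a930399c410c014582028e1173c4c5a93739a64936b4958ae0dda20522c5a92339aa44426fbdab49ca307b9ac5a928398a418820) (Nat.add (Nat.mul 120 x) (Nat.mul 5 p))) 31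

theorem img_eq : ∀ x < 15, s1.getD x 0 < 28 ∧ ∀ p < 24, img x p = tb (ta (s1.getD x 0)) p := by
  decide +kernel

theorem rep_pl {l : ℕ} (h : l < 28) : Rep (pl l) (tb (ta l)) := by
  unfold pl
  rw [dif_pos h]
  exact idx_prm (hi l h)

theorem pl_sq (l : ℕ) : pl l * pl l = 1 := by
  by_cases h : l < 28
  · exact ((rep_pl h).mul (rep_pl h)).eq Rep.one fun i a => (hi l h i a).2.2.1
  · unfold pl
    rw [dif_neg h, one_mul]

theorem ev_inv (l : ℕ) : (ev l)⁻¹ = ev l := inv_eq_of_mul_eq_one_right (pl_sq _)

theorem lab : Lab M24.subtype ev pt img 24 15 := by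
  refine ⟨fun x _ h p hp => ?_, fun p hp q hq e => by rw [← idx_pt p hp, e, idx_pt q hq]⟩
  rw [← map_inv, ev_inv, (img_eq x h).2 p hp]
  exact ⟨(rep_pl (img_eq x h).1).pt hp, (hi _ (img_eq x h).1 p hp).1⟩

theorem act : ∃ φ : M24 →* Equiv.Perm ℕ, IsAct φ ev img 24 15 :=
  isAct_of_lab lab fun _ _ _ => ⟨_, idx_lt _, (pt_idx _).symm⟩

/-- The action on the numbers of the points. -/
noncomputable def φ : M24 →* Equiv.Perm ℕ := act.choose

theorem hφ : IsAct φ ev img 24 15 := act.choose_spec

def lW0 : List (List ℕ) := [[nat_lit 1], [nat_lit 2], [nat_lit 3], [nat_lit 4], [nat_lit 5], [nat_lit 6], [nat_lit 7], [nat_lit 13]]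

theorem l0 : lvlChk img 24 15 [] (0, lW0, unp 23 (nat_lit 0x1707000005070000050300001503000016060000160500000807000013070000130300000e0700000e0300000e0200000103000014030000140200000f0700000f0300000f0200000f0100000003000000020000000100000000)) = true := by
  decide +kernel

def lW1 : List (List ℕ) := [[nat_lit 5], [nat_lit 11], [nat_lit 12], [nat_lit 13], [nat_lit 6, nat_lit 1], [nat_lit 8, nat_lit 2], [nat_lit 10, nat_lit 3]]

theorem l1 : lvlChk img 24 15 [0] (1, lW1, unp 22 (nat_lit 0x20600000d0600000d050000110400000e04000008030000170000000a010000090200000901000004000000050300001103000011000000050200000e0300000e0200000e0000000501000005000000150400000105)) = true := by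
  decide +kernel

def lW2 : List (List ℕ) := [[nat_lit 5], [nat_lit 11], [nat_lit 12], [nat_lit 13], [nat_lit 6, nat_lit 1], [nat_lit 10, nat_lit 3], [nat_lit 8, nat_lit 10, nat_lit 3, nat_lit 8]]

theorem l2 : lvlChk img 24 15 [1,0] (2, lW2, unp 21 (nat_lit 0xe04000005040000120500000a0300000403000004010000040000000a020000060000000b0100000b000000080300000f0300000f0100000f00000008020000080100001700000012040000020600000205)) = true := by
  decide +kernel

def lW3 : List (List ℕ) := [[nat_lit 5], [nat_lit 11], [nat_lit 12], [nat_lit 13], [nat_lit 6, nat_lit 1], [nat_lit 1, nat_lit 3, nat_lit 8, nat_lit 13, nat_lit 10, nat_lit 6, nat_lit 13, nat_lit 8, nat_lit 3, nat_lit 1]]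

theorem l3 : lvlChk img 24 15 [2,1,0] (3, lW3, unp 20 (nat_lit 0xe0400001104000017040000070100000c020000080200000b0200000602000006010000100300001103000017030000170000001101000011000000050200000501000005000000150400000305)) = true := by
  decide +kernel

def lW4 : List (List ℕ) := [[nat_lit 5], [nat_lit 11], [nat_lit 12], [nat_lit 13], [nat_lit 6, nat_lit 1]]

theorem l4 : lvlChk img 24 15 [3,2,1,0] (4, lW4, unp 19 (nat_lit 0xe0400001704000011040000050400000b000000160200000901000011010000050100001003000010010000100000001302000013010000050000000403000004020000040100000400)) = true := by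
  decide +kernel

def lW5 : List (List ℕ) := [[nat_lit 5, nat_lit 12, nat_lit 6, nat_lit 1]]

theorem l5 : lvlChk img 24 15 [4,3,2,1,0] (7, lW5, unp 2 (nat_lit 0xc0000000700)) = true := by
  decide +kernel

def lW6 : List (List ℕ) := [[nat_lit 3, nat_lit 7, nat_lit 12], [nat_lit 2, nat_lit 13, nat_lit 6, nat_lit 13, nat_lit 2], [nat_lit 4, nat_lit 6, nat_lit 12, nat_lit 6, nat_lit 11], [nat_lit 13, nat_lit 1, nat_lit 6, nat_lit 13, nat_lit 6, nat_lit 1, nat_lit 13]]

theorem l6 : lvlChk img 24 15 [7,4,3,2,1,0] (5, lW6, unp 15 (nat_lit 0x160000001401000014000000120200000d000000060100000600000005030000100000000f0200000e000000050200000f000000050100000500)) = true := by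
  decide +kernel

def X : List (List ℕ) := [[1], [2], [3], [4], [5], [6], [7], [8], [9], [10], [11], [12], [13]]

def bs : List ℕ := [5,7,4,3,2,1,0]

theorem lb : LBn φ (gen ev X) 24 bs 244823040 :=
  LBn.cast ((((((((LBn.nil φ _ 24).stepU hφ (mem_of_letChk (Ws := X) (by decide +kernel)) l0).stepU hφ (mem_of_letChk (Ws := X) (by decide +kernel)) l1).stepU hφ (mem_of_letChk (Ws := X) (by decide +kernel)) l2).stepU hφ (mem_of_letChk (Ws := X) (by decide +kernel)) l3).stepU hφ (mem_of_letChk (Ws := X) (by decide +kernel)) l4).stepU hφ (mem_of_letChk (Ws := X) (by decide +kernel)) l5).stepU hφ (mem_of_letChk (Ws := X) (by decide +kernel)) l6) (by decide +kernel)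

theorem hX : gen ev X = ⊤ :=
  Subgroup.eq_top_of_le_card _ (H6.M24.card_le.trans lb.1.le_card)

theorem main : Nat.card M24 = 244823040 ∧ fixS φ bs = ⊥ ∧ Oracle ev img 15 bs :=
  (hX ▸ lb : LBn φ ⊤ 24 bs _).oracle hφ H6.M24.card_le

theorem card : Nat.card M24 = 244823040 := main.1

theorem ora : Oracle ev img 15 bs := main.2.2

end Cfsg.Co.CM
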