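import Cfsg.Agent.Co.E1
import Cfsg.Agent.H6.HNR.Fis2

/-! The involutions of `Co₁`. -/

set_option autoImplicit false
set_option maxRecDepth 100000

namespace Cfsg.Co

open Cfsg.H4.Golay Cfsg.H6 Cfsg.H6.Leech Cfsg.H2 Matrix

/-- The sign of a mask at a point. -/
def sgn (m i : ℕ) : ℤ := if m.testBit i then -1 else 1

/-- The matrix `c` intertwines two signed permutations. -/
noncomputable def cjChk (c m : ℕ) (f : ℕ → ℕ) (m' : ℕ) (f' : ℕ → ℕ) : Bool :=
  (List.range 24).all fun p => (List.range 24).all fun q =>
    sgn m (f p) * Leech.ent c (24 * f p + f' q) == sgn m' (f' q) * Leech.ent c (24 * p + q)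

theorem HasMat.cj {g : Co0} {c m m' : ℕ} (h : HasMat g c) (hm : wd m ∈ golayCode)
    (hm' : wd m' ∈ golayCode) {π π' : M24} {f f' : ℕ → ℕ} (h1 : Rep π f) (h2 : Rep π' f')
    (hc : cjChk c m f m' f' = true) :
    g * (eps (wd m) hm * toCo0 π) * g⁻¹ = eps (wd m') hm' * toCo0 π' := by
  simp only [cjChk, List.all_eq_true, List.mem_range, beq_iff_eq] at hc
  rw [mul_inv_eq_iff_eq_mul]
  refine ext_E fun p => Subtype.ext (funext fun q => ?_)
  obtain ⟨q, rfl⟩ := π'.1.surjective q
  have := hc _ (idx_lt p) _ (idx_lt q)
  rw [mul_apply, mul_apply, toCo0_E, eps_E, map_zsmul, mul_apply, mul_apply, eps_apply,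
    toCo0_apply, h, sg_wd, sg_wd]
  change _ * (g.1 (E _)).1 _ = _
  rw [h, h1, h2]
  exact this

theorem toCo0_eq_eps {π : M24} {c : GolayPt → ZMod 2} {hc : c ∈ golayCode}
    (h : toCo0 π = eps c hc) : π = 1 := Subtype.ext (Equiv.ext fun i => by
  by_contra hne
  have := congrArg (fun g : Co0 => (g.1 (E i)).1 (π.1 i)) h
  simp only [toCo0_apply, eps_apply, E_self] at this
  rw [E_ne (show π.1 i ≠ i from hne)] at this
  omega)

theorem toCo0_mul_eps (π : M24) {c : GolayPt → ZMod 2} (hc : c ∈ golayCode) :
    toCo0 π * eps c hc = eps (c ∘ π⁻¹.1) (comp_mem π⁻¹.2 hc) * toCo0 π :=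
  mul_inv_eq_iff_eq_mul.mp (conj_eps π hc)

theorem eps_congr {c d : GolayPt → ZMod 2} (hc : c ∈ golayCode) (e : c = d) :
    eps c hc = eps d (e ▸ hc) := by subst e; rfl

theorem W0_mem : wd 761641 ∈ golayCode := wd_mem (by decide +kernel)

/-- An element whose square is `-1`. -/
noncomputable def w4 : Co0 := eps (wd 761641) W0_mem * toCo0 (gP 6)

/-- The element is conjugate to a sign change or to `w4`. -/
def Cls (y : Co0) : Prop := (∃ c hc, IsConj y (eps c hc)) ∨ IsConj y w4

theorem Cls.of_conj {x y : Co0} (h : Cls y) (e : IsConj x y) : Cls x :=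
  h.imp (fun ⟨c, hc, h⟩ => ⟨c, hc, e.trans h⟩) e.trans

theorem conj_shift {p : M24} (h2 : p * p = 1) {c d : GolayPt → ZMod 2} (hc : c ∈ golayCode)
    (hd : d ∈ golayCode) : IsConj (eps c hc * toCo0 p) (eps (c + (d + d ∘ p.1))
      (Submodule.add_mem _ hc (Submodule.add_mem _ hd (comp_mem p.2 hd))) * toCo0 p) := by
  refine isConj_iff.mpr ⟨eps d hd, ?_⟩
  rw [inv_eq_of_mul_eq_one_right (eps_mul_self hd), mul_assoc, mul_assoc, toCo0_mul_eps,
    ← mul_assoc, ← mul_assoc, eps_mul, eps_mul]
  congr 1
  refine eps_congr _ ?_
  rw [inv_eq_of_mul_eq_one_right h2]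
  abel

theorem isConj_neg {x y : Co0} (h : IsConj x y) : IsConj (neg * x) (neg * y) := by
  obtain ⟨g, rfl⟩ := isConj_iff.mp h
  refine isConj_iff.mpr ⟨g, ?_⟩
  rw [← mul_assoc g, Subgroup.mem_center_iff.mp neg_mem_center g]
  group

theorem neg_w4 : IsConj (neg * w4) w4 := by
  have m : wd 6371221 ∈ golayCode := wd_mem (by decide +kernel)
  have h := conj_shift gP6_sq W0_mem m
  have e : wd 6371221 + wd 6371221 ∘ (gP 6).1 = 1 := by
    rw [← (rep_gP 6).wd (m := 10405994) (by decide +kernel), ← wd_xor, one_eq]
    rfl
  rw [w4, ← mul_assoc, neg_mul_eps, eps_congr _ (show 1 + wd 761641 = wd 761641 +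
    (wd 6371221 + wd 6371221 ∘ (gP 6).1) by rw [e, add_comm])]
  exact h.symm

theorem Cls.neg {y : Co0} (h : Cls y) : Cls (neg * y) := by
  rcases h with ⟨c, hc, h⟩ | h
  · exact Or.inl ⟨_, _, neg_mul_eps hc ▸ isConj_neg h⟩
  · exact Or.inr ((isConj_neg h).trans neg_w4)

/-- Masks that do not change the class. -/
def Shift (p : M24) (g : ℕ) : Prop :=
  wd g ∈ golayCode ∧ ∀ c hc hc', Cls (eps (c + wd g) hc' * toCo0 p) → Cls (eps c hc * toCo0 p)

theorem cls_red {p : M24} : ∀ (gs : List ℕ), (∀ g ∈ gs, Shift p g) → ∀ m (hm : wd m ∈ golayCode),
    (∀ h, Cls (eps (wd (red gs m)) h * toCo0 p)) → Cls (eps (wd m) hm * toCo0 p)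
  | [], _, _, hm, h => h hm
  | g :: gs, hg, m, hm, h => by
    have h1 := hg g List.mem_cons_self
    have h2 := cls_red gs fun g' h' => hg g' (List.mem_cons_of_mem _ h')
    rw [H4.Golay.red] at h
    by_cases hlt : m ^^^ g < m
    · rw [if_pos hlt] at h
      have h3 : wd (m ^^^ g) ∈ golayCode := by
        rw [wd_xor]; exact Submodule.add_mem _ hm h1.1
      have h4 := h2 _ h3 h
      rw [eps_congr _ (wd_xor m g)] at h4
      exact h1.2 _ _ _ h4
    · rw [if_neg hlt] at h
      exact h2 m hm h

noncomputable def shChk (k : ℕ) (e : ℕ × ℕ × ℕ × Bool) : Bool :=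
  red basis e.2.1 == 0 && ((List.range 24).all fun i =>
    e.2.2.1.testBit i == e.2.1.testBit (tb (gT k) i)) &&
  e.1 == e.2.1 ^^^ e.2.2.1 ^^^ if e.2.2.2 then 16777215 else 0

theorem shift_of_chk {k : ℕ} (h2 : gP k * gP k = 1) {e : ℕ × ℕ × ℕ × Bool}
    (h : shChk k e = true) : Shift (gP k) e.1 := by
  obtain ⟨g, d, d', b⟩ := e
  simp only [shChk, Bool.and_eq_true, beq_iff_eq, List.all_eq_true, List.mem_range] at h
  obtain ⟨⟨h3, h4⟩, h5⟩ := h
  have m := wd_mem h3
  have m2 := Submodule.add_mem _ m (comp_mem (gP k).2 m)
  have e := congrArg wd h5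
  rw [wd_xor, wd_xor, (rep_gP k).wd h4] at e
  cases b
  · simp only [Bool.false_eq_true, if_false, wd_zero, add_zero] at e
    refine ⟨e ▸ m2, fun c hc hc' h => ?_⟩
    rw [eps_congr _ (congrArg (c + ·) e)] at h
    exact h.of_conj (conj_shift h2 hc m)
  · simp only [if_true, ← one_eq] at e
    refine ⟨e ▸ Submodule.add_mem _ m2 one_mem_code, fun c hc hc' h => ?_⟩
    have h6 := h.neg
    rw [← mul_assoc, neg_mul_eps, eps_congr _ (show 1 + (c + wd g) =
      c + (wd d + wd d ∘ (gP k).1) by
        rw [e, add_comm 1, add_assoc, add_assoc, CharTwo.add_self_eq_zero, add_zero])] at h6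
    exact h6.of_conj (conj_shift h2 hc m)

noncomputable def repChk (k : ℕ) (e : ℕ × ℕ × ℕ) : Bool :=
  autChk e.2.2 && red basis e.2.1 == 0 && cjChk e.2.2 e.1 (tb (gT k)) e.2.1 fun i => i

theorem cls_of_chk {k : ℕ} {e : ℕ × ℕ × ℕ} (h : repChk k e = true) (hm : wd e.1 ∈ golayCode) :
    Cls (eps (wd e.1) hm * toCo0 (gP k)) := by
  simp only [repChk, Bool.and_eq_true, beq_iff_eq] at h
  have := (hasMat_cu h.1.1).cj hm (wd_mem h.1.2) (rep_gP k) Rep.one h.2
  rw [map_one, mul_one] at this
  exact Or.inl ⟨_, _, isConj_iff.mpr ⟨_, this⟩⟩

noncomputable def condB (k m : ℕ) : Bool :=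
  ((List.range 24).all fun i => m.testBit i == m.testBit (tb (gT k) i)) ||
    (List.range 24).all fun i => m.testBit i != m.testBit (tb (gT k) i)

theorem cls_of_data {k : ℕ} (h2 : gP k * gP k = 1) {S : List (ℕ × ℕ × ℕ × Bool)} {R : List ℕ}
    (hS : S.all (shChk k) = true)
    (hR : ∀ r ∈ R, ∀ h, Cls (eps (wd r) h * toCo0 (gP k)))
    (h : allSpan (fun m => !condB k m || R.elem (red (S.map Prod.fst) m)) basis 0 = true)
    {c : GolayPt → ZMod 2} (hc : c ∈ golayCode)
    (e : c + c ∘ (gP k).1 = 0 ∨ c + c ∘ (gP k).1 = 1) : Cls (eps c hc * toCo0 (gP k)) := by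
  obtain ⟨m, h1, rfl⟩ := exists_mask h hc
  have h3 : condB k m = true := by
    simp only [condB, Bool.or_eq_true, List.all_eq_true, List.mem_range, beq_iff_eq, bne_iff_ne]
    refine e.imp (fun e i hi => ?_) fun e i hi => ?_
    all_goals
      have := congrFun e (pt i)
      simp only [Pi.add_apply, Function.comp_apply, wd, rep_gP k (pt i), idx_pt i hi,
        Pi.zero_apply, Pi.one_apply] at this
      revert this
      cases m.testBit i <;> cases m.testBit (tb (gT k) i) <;> decide
  rw [h3, Bool.not_true, Bool.false_or] at h1
  refine cls_red (S.map Prod.fst) (fun g hg => ?_) m hc (hR _ (List.mem_of_elem_eq_true h1))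
  obtain ⟨e, he, rfl⟩ := List.mem_map.mp hg
  exact shift_of_chk h2 (List.all_eq_true.mp hS e he)

/-- Diagonalising matrices. -/
def MA : List (ℕ × ℕ × ℕ) := [(0, 1204944, nat_lit 0x421083210e321084210a42108518c6528c6428c8418ca31948328c6421083294a419484294a3194832946421083294a42948418ca528c8328ca42108328c64194841946518c8528c64210832946418c8418ca318c85194a421084210832106321084210242108518c6328ca418c8428c651948318ca42108328ca428c841946328c831946421084210872106321084210a42108518c632946428c84294a52948518c642108421085210a52108421064210832942528ca429484294a318c8518ca42108421085210a1210842106421083294a528ca41948418ca529485194642108328c642948428c6329485294a42108421085210a5210842106421083284a528c6418c84294a528c83294a421084210832106321084210a42108538c6421085210a5210842106421087294a318c642948428ca518c83194642108318ca428c84194a519485294a42108318ca418c8428ca328c8528c642108318c6419484194a32948318ca42108), (5279, 7680460, nat_lit 0x621084208843108421084218842108421084210842108421084210861084421082210c22108421044210842108421082210c621084210c42108421084310842108421086208843108421084210822104221084210c42108421086210842188431084210842088421084110842108421086208841108421084110842108421082208843108421086210842188411084210842188421084210822104621084210442108421084208443108420884210842108421084210842108421084210842108230844218c43108420884210842108421084210842108421084210842108211844310842108421082208841108421084208c411084208842108421084210842108421084210842108421086318462108420884110842108420884210842184411084208842108421084210842108421084210c43108621044210842108421084210c411086210c4210842108421084210c431082210c4210842108421084210c411082210442108),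 (18147, 3979916, nat_lit 0x221084218841108421084208842108421086210c62108421044210842108421084210842108421084210861084421084210842104411082210c4210842108421084210c41108221044210842108421084210842108421082308462108421884310842108420884210842108421084210441108621044210842108421084210842108421086308c42184411084208842108421084210842108421084210c411086210c42108621084208841108421084208842108421082210c221084210442108421084218c431084208842108421084210841108421084210862188431084210842108421084210842108421082108c4208c4110842088421084210842108431084210842108621884110842108420844310842088421084210842108221084208843108421084208842108421086210c221084210c4210842108421082210c621084210c4210842108411084210842108221884110842108431084210842108221884310842108), (21116, 11736476, nat_lit 0x411084210842108220884310842108221084218843108421084218842108421082210c621084210c42108421084208c41108420884210842108421084210862104621084210c4210842108421082210462108421044210842108411084210842108221884110842108421086210c6210842104421084210842084411084218842108421084210842108421084210443108221044210842184411084208842108421084210842108421084210c43108621044210862108420884310842108421884210843108421084210822188431084210842108421084210842108421082318c4218c411084218842108421084210843108421084210822088411084210842108421084210842108421082308442108421084210c431082210c42108421084210842104431086210c4210842108421084210842108421086308c421084210842108421084210863184221084208841108421084218842108621084218841108421084218842108),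 (165759, 10453402, nat_lit 0x41108421084210862088411084210842108421084210842108421082318c420844310842088421084210842108421084210842104411082210c421086210842088411084210842088421084208c411084208842108421084210842108621042210842104421084210822108421884110842108420884210842108421084210842108421086118c41108421084210822188411084210842108421084210441108621044210841108421084210822088431084210842108421084210842108421086308c4210822104221084210c4210842108221084208843108421084208842108421084210842108421084210863184431084210842108220884110842108221084208841108421084218842108421082210c2210842104421084210842108221046210842104421084210842084411084218842108421084210842184411084208842108421084210842108421084210443108221044210842108421084210c411082210442108), (168928, 15393322, nat_lit 0x421084210842104411086210442108421844110842088421084210842108421086210c221084210c42108421084310842108421086208843108421084218c4110842188421084210842108421082210c621084210c42108421082210842088431084210842088421084208c411084208842108421084210842108421084210842108421082318c42108421084210c431086210442108411084210842108621884310842108621084208841108421084208842108420844110842188421084210842108421084210842104431086210c4210842108421084210842108421086118c42108421084210842108421082118422108421884110842108420884210842108421084210842108421086318462108421884310842108420884210842108421084210c411086210c421084110842108421082208843108421084310842108421082218843108421084210862104621084210c42108421084210822104221084210c4210842108),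 (180636, 15948080, nat_lit 0x42108421084210842108421082318c411084210842108221884110842108431084210842108220884110842108421082210c621084210c42108421084208c4110842088421084210842108411084210842108620884110842108621084208843108421084218842108421844110842088421084210842108421084210842104411082210c4210862108421884110842108421884210842108221046210842104421084210842108421084210842108421086118c43108421084210862188411084210842108421084210842108421086308c4210862104621084210c4210842108421084210842104431086210c42108621084218843108421084208842108421086210c6210842104421084210842108421084210842108421082108c62108420884110842108420884210842108421084210c431082210c4210842108421084210c411086210c421084218c4110842188421084210842108420844110842188421084210842108), (185603, 10966310, nat_lit 0x43108421084210822088411084210842108421084210842108421082318c4210862104621084210c421084210842108421084210842108421086118c421084210842104431086210c42108421086210c6210842104421084210862108421884110842108421884210842108421084210c411086210c421084208c411084208842108421084210862108420884310842108421884210842108421084210842108421086308c62108420884110842108420884210842108421084210842108421082108c621084218843108421084208842108421082210c621084210c4210842108420844110842188421084210842108411084210842108221884110842108421082210462108421044210842108411084210842108620884110842108431084210842108621884110842108421084210842104411082210c4210842108421084210c431082210c421084218c4110842188421084210842108421844110842088421084210842108)]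

theorem autA0 : repChk 5 (MA.getD 0 (0, 0, 0)) = true := by decide +kernel

theorem autA1 : repChk 5 (MA.getD 1 (0, 0, 0)) = true := by decide +kernel

theorem autA2 : repChk 5 (MA.getD 2 (0, 0, 0)) = true := by decide +kernel

theorem autA3 : repChk 5 (MA.getD 3 (0, 0, 0)) = true := by decide +kernel

theorem autA4 : repChk 5 (MA.getD 4 (0, 0, 0)) = true := by decide +kernel

theorem autA5 : repChk 5 (MA.getD 5 (0, 0, 0)) = true := by decide +kernel

theorem autA6 : repChk 5 (MA.getD 6 (0, 0, 0)) = true := by decide +kernel

theorem autA7 : repChk 5 (MA.getD 7 (0, 0, 0)) = true := by decide +kernel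

/-- A diagonalising matrix. -/
def MB : List (ℕ × ℕ × ℕ) := [(0, 5704124, nat_lit 0x621084218841108421084218842108421082210c2210842104421084210842108421084210842108421086108443108421084210822088411084210842108421084210842108421082308442108421084210842108421082118462108420884310842108421884210842108421084210842108421086318441108421084210822088431084210842108421084210c431082210c4210843108421084210862088431084210842108421084210c4310862104421084210822104221084210c42108421086210842088411084210842088421084218441108420884210842108421084110842108421086208841108421086210842188431084210842088421084218c431084208842108421084210842108421084210c41108221044210842108421084210c411086210c421084208c4110842088421084210842108420844310842088421084210842108421082210462108421044210842108421082210c621084210c4210842108)]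

theorem autB : repChk 6 (MB.getD 0 (0, 0, 0)) = true := by decide +kernel

theorem clsA {c : GolayPt → ZMod 2} (hc : c ∈ golayCode)
    (e : c + c ∘ (gP 5).1 = 0 ∨ c + c ∘ (gP 5).1 = 1) : Cls (eps c hc * toCo0 (gP 5)) := by
  refine cls_of_data gP5_sq (S := [(8541360, 2358342, 6182665, true), (4196943, 8391797, 12584506, false), (4038912, 10743859, 10375475, false), (1090380, 10196200, 9123748, false), (622863, 9564758, 9991001, false)]) (R := [0, 5279, 18147, 21116, 165759, 168928, 180636, 185603])
    (by decide +kernel) (fun r hr => ?_) (by decide +kernel) hc e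
  simp only [List.mem_cons, List.not_mem_nil, or_false] at hr
  rcases hr with rfl | rfl | rfl | rfl | rfl | rfl | rfl | rfl
  exacts [cls_of_chk autA0, cls_of_chk autA1, cls_of_chk autA2, cls_of_chk autA3,
    cls_of_chk autA4, cls_of_chk autA5, cls_of_chk autA6, cls_of_chk autA7]

theorem clsB {c : GolayPt → ZMod 2} (hc : c ∈ golayCode)
    (e : c + c ∘ (gP 6).1 = 0 ∨ c + c ∘ (gP 6).1 = 1) : Cls (eps c hc * toCo0 (gP 6)) := by
  refine cls_of_data gP6_sq (S := [(11469952, 10743859, 849075, false), (4196943, 8391797, 12584506, false), (2814095, 7391670, 5912889, false), (1110320, 4377555, 5389027, false), (520899, 11114125, 11428942, false), (21116, 6953179, 6965927, false)]) (R := [0, 761641])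
    (by decide +kernel) (fun r hr => ?_) (by decide +kernel) hc e
  simp only [List.mem_cons, List.not_mem_nil, or_false] at hr
  rcases hr with rfl | rfl
  exacts [cls_of_chk autB, fun _ => Or.inr (IsConj.refl _)]

theorem cls_mon {y : Co0} (hy : y ∈ Mon) (h : y * y = 1 ∨ y * y = neg) : Cls y := by
  obtain ⟨c, hc, p, rfl⟩ := mon_eq hy
  have e : eps c hc * toCo0 p * (eps c hc * toCo0 p) = eps (c + c ∘ p⁻¹.1)
      (Submodule.add_mem _ hc (comp_mem p⁻¹.2 hc)) * toCo0 (p * p) := by
    rw [mul_assoc, ← mul_assoc (toCo0 p), toCo0_mul_eps, ← mul_assoc, ← mul_assoc, eps_mul,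
      map_mul, mul_assoc]
  rw [e, ← eps_zero, neg_eq] at h
  have k : ∀ {a b : GolayPt → ZMod 2} {ha : a ∈ golayCode} {hb : b ∈ golayCode},
      eps a ha * toCo0 (p * p) = eps b hb → p * p = 1 ∧ a = b := fun {a b ha hb} h => by
    have h1 : p * p = 1 := toCo0_eq_eps (c := a + b) (hc := Submodule.add_mem _ ha hb) (by
      rw [← eps_mul ha hb, ← h, ← mul_assoc, eps_mul_self, one_mul])
    rw [h1, map_one, mul_one] at h
    exact ⟨h1, eps_inj h⟩
  have h2 : p * p = 1 := h.elim (fun h => (k h).1) fun h => (k h).1
  have h3 : c + c ∘ p.1 = 0 ∨ c + c ∘ p.1 = 1 := by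
    rw [← inv_eq_of_mul_eq_one_right h2]
    exact h.imp (fun h => (k h).2) fun h => (k h).2
  obtain ⟨ν, h4⟩ := inv_M24 h2
  have h5 : IsConj (eps c hc * toCo0 p)
      (eps (c ∘ ν⁻¹.1) (comp_mem ν⁻¹.2 hc) * toCo0 (ν * p * ν⁻¹)) :=
    isConj_iff.mpr ⟨toCo0 ν, by rw [← conj_eps ν hc, map_mul, map_mul, map_inv]; group⟩
  have h6 : c ∘ ν⁻¹.1 + (c ∘ ν⁻¹.1) ∘ (ν * p * ν⁻¹).1 = (c + c ∘ p.1) ∘ ν⁻¹.1 := funext fun i =>
    congrArg (fun x => c (ν⁻¹.1 i) + c x) (ν.1.symm_apply_apply _)
  have h7 : c ∘ ν⁻¹.1 + (c ∘ ν⁻¹.1) ∘ (ν * p * ν⁻¹).1 = 0 ∨
      c ∘ ν⁻¹.1 + (c ∘ ν⁻¹.1) ∘ (ν * p * ν⁻¹).1 = 1 := by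
    rw [h6]
    exact h3.imp (fun e => by rw [e]; rfl) fun e => by rw [e]; rfl
  refine Cls.of_conj ?_ h5
  rcases h4 with e | e | e <;> rw [e] at h7 ⊢
  · exact Or.inl ⟨_, _, by rw [map_one, mul_one]⟩
  · exact clsA _ h7
  · exact clsB _ h7

/-- Every involution of `Co₁` comes from a sign change or from `w4`. -/
theorem invol (ho : Odd Mon.index) {y : Co0} (h : y * y = 1 ∨ y * y = neg) : Cls y := by
  obtain ⟨g, hg⟩ := exists_conj_mem_of_odd ho (x := y) (k := 2) (by
    rw [show y ^ 2 ^ 2 = y * y * (y * y) by
      rw [show 2 ^ 2 = 2 + 2 from rfl, pow_add, sq]]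
    rcases h with h | h <;> rw [h]
    exacts [one_mul _, neg_mul_self])
  refine (cls_mon hg ?_).of_conj (isConj_cj y g)
  rw [show g⁻¹ * y * g * (g⁻¹ * y * g) = g⁻¹ * (y * y) * g by group]
  refine h.imp (fun h => by rw [h]; group) fun h => ?_
  rw [h, mul_assoc, ← Subgroup.mem_center_iff.mp neg_mem_center g]
  group

theorem w4_sq : w4 * w4 = neg := by
  rw [w4, mul_assoc, ← mul_assoc (toCo0 _), toCo0_mul_eps, ← mul_assoc, ← mul_assoc, eps_mul,
    mul_assoc, ← map_mul, gP6_sq, map_one, mul_one, neg_eq]
  refine eps_congr _ ?_
  rw [inv_eq_of_mul_eq_one_right gP6_sq, ← (rep_gP 6).wd (m := 16015574) (by decide +kernel), ← wd_xor,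
    one_eq]
  rfl

/-- The element commutes with an element of order `n` modulo the centre. -/
def Cm (y : Co0) (n : ℕ) : Prop :=
  ∃ u : Co0, Commute u y ∧ u ^ n ∈ Subgroup.center Co0 ∧ u ∉ Subgroup.center Co0

theorem Cm.of_conj {x y : Co0} {n : ℕ} (h : Cm y n) (e : IsConj x y) : Cm x n := by
  obtain ⟨g, rfl⟩ := IsConj.exists_cj e.symm
  obtain ⟨u, h1, h2, h3⟩ := h
  refine ⟨g⁻¹ * u * g, commute_cj h1 g, ?_, fun h => h3 ?_⟩
  · have := Subgroup.Normal.conj_mem inferInstance _ h2 g⁻¹
    rwa [← conj_pow, inv_inv] at this
  · simpa [mul_assoc] using Subgroup.Normal.conj_mem inferInstance _ h g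

theorem Rep.pow {π : M24} {f : ℕ → ℕ} (h : Rep π f) (n : ℕ) : Rep (π ^ n) f^[n] := by
  induction n with
  | zero => exact Rep.one
  | succ n ih => rw [pow_succ]; exact ih.mul h

theorem cm_dodecad {c : GolayPt → ZMod 2} (hc : c ∈ golayCode) (h : wt c = 12) :
    Cm (eps c hc) 11 := by
  obtain ⟨π, rfl⟩ := dod_std hc h
  refine Cm.of_conj (y := eps _ D0_mem) ⟨toCo0 (gP 11), ?_, ?_, fun h => ?_⟩
    (isConj_iff.mpr ⟨toCo0 π, by rw [conj_eps]; exact eps_congr _ (comp_inv _ π)⟩)
  · refine (toCo0_mul_eps _ _).trans (congrArg (· * _) (eps_congr _ ?_))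
    conv_lhs => rw [(rep_gP 11).wd (m := 340831) (n := 340831) (by decide +kernel)]
    exact comp_inv _ _
  · rw [← map_pow, ((rep_gP 11).pow 11).eq Rep.one (by decide +kernel), map_one]
    exact Subgroup.one_mem _
  · rw [mem_center_iff, ← eps_zero, neg_eq] at h
    have := rep_gP 11 (pt 1)
    rw [h.elim toCo0_eq_eps toCo0_eq_eps] at this
    revert this
    decide +kernel

theorem matR_pow (rw : ℕ → ℕ) (n p : ℕ) :
    dec2 p ᵥ* matR rw ^ n = dec2 ((fun p => xv rw p 24)^[n] p) := by
  induction n generalizing p with
  | zero => simp
  | succ n ih =>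
    rw [pow_succ', ← vecMul_vecMul, Function.iterate_succ_apply, ← ih]
    exact congrArg (· ᵥ* _) (mact2 (fun _ => rw) 2 1 le_rfl (by norm_num) p).symm

/-- An element of order thirteen. -/
def u13 : ℕ := nat_lit 0x42148429485210631906428c84288a3290a3210a42948430c852106520c8420c8619483210a32906428c84190a420c8428c85210a3190a418c86190a3288a3210641948421483210a320c842148418c45210632906418c841906329063210a428c82214832106321483290a53106428c8420c85210a32148529063210642948420c83310a52148420c8419485310651906419484190a420c841948321063188a418c8429065190a32106428cc420c832106320c822148419485210a5190a428c8419065290a5210a428c8421483210a520c44214c418c8321063190a429484190a529063210a418c8420c85210a310c8410c842948521063290a42948419063190a3210a418c8420c43210a521483290652106418c8420c832186520c842148419485210a3290a4194c4290a42148429483218a3190641948419063190632106228c8421485210a520c85290a32186418c84214852106521484214842948321065290a218c84190a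

theorem u13_aut : autChk u13 = true := by decide +kernel

theorem cm_w4 : Cm w4 13 := by
  have e : mu2 (cu u13) = matR (nthN [4953209, 8890763, 3171809, 11230699, 15883487, 5242741, 1100336, 12245262, 6264353, 15855752, 2864697, 5111244, 15850815, 15349266, 2367411, 10123947, 12981722, 1463231, 16043135, 1356320, 277991, 8590538, 11855680, 14354441]) := mu2_cu u13_aut (by decide +kernel)
  refine ⟨cu u13, mul_inv_eq_iff_eq_mul.mp ((hasMat_cu u13_aut).cj W0_mem W0_mem (rep_gP 6)
    (rep_gP 6) (by decide +kernel)), ?_, fun h => ?_⟩
  · rw [← ker_mu2, MonoidHom.mem_ker, map_pow, e]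
    ext i j
    have h : ∀ i < 24, (fun p => xv (nthN [4953209, 8890763, 3171809, 11230699, 15883487, 5242741, 1100336, 12245262, 6264353, 15855752, 2864697, 5111244, 15850815, 15349266, 2367411, 10123947, 12981722, 1463231, 16043135, 1356320, 277991, 8590538, 11855680, 14354441]) p 24)^[13] (2 ^ i) = 2 ^ i := by decide +kernel
    have := matR_pow (nthN [4953209, 8890763, 3171809, 11230699, 15883487, 5242741, 1100336, 12245262, 6264353, 15855752, 2864697, 5111244, 15850815, 15349266, 2367411, 10123947, 12981722, 1463231, 16043135, 1356320, 277991, 8590538, 11855680, 14354441]) 13 (2 ^ (i : ℕ))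
    rw [h i i.2, dec2_pow, single_one_vecMul] at this
    rw [show (_ ^ 13 : Matrix _ _ _) i j = _ from congrFun this j, Pi.single_apply, one_apply]
    simp [eq_comm]
  · rw [← ker_mu2, MonoidHom.mem_ker, e] at h
    have := congrFun h 0
    revert this
    decide +kernel

end Cfsg.Co
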