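import Cfsg.Agent.Co.L1

/-! `Co₀` is transitive on frames; generators, finiteness, centre. -/

set_option autoImplicit false
set_option linter.unusedVariables false
set_option maxRecDepth 100000

namespace Cfsg.Co

open Cfsg.H4.Golay Cfsg.H6 Cfsg.H6.Leech Cfsg.H2

/-- `ξ` acts on four coordinates by half a Hadamard matrix. -/
structure Had (ξ : Co0) (T T' : Fin 4 → GolayPt) (M : Fin 4 → Fin 4 → ℤ) : Prop where
  inj : Function.Injective T
  inj' : Function.Injective T'
  pm : ∀ a b, M a b = 1 ∨ M a b = -1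
  orth : ∀ a ≠ 0, ∑ b, M a b * M 0 b = 0
  act : ∀ x a, 2 * (ξ.1 x).1 (T' a) = ∑ b, M a b * x.1 (T b)

section Descent

variable {K : Subgroup Co0} {ξ : Co0} {T T' : Fin 4 → GolayPt} {M : Fin 4 → Fin 4 → ℤ}

theorem Had.step (h : Had ξ T T' M) (hM : Mon ≤ K) (hξ : ξ ∈ K) (v : leechLattice)
    {f : Fin 4 → GolayPt} (hf : Function.Injective f) (y : Fin 4 → ℤ)
    (hy : ∀ a, y a = |v.1 (f a)| ∨ y a = -|v.1 (f a)|) :
    ∃ k ∈ K, ∀ a, 2 * (k.1 v).1 (T' a) = ∑ b, M a b * y b := by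
  obtain ⟨π, hπ⟩ := trans5 (by norm_num) hf h.inj
  obtain ⟨c, hc, e⟩ := free5 (by norm_num) h.inj fun a => if y a = v.1 (f a) then 0 else 1
  refine ⟨ξ * (eps c hc * toCo0 π),
    K.mul_mem hξ (hM (Mon.mul_mem (eps_mem_Mon c hc) (toCo0_mem_Mon π))), fun a => ?_⟩
  rw [mul_apply, h.act]
  refine Finset.sum_congr rfl fun b _ => ?_
  rw [mul_apply, eps_apply, ← hπ b, toCo0_apply, hπ b]
  congr 1
  have h1 := e b
  have h2 := hy b
  split_ifs at h1 with h3
  · rw [sg_of_zero h1, h3, one_mul]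
  · rw [sg_of_one h1]
    rcases abs_cases (v.1 (f b)) with t | t <;> omega

theorem Had.sum4 (h : Had ξ T T' M) (hM : Mon ≤ K) (hξ : ξ ∈ K) (v : leechLattice)
    {f : Fin 4 → GolayPt} (hf : Function.Injective f) :
    ∃ k ∈ K, 2 * (k.1 v).1 (T' 0) = |v.1 (f 0)| + |v.1 (f 1)| + |v.1 (f 2)| + |v.1 (f 3)| := by
  obtain ⟨k, hk, e⟩ := h.step hM hξ v hf (fun b => M 0 b * |v.1 (f b)|) fun b => by
    rcases h.pm 0 b with t | t <;> simp [t]
  refine ⟨k, hk, ?_⟩
  rw [e, ← Fin.sum_univ_four fun b => |v.1 (f b)|]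
  refine Finset.sum_congr rfl fun b _ => ?_
  rcases h.pm 0 b with t | t <;> simp [t]

theorem inj4 {p q r s : GolayPt} (h1 : q ≠ p) (h2 : r ≠ p) (h3 : r ≠ q) (h4 : s ≠ p) (h5 : s ≠ q)
    (h6 : s ≠ r) : Function.Injective ![p, q, r, s] := by
  intro a b e
  fin_cases a <;> fin_cases b <;> simp_all

theorem abs_le_of_norm {x : GolayPt → ℤ} (h : sqNorm x ≤ 64) (i : GolayPt) : |x i| ≤ 8 := by
  have : x i ^ 2 ≤ sqNorm x :=
    Finset.single_le_sum (f := fun i => x i ^ 2) (fun i _ => sq_nonneg _) (Finset.mem_univ i)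
  exact abs_le_of_sq_le_sq (by omega) (by norm_num)

theorem arith {A B C D R : ℤ} (h1 : A ≤ 7) (h2 : B + C + D ≤ A) (h3 : C ≤ B) (h4 : D ≤ C)
    (h5 : 0 ≤ D) (p1 : A % 2 = D % 2) (p2 : B % 2 = D % 2) (p3 : C % 2 = D % 2)
    (e : A ^ 2 + (B ^ 2 + (C ^ 2 + (D ^ 2 + R))) = 64) (r1 : 20 * (D % 2) ≤ R)
    (r2 : R ≤ 20 * D ^ 2) : A = 6 ∧ B = 2 ∧ C = 2 ∧ D = 2 := by
  have hD : D ≤ 2 := by omega
  have hC : C ≤ 3 := by omega
  have hB : B ≤ 7 := by omega
  have hA : 0 ≤ A := by omega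
  have hB' : 0 ≤ B := by omega
  have hC' : 0 ≤ C := by omega
  interval_cases D <;> interval_cases C <;> interval_cases B <;> interval_cases A <;> omega

theorem shape {w : leechLattice} (hw : sqNorm w.1 = 64) {p : GolayPt} (h7 : |w.1 p| ≤ 7)
    (h : ∀ q r s, q ≠ p → r ≠ p → r ≠ q → s ≠ p → s ≠ q → s ≠ r →
      |w.1 q| + |w.1 r| + |w.1 s| ≤ |w.1 p|) :
    ∃ f : Fin 4 → GolayPt, Function.Injective f ∧ f 0 = p ∧ |w.1 (f 0)| = 6 ∧
      ∀ a ≠ 0, |w.1 (f a)| = 2 := by
  have c0 : (Finset.univ : Finset GolayPt).card = 24 := by simp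
  have c1 := Finset.card_erase_of_mem (Finset.mem_univ p)
  obtain ⟨q, hq, mq⟩ := (Finset.univ.erase p).exists_max_image (fun i => |w.1 i|)
    (Finset.card_pos.mp (by omega))
  have c2 := Finset.card_erase_of_mem hq
  obtain ⟨r, hr, mr⟩ := ((Finset.univ.erase p).erase q).exists_max_image (fun i => |w.1 i|)
    (Finset.card_pos.mp (by omega))
  have c3 := Finset.card_erase_of_mem hr
  obtain ⟨s, hs, ms⟩ := (((Finset.univ.erase p).erase q).erase r).exists_max_image
    (fun i => |w.1 i|) (Finset.card_pos.mp (by omega))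
  have c4 := Finset.card_erase_of_mem hs
  have e0 := Finset.add_sum_erase _ (fun i => |w.1 i| ^ 2) (Finset.mem_univ p)
  have e1 := Finset.add_sum_erase _ (fun i => |w.1 i| ^ 2) hq
  have e2 := Finset.add_sum_erase _ (fun i => |w.1 i| ^ 2) hr
  have e3 := Finset.add_sum_erase _ (fun i => |w.1 i| ^ 2) hs
  have e4 : ∑ i, |w.1 i| ^ 2 = 64 := by simpa [sqNorm] using hw
  have par : ∀ i, |w.1 i| % 2 = |w.1 s| % 2 := fun i => by
    have := parity w.2 i s
    rcases abs_cases (w.1 i) with t | t <;> rcases abs_cases (w.1 s) with t' | t' <;> omega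
  set U := (((Finset.univ.erase p).erase q).erase r).erase s with hU
  have cU : U.card = 20 := by omega
  have r1 := Finset.card_nsmul_le_sum U (fun i => |w.1 i| ^ 2) (|w.1 s| % 2) fun i _ => by
    rw [← par i]
    have := abs_nonneg (w.1 i)
    rcases Int.emod_two_eq_zero_or_one |w.1 i| with t | t
    · rw [t]; positivity
    · have : 1 ≤ |w.1 i| := by omega
      rw [t]; nlinarith
  have r2 := Finset.sum_le_card_nsmul U (fun i => |w.1 i| ^ 2) (|w.1 s| ^ 2) fun i hi =>
    pow_le_pow_left₀ (abs_nonneg _) (ms i (Finset.mem_of_mem_erase hi)) 2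
  rw [cU, nsmul_eq_mul] at r1 r2
  simp only [Finset.mem_erase, Finset.mem_univ, and_true] at hq hr hs
  obtain ⟨a1, a2, a3, a4⟩ := arith h7 (h q r s hq hr.2 hr.1 hs.2.2 hs.2.1 hs.1)
    (mq r (by simp [hr.2])) (mr s (by simp [hs.2.1, hs.2.2])) (abs_nonneg _) (par p) (par q) (par r)
    (R := ∑ i ∈ U, |w.1 i| ^ 2) (by omega) (by exact_mod_cast r1)
    (by exact_mod_cast r2)
  refine ⟨![p, q, r, s], inj4 hq hr.2 hr.1 hs.2.2 hs.2.1 hs.1, rfl, a1, fun a ha => ?_⟩
  fin_cases a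
  · exact absurd rfl ha
  · exact a2
  · exact a3
  · exact a4

theorem three4 {u : leechLattice} (hu : sqNorm u.1 = 64) (hT : Function.Injective T')
    (h : ∀ a ≠ 0, |u.1 (T' a)| = 4) :
    ∃ t, t ≠ T' 1 ∧ t ≠ T' 2 ∧ t ≠ T' 3 ∧ 4 ≤ |u.1 t| := by
  have h1 := h 1 (by decide)
  have h2 := h 2 (by decide)
  have h3 := h 3 (by decide)
  have n1 : T' 1 ≠ T' 2 := fun e => absurd (hT e) (by decide)
  have n2 : T' 1 ≠ T' 3 := fun e => absurd (hT e) (by decide)
  have n3 : T' 2 ≠ T' 3 := fun e => absurd (hT e) (by decide)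
  have e : ∑ i ∈ {T' 1, T' 2, T' 3}, u.1 i ^ 2 = 48 := by
    rw [Finset.sum_insert (by simp [n1, n2]), Finset.sum_pair n3, ← sq_abs (u.1 (T' 1)), h1,
      ← sq_abs (u.1 (T' 2)), h2, ← sq_abs (u.1 (T' 3)), h3]
    norm_num
  have m : ∀ a : ℤ, |a| = 4 → a % 4 = 0 := fun a ha => by
    rcases abs_cases a with t | t <;> omega
  have h4 := all4 (x := u) (p := T' 1) (by have := m _ h1; omega) {T' 1, T' 2, T' 3} (by
    simp only [Finset.mem_insert, Finset.mem_singleton]
    rintro i (rfl | rfl | rfl)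
    exacts [m _ h1, m _ h2, m _ h3]) (by omega)
  by_contra hc
  push Not at hc
  have := Finset.sum_subset (Finset.subset_univ {T' 1, T' 2, T' 3}) (f := fun i => u.1 i ^ 2)
    fun i _ hi => by
      simp only [Finset.mem_insert, Finset.mem_singleton, not_or] at hi
      have a := hc i hi.1 hi.2.1 hi.2.2
      have b := h4 i
      have : u.1 i = 0 := by rcases abs_cases (u.1 i) with t | t <;> omega
      simp [this]
  unfold sqNorm at hu
  omega

theorem Had.descent (h : Had ξ T T' M) (hM : Mon ≤ K) (hξ : ξ ∈ K) {v : leechLattice}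
    (hv : sqNorm v.1 = 64) : ∃ k ∈ K, k.1 v = E none := by
  obtain ⟨A, ⟨k, hk, p, hp⟩, hA⟩ := Int.exists_greatest_of_bdd
    (P := fun a => ∃ k ∈ K, ∃ p, |(k.1 v).1 p| = a)
    ⟨8, by
      rintro _ ⟨k, -, p, rfl⟩
      exact abs_le_of_norm (by rw [map_norm, hv]) p⟩ ⟨_, 1, K.one_mem, none, rfl⟩
  have B : ∀ k ∈ K, ∀ f : Fin 4 → GolayPt, Function.Injective f → |(k.1 v).1 (f 0)| +
      |(k.1 v).1 (f 1)| + |(k.1 v).1 (f 2)| + |(k.1 v).1 (f 3)| ≤ 2 * A := fun k hk f hf => by
    obtain ⟨l, hl, e⟩ := h.sum4 hM hξ (k.1 v) hf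
    have h1 := hA _ ⟨l * k, K.mul_mem hl hk, T' 0, rfl⟩
    have h2 := le_abs_self ((l.1 (k.1 v)).1 (T' 0))
    rw [mul_apply] at h1
    omega
  have hw : sqNorm (k.1 v).1 = 64 := by rw [map_norm, hv]
  by_cases h8 : 8 ≤ A
  · obtain ⟨π, hπ⟩ := trans1 p none
    rcases eq_E_of_coord hw.le (l := p) (by
      rcases abs_cases ((k.1 v).1 p) with t | t <;> omega) with ⟨-, e⟩ | ⟨-, e⟩
    · exact ⟨toCo0 π * k, K.mul_mem (hM (toCo0_mem_Mon π)) hk, by rw [mul_apply, e, toCo0_E, hπ]⟩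
    · exact ⟨neg * (toCo0 π * k), K.mul_mem (hM neg_mem_Mon) (K.mul_mem (hM (toCo0_mem_Mon π)) hk),
        by rw [mul_apply, mul_apply, e, map_neg, toCo0_E, hπ, neg_apply, neg_neg]⟩
  exfalso
  obtain ⟨f, hf, f0, f1, f2⟩ := shape hw (p := p) (by omega) fun q r s a1 a2 a3 a4 a5 a6 => by
    have := B k hk _ (inj4 a1 a2 a3 a4 a5 a6)
    change |(k.1 v).1 p| + |(k.1 v).1 q| + |(k.1 v).1 r| + |(k.1 v).1 s| ≤ _ at this
    omega
  obtain ⟨l, hl, e⟩ := h.step hM hξ (k.1 v) hf (fun b => M 0 b * if b = 0 then 6 else -2)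
    fun b => by
      by_cases hb : b = 0
      · rw [if_pos hb, hb, f1]
        have := h.pm 0 0
        omega
      · rw [if_neg hb, f2 b hb]
        have := h.pm 0 b
        omega
  have h4 : ∀ a ≠ 0, |((l * k).1 v).1 (T' a)| = 4 := fun a ha => by
    have e1 := e a
    have e2 := h.orth a ha
    rw [Fin.sum_univ_four] at e1 e2
    simp only [if_true, if_neg (by decide : (1 : Fin 4) ≠ 0), if_neg (by decide : (2 : Fin 4) ≠ 0),
      if_neg (by decide : (3 : Fin 4) ≠ 0), ← mul_assoc] at e1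
    have e3 : M a 0 * M 0 0 = 1 ∨ M a 0 * M 0 0 = -1 := by
      rcases h.pm a 0 with t | t <;> rcases h.pm 0 0 with t' | t' <;> simp [t, t']
    rw [mul_apply]
    rcases abs_cases ((l.1 (k.1 v)).1 (T' a)) with t | t <;> omega
  obtain ⟨t, t1, t2, t3, t4⟩ := three4 (by rw [map_norm, hv]) h.inj' h4
  have := B _ (K.mul_mem hl hk) ![t, T' 1, T' 2, T' 3] (inj4 t1.symm t2.symm
    (fun e => absurd (h.inj' e) (by decide)) t3.symm (fun e => absurd (h.inj' e) (by decide))
    fun e => absurd (h.inj' e) (by decide))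
  change |((l * k).1 v).1 t| + |((l * k).1 v).1 (T' 1)| + |((l * k).1 v).1 (T' 2)| +
    |((l * k).1 v).1 (T' 3)| ≤ _ at this
  rw [h4 1 (by decide), h4 2 (by decide), h4 3 (by decide)] at this
  rw [f0] at f1
  omega

theorem Had.eq_top (h : Had ξ T T' M) (hM : Mon ≤ K) (hξ : ξ ∈ K) : K = ⊤ := by
  rw [eq_top_iff]
  intro g _
  obtain ⟨k, hk, e⟩ := h.descent hM hξ (v := g.1 (E none)) (by rw [map_norm, norm_E])
  exact (K.mul_mem_cancel_left hk).mp (hM (mon_of_one (Or.inl e)))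

end Descent

/-! ### Packed matrices -/

/-- The element of `Co₀` with a packed matrix (its inverse acts on columns by the matrix). -/
noncomputable def cu (c : ℕ) : Co0 := ⟨au c, au_mem c⟩

theorem cu_inv {c : ℕ} (hc : autChk c = true) (x : leechLattice) (p : GolayPt) :
    8 * ((cu c)⁻¹.1 x).1 p = ∑ q, Leech.ent c (24 * idx p + idx q) * x.1 q := by
  have h := (isAut_of_chk hc).fwd x
  have e : (cu c)⁻¹.1 x = h.choose := by
    change (au c)⁻¹ x = _
    rw [au, dif_pos hc]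
    rfl
  rw [e]
  exact (congrFun h.choose_spec p).symm

/-- The rows `t'` of the packed matrix have entries `± 4` in the columns `t`, zero elsewhere. -/
noncomputable def hadChk (c : ℕ) (t t' : Fin 4 → ℕ) : Bool :=
  decide (∀ a, t a < 24 ∧ t' a < 24) && decide (∀ a b, t a = t b → a = b) &&
    decide (∀ a b, t' a = t' b → a = b) &&
    decide (∀ a b, Leech.ent c (24 * t' a + t b) = 4 ∨ Leech.ent c (24 * t' a + t b) = -4) &&
    decide (∀ a ≠ 0,
      ∑ b, Leech.ent c (24 * t' a + t b) / 4 * (Leech.ent c (24 * t' 0 + t b) / 4) = 0) &&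
    decide (∀ a, ∀ j : Fin 24, (∃ b, t b = j.1) ∨ Leech.ent c (24 * t' a + j.1) = 0)

theorem had_of_chk {c : ℕ} (hc : autChk c = true) {t t' : Fin 4 → ℕ} (h : hadChk c t t' = true) :
    Had (cu c)⁻¹ (fun a => pt (t a)) (fun a => pt (t' a))
      fun a b => Leech.ent c (24 * t' a + t b) / 4 := by
  simp only [hadChk, Bool.and_eq_true, decide_eq_true_eq] at h
  obtain ⟨⟨⟨⟨⟨h1, h2⟩, h3⟩, h4⟩, h5⟩, h6⟩ := h
  have inj : Function.Injective fun a => pt (t a) := fun a b e => h2 a b (by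
    rw [← idx_pt _ (h1 a).1, ← idx_pt _ (h1 b).1]
    exact congrArg idx e)
  refine ⟨inj, fun a b e => h3 a b (by
    rw [← idx_pt _ (h1 a).2, ← idx_pt _ (h1 b).2]
    exact congrArg idx e), fun a b => by have := h4 a b; omega, h5, fun x a => ?_⟩
  have e := cu_inv hc x (pt (t' a))
  rw [idx_pt _ (h1 a).2, ← Finset.sum_subset (Finset.subset_univ (Finset.univ.image fun b =>
    pt (t b))) (fun q _ hq => by
      rcases h6 a ⟨_, idx_lt q⟩ with ⟨b, hb⟩ | h0
      · exact absurd (Finset.mem_image.mpr ⟨b, Finset.mem_univ _, by rw [hb, pt_idx]⟩) hq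
      · rw [h0, zero_mul]), Finset.sum_image fun a _ b _ e => inj e] at e
  have e2 : ∑ b, Leech.ent c (24 * t' a + idx (pt (t b))) * x.1 (pt (t b)) =
      4 * ∑ b, Leech.ent c (24 * t' a + t b) / 4 * x.1 (pt (t b)) := by
    rw [Finset.mul_sum]
    refine Finset.sum_congr rfl fun b _ => ?_
    rw [idx_pt _ (h1 b).1, ← mul_assoc]
    congr 1
    have := h4 a b
    omega
  omega

theorem eq_top_of_chk {K : Subgroup Co0} (hM : Mon ≤ K) {c : ℕ} (hc : autChk c = true)
    (hK : cu c ∈ K) {t t' : Fin 4 → ℕ} (h : hadChk c t t' = true) : K = ⊤ :=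
  (had_of_chk hc h).eq_top hM (K.inv_mem hK)

/-- Conway's element for the sextet of the first four points. -/
def xiC : ℕ := nat_lit 0x6210842088411084210842088421084310842108421082208841108421084218441108420884210842108421084208c4110842088421084210842108421086210422108421044210842108420844310842088421084210842108221084218841108421084208842108421082210c2210842104421084210842108221046210842104421084210822108420884310842108420884210842084411084218842108421084210842108421084210c4110822104421084110842108421086208841108421084210842108421044310822104421084110842108421082218841108421084210822104221084210c4210842108421084210842104411086210442108411084210842108220884310842108221084208841108421084218842108421084210842104411082210c4210842108421084210842108421082318c42108421084210842108421086118c42108421084210842108421086308c421084210842108421084210863184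

theorem xi_aut : autChk xiC = true := by decide +kernel

theorem xi_had : hadChk xiC (fun a => a) (fun a => a) = true := by decide +kernel

theorem eq_top_of_xi {K : Subgroup Co0} (hM : Mon ≤ K) (hK : cu xiC ∈ K) : K = ⊤ :=
  eq_top_of_chk hM xi_aut hK xi_had

/-- `Co₀` is transitive on the vectors with sum of squares 64. -/
theorem trans64 {v : leechLattice} (hv : sqNorm v.1 = 64) : ∃ g : Co0, g.1 (E none) = v := by
  obtain ⟨k, -, e⟩ := (had_of_chk xi_aut xi_had).descent le_top (Subgroup.mem_top _) hv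
  exact ⟨k⁻¹, by rw [← e, inv_apply]⟩

end Cfsg.Co
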