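import Cfsg.Agent.Co.L3
import Cfsg.Agent.H6.Mat

/-! The action of `Co₀` on the lattice modulo two, in coordinates. -/

set_option autoImplicit false
set_option maxRecDepth 100000

namespace Cfsg.Co

open Cfsg.H4.Golay Cfsg.H6 Cfsg.H6.Leech Cfsg.H2 Matrix

/-- A basis of the lattice, packed by rows. -/
def bB : ℕ := nat_lit 0x8210842108421084210842108421086310842108421084210842108421086218842108421084210842108421086210c4210842108421084210842108621086210842108421084210842108621084310842108421084210842108621084218842108421084210842108621084210c4210842108421084210862108421086210842108421084210862108421084310842108421084210862108421084218842108421084210862108421084210c421084210842108929484214a521485210842108421089214a4210a5290a4290842108421088294a5214a429084214842108421088214a5290a521484210a42108421088210a529485290a4210852108421089294852908529084210842908421089214a42948429484210842148421089210a5214a4214a421084210a4210882948529484214a4210842108521089290a429085214a421084210842908829085210a5294a4210842108421482a5294a5294a5294a5294a5294a529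

/-- The dual basis, packed by rows. -/
def bD : ℕ := nat_lit 0x49ce739ce739ce74a56b5a5295a561429084210842108320c841908318d2421484210842108318c6418c8321144210a4210842108418c6320c641914421085210842108420c631906320d442108429084210842106318c831912421084214842108320c8320c632112421084210a42108318c642106420d24210842108521083190631908418d4421084210842908418c8318c8420d242108421084214832106420c6318d442108421084210a4190832106318d24210842108421086210842108421044210842108421084310842108421044210842108421084218842108421044210842108421084210c4210842104421084210842108421086210842104421084210842108421084310842104421084210842108421084218842104421084210842108421084210c42104421084210842108421084210862104421084210842108421084210843104421084210842108421084210842184421084210842108421084210842110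

theorem bB_lp : ∀ k < 24, lpChk (fun i => Leech.ent bB (24 * k + i)) = true := by decide +kernel

theorem bD_lp : ∀ k < 24, lpChk (fun i => Leech.ent bD (24 * k + i)) = true := by decide +kernel

/-- The basis that gives the coordinate functions. -/
noncomputable def bv (k : Fin 24) : leechLattice := ⟨_, mem_of_lpChk (bB_lp k k.2)⟩

/-- The dual basis. -/
noncomputable def bs (k : Fin 24) : leechLattice := ⟨_, mem_of_lpChk (bD_lp k k.2)⟩

theorem bs_bv (i j : Fin 24) : dotInt (bs i).1 (bv j).1 = if i = j then 8 else 0 := by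
  have h : ∀ i j : Fin 24, (sm fun p => Leech.ent bD (24 * i + p) * Leech.ent bB (24 * j + p)) =
      if i = j then 8 else 0 := by decide +kernel
  rw [← h, sm_eq]
  rfl

theorem bv_bs (p q : GolayPt) : ∑ k, (bv k).1 q * (bs k).1 p = if q = p then 8 else 0 := by
  have h : ∀ p q : GolayPt, ∑ k : Fin 24, Leech.ent bB (24 * k + idx q) *
      Leech.ent bD (24 * k + idx p) = if q = p then 8 else 0 := by decide +kernel
  exact h p q

theorem dot_add (x y z : GolayPt → ℤ) : dotInt (x + y) z = dotInt x z + dotInt y z := by
  simp [dotInt, add_mul, Finset.sum_add_distrib]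

/-- The coordinates of a lattice vector in the basis `bs`. -/
noncomputable def crd : leechLattice →+ (Fin 24 → ℤ) :=
  AddMonoidHom.mk' (fun x k => dotInt x.1 (bv k).1 / 8) fun x y => funext fun k => by
    have := eight_dvd x (bv k)
    have := eight_dvd y (bv k)
    rw [Pi.add_apply, AddSubgroup.coe_add, dot_add]
    omega

theorem crd_mul (x : leechLattice) (k : Fin 24) : 8 * crd x k = dotInt x.1 (bv k).1 :=
  Int.mul_ediv_cancel' (eight_dvd x (bv k))

theorem crd_bs (i : Fin 24) : crd (bs i) = Pi.single i 1 := funext fun j => by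
  have := crd_mul (bs i) j
  rw [bs_bv] at this
  rw [Pi.single_apply]
  by_cases h : i = j
  · rw [if_pos h] at this
    rw [if_pos h.symm]
    omega
  · rw [if_neg h] at this
    rw [if_neg (Ne.symm h)]
    omega

theorem expand (x : leechLattice) : x = ∑ k, crd x k • bs k := Subtype.ext (funext fun p => by
  have h : 8 * ∑ k, crd x k * (bs k).1 p = 8 * x.1 p := by
    simp only [Finset.mul_sum, ← mul_assoc, crd_mul, dotInt, Finset.sum_mul]
    rw [Finset.sum_comm]
    simp only [mul_assoc, ← Finset.mul_sum, bv_bs]
    simp [mul_comm]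
  rw [AddSubgroup.val_finsetSum, Finset.sum_apply]
  change _ = ∑ k, crd x k * (bs k).1 p
  omega)

theorem crd_inj : Function.Injective crd := fun x y e => by rw [expand x, e, ← expand]

theorem crd_sum (n : Fin 24 → ℤ) : crd (∑ k, n k • bs k) = n := funext fun j => by
  simp [map_sum, crd_bs, Pi.single_apply]

theorem crd_map (g : Co0) (x : leechLattice) :
    crd (g.1 x) = crd x ᵥ* Matrix.of fun i => crd (g.1 (bs i)) := by
  conv_lhs => rw [expand x]
  change crd (hom g _) = _
  rw [map_sum, map_sum, vecMul_eq_sum]
  refine Finset.sum_congr rfl fun i _ => ?_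
  rw [_root_.map_zsmul, _root_.map_zsmul]
  rfl

/-- The integral representation on row vectors. -/
noncomputable def muZ : Co0 →* Matrix (Fin 24) (Fin 24) ℤ where
  toFun g := Matrix.of fun i => crd (g⁻¹.1 (bs i))
  map_one' := by
    ext i j
    change crd (bs i) j = _
    rw [crd_bs, Pi.single_apply, one_apply]
    simp [eq_comm]
  map_mul' g h := by
    ext i j
    rw [_root_.mul_inv_rev, of_apply, mul_apply, crd_map]
    rfl

theorem crd_inv (g : Co0) (x : leechLattice) : crd (g⁻¹.1 x) = crd x ᵥ* muZ g := crd_map _ _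

theorem muZ_inj : Function.Injective muZ := (injective_iff_map_eq_one _).mpr fun g h =>
  inv_eq_one.mp (Subtype.ext (Equiv.ext fun x => crd_inj (by rw [crd_inv, h, vecMul_one]; rfl)))

/-- The representation on the lattice modulo two. -/
noncomputable def mu2 : Co0 →* Matrix (Fin 24) (Fin 24) (ZMod 2) :=
  (Int.castRingHom (ZMod 2)).mapMatrix.toMonoidHom.comp muZ

theorem mu2_apply (g : Co0) (i j : Fin 24) :
    mu2 g i j = ((dotInt (g⁻¹.1 (bs i)).1 (bv j).1 / 8 : ℤ) : ZMod 2) := rfl

/-- The class of a vector modulo two. -/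
noncomputable def crd2 (x : leechLattice) : Fin 24 → ZMod 2 := fun k => (crd x k : ZMod 2)

theorem crd2_add (x y : leechLattice) : crd2 (x + y) = crd2 x + crd2 y := funext fun k => by
  simp [crd2]

theorem crd2_inv (g : Co0) (x : leechLattice) : crd2 (g⁻¹.1 x) = crd2 x ᵥ* mu2 g :=
  funext fun k => by
    rw [crd2, crd_inv]
    simp only [vecMul, dotProduct, Int.cast_sum, Int.cast_mul]
    rfl

theorem crd2_eq_iff {x z : leechLattice} : crd2 z = crd2 x ↔ ∃ y, z = x + (y + y) := by
  constructor
  · intro h
    refine ⟨∑ k, ((crd z k - crd x k) / 2) • bs k, crd_inj (funext fun k => ?_)⟩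
    have := (ZMod.intCast_eq_intCast_iff_dvd_sub _ _ 2).mp (congrFun h k)
    rw [_root_.map_add, _root_.map_add, crd_sum]
    simp only [Pi.add_apply]
    omega
  · rintro ⟨y, rfl⟩
    rw [crd2_add, crd2_add, CharTwo.add_self_eq_zero, add_zero]

theorem crd2_surj (v : Fin 24 → ZMod 2) : ∃ x, crd2 x = v :=
  ⟨∑ k, ((v k).val : ℤ) • bs k, funext fun k => by rw [crd2, crd_sum]; simp⟩

theorem mu2_eq_one_iff {g : Co0} : mu2 g = 1 ↔ g = 1 ∨ g = neg := by
  constructor
  · intro h
    have := eq_of_triv_mod_two (g := g⁻¹) fun x => crd2_eq_iff.mp (by rw [crd2_inv, h, vecMul_one])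
    rwa [inv_eq_one, inv_eq_iff_mul_eq_one, mul_eq_one_iff_eq_inv,
      inv_eq_of_mul_eq_one_right neg_mul_self] at this
  · rintro (rfl | rfl)
    · exact map_one _
    · ext i j
      have h : crd2 (neg⁻¹.1 (bs i)) = crd2 (bs i) := crd2_eq_iff.mpr ⟨-bs i, by
        rw [inv_eq_of_mul_eq_one_right neg_mul_self, neg_apply]
        abel⟩
      have := congrFun h j
      rw [crd2, crd2, crd_bs] at this
      refine this.trans ?_
      rw [Pi.single_apply, one_apply]
      simp [eq_comm]

theorem ker_mu2 : mu2.ker = Subgroup.center Co0 :=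
  Subgroup.ext fun _ => mu2_eq_one_iff.trans mem_center_iff.symm

/-- The representation of `Co₁` on the lattice modulo two. -/
noncomputable def mu1 : Spor.Co1 →* Matrix (Fin 24) (Fin 24) (ZMod 2) :=
  QuotientGroup.lift _ mu2 fun _ h => mu2_eq_one_iff.mpr (mem_center_iff.mp h)

theorem mu1_mk (g : Co0) : mu1 (QuotientGroup.mk g) = mu2 g := rfl

theorem mu1_inj : Function.Injective mu1 := (injective_iff_map_eq_one _).mpr fun g h => by
  obtain ⟨g, rfl⟩ := QuotientGroup.mk_surjective g
  exact (QuotientGroup.eq_one_iff g).mpr (mem_center_iff.mpr (mu2_eq_one_iff.mp h))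

/-! ### Checks -/

/-- Decoding of a bit mask. -/
def dec2 (p : ℕ) (i : Fin 24) : ZMod 2 := if p.testBit i then 1 else 0

/-- The matrix whose rows are given by masks. -/
def matR (rw : ℕ → ℕ) : Matrix (Fin 24) (Fin 24) (ZMod 2) := Matrix.of fun i => dec2 (rw i)

theorem dec2_xor (a b : ℕ) : dec2 (a ^^^ b) = dec2 a + dec2 b := funext fun i => by
  simp only [dec2, Nat.testBit_xor, Pi.add_apply]
  cases a.testBit i <;> cases b.testBit i <;> rfl

theorem dec2_mod (p : ℕ) : dec2 (p % 2 ^ 24) = dec2 p := funext fun i => by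
  simp only [dec2, Nat.testBit_mod_two_pow, i.2, decide_true, Bool.true_and]

theorem dec2_pow (i : Fin 24) : dec2 (2 ^ (i : ℕ)) = Pi.single i 1 := funext fun j => by
  simp only [dec2, Nat.testBit_two_pow, Pi.single_apply, decide_eq_true_eq, Fin.ext_iff]
  simp only [eq_comm]

theorem dec2_inj {a b : ℕ} (ha : a < 2 ^ 24) (hb : b < 2 ^ 24) (h : dec2 a = dec2 b) : a = b :=
  Nat.eq_of_testBit_eq fun i => by
    by_cases hi : i < 24
    · have := congrFun h ⟨i, hi⟩
      simp only [dec2] at this
      revert this
      cases a.testBit i <;> cases b.testBit i <;> simp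
    · have : 2 ^ 24 ≤ 2 ^ i := Nat.pow_le_pow_right (by norm_num) (by omega)
      rw [Nat.testBit_lt_two_pow (ha.trans_le this), Nat.testBit_lt_two_pow (hb.trans_le this)]

theorem mact2 (rw : ℕ → ℕ → ℕ) (m : ℕ) :
    MAct (fun x => matR (rw x)) dec2 (fun x p => xv (rw x) p 24) m :=
  mact_xv dec2_xor dec2_mod fun x _ _ k hk => by
    rw [show k = ((⟨k, hk⟩ : Fin 24) : ℕ) from rfl, dec2_pow, single_one_vecMul]
    rfl

/-- An entry of a vector packed with twelve bits. -/
def e12 (w i : ℕ) : ℤ := Int.subNatNat (Nat.land (Nat.shiftRight w (Nat.mul 12 i)) 4095) 2048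

noncomputable def pk12 (f : ℕ → ℤ) : ℕ :=
  @Nat.rec (fun _ => ℕ) 0
    (fun i acc => Nat.add acc (Nat.shiftLeft (Int.toNat (Int.add (f i) 2048)) (Nat.mul 12 i))) 24

/-- The rows of `mu2 (cu c)` are the masks `rw i`. -/
noncomputable def mu2Chk (c : ℕ) (rw : ℕ → ℕ) : Bool :=
  (List.range 24).all fun i => frcB (fun w =>
    ((List.range 24).all fun p => e12 w p == mv c false (fun q => Leech.ent bD (24 * i + q)) p) &&
    (List.range 24).all fun j => (sm fun p => Int.mul (e12 w p) (Leech.ent bB (24 * j + p))) / 64 % 2
      == if (rw i).testBit j then 1 else 0)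
    (pk12 (mv c false fun q => Leech.ent bD (24 * i + q)))

theorem mu2_cu {c : ℕ} {rw : ℕ → ℕ} (hc : autChk c = true) (h : mu2Chk c rw = true) :
    mu2 (cu c) = matR rw := by
  ext i j
  have h1 := List.all_eq_true.mp h i (List.mem_range.mpr i.2)
  rw [frcB_eq] at h1
  generalize pk12 _ = w at h1
  simp only [Bool.and_eq_true, List.all_eq_true, List.mem_range, beq_iff_eq] at h1
  have h2 := h1.2 j j.2
  have h3 : (sm fun p => Int.mul (e12 w p) (Leech.ent bB (24 * j + p))) =
      8 * dotInt ((cu c)⁻¹.1 (bs i)).1 (bv j).1 := by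
    rw [sm_eq, dotInt, Finset.mul_sum]
    refine Finset.sum_congr rfl fun p _ => ?_
    rw [← mul_assoc, cu_inv hc, h1.1 _ (idx_lt p), ← mv_false]
    rfl
  rw [h3, ← crd_mul, ← mul_assoc, show (8 * 8 : ℤ) = 64 from rfl,
    Int.mul_ediv_cancel_left _ (by norm_num)] at h2
  change ((crd ((cu c)⁻¹.1 (bs i)) j : ℤ) : ZMod 2) = dec2 (rw i) j
  rw [← ZMod.intCast_mod _ 2]
  change (((_ % 2 : ℤ)) : ZMod 2) = _
  rw [h2, dec2]
  split_ifs <;> rfl

theorem mu2_xi : mu2 (cu xiC) = matR (nthN [15, 2, 4, 8, 5263, 8240894, 4196879, 5151, 626653, 4196431, 4255, 4194895, 1169, 13365549, 4218578, 4234966, 4267730, 4333272, 13619503, 4726490, 14403000, 11262820, 2625, 16003081]) := mu2_cu xi_aut (by decide +kernel)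

end Cfsg.Co
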