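import Cfsg.Agent.Co.B1

/-! The classes of involutions of the orthogonal group. -/

set_option autoImplicit false
set_option maxRecDepth 100000
set_option synthInstance.maxSize 8192
set_option synthInstance.maxHeartbeats 400000
set_option linter.unusedSectionVars false

namespace Cfsg.Co.Rc

open Subgroup Cfsg.H6 Cfsg.Co.Md

theorem lb8' : LBn ph (gen M8 RT) 256 [64, 4, 32, 2, 16, 1] 174182400 :=
  LBn.cast (((((((LBn.nil ph _ 256).stepU act (mem_of_letChk (Ws := RT) (by decide +kernel)) l0).stepU act (mem_of_letChk (Ws := RT) (by decide +kernel)) l1).stepU act (mem_of_letChk (Ws := RT) (by decide +kernel)) l2).stepU act (mem_of_letChk (Ws := RT) (by decide +kernel)) l3).stepU act (mem_of_letChk (Ws := RT) (by decide +kernel)) l4).stepU act (mem_of_letChk (Ws := RT) (by decide +kernel)) l5) (by decide +kernel)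

/-- The value of a permutation at a number. -/
def vl (σ : Equiv.Perm (Fin 256)) (p : ℕ) : ℕ := σ (fv p)

theorem vl_lt (σ : Equiv.Perm (Fin 256)) (p : ℕ) : vl σ p < 256 := (σ _).2

theorem fv_lt {p : ℕ} (h : p < 256) : (fv p : ℕ) = p := Nat.mod_eq_of_lt h

theorem vl_mul (σ τ : Equiv.Perm (Fin 256)) (p : ℕ) : vl (σ * τ) p = vl σ (vl τ p) := by
  unfold vl
  rw [fv_val]
  rfl

theorem vl_one {p : ℕ} (h : p < 256) : vl 1 p = p := fv_lt h

theorem vl_inv {w : List ℕ} (hw : inR 27 w = true) {p : ℕ} (h : p < 256) :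
    vl (evL M8 w)⁻¹ p = trF img8 w p := by
  rw [vl, evM_inv hw, fv_lt h]

theorem vl_xor {σ : Equiv.Perm (Fin 256)} (h : σ ∈ OG false) {p q : ℕ} (hp : p < 256) (hq : q < 256) :
    vl σ (p ^^^ q) = vl σ p ^^^ vl σ q := by
  have : fv (p ^^^ q) = xo (fv p) (fv q) :=
    Fin.ext (by rw [fv_lt (xor_lt hp hq)]; exact (congrArg₂ _ (fv_lt hp) (fv_lt hq)).symm)
  rw [vl, this, h.1]
  rfl

theorem vl_qf {σ : Equiv.Perm (Fin 256)} (h : σ ∈ OG false) {p : ℕ} (hp : p < 256) :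
    qf false (vl σ p) = qf false p := by rw [vl, h.2, fv_lt hp]

theorem vl_qf2 {σ : Equiv.Perm (Fin 256)} (h : σ ∈ OG false) {p q : ℕ} (hp : p < 256) (hq : q < 256) :
    qf false (vl σ p ^^^ vl σ q) = qf false (p ^^^ q) := by
  rw [← vl_xor h hp hq, vl_qf h (xor_lt hp hq)]

theorem vl_inj (σ : Equiv.Perm (Fin 256)) {p q : ℕ} (hp : p < 256) (hq : q < 256)
    (h : vl σ p = vl σ q) : p = q := by
  rw [← fv_lt hp, ← fv_lt hq, σ.injective (Fin.ext h)]

theorem vl_zero {σ : Equiv.Perm (Fin 256)} (h : σ ∈ OG false) : vl σ 0 = 0 :=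
  congrArg Fin.val (OG_zero h)

theorem xor_swap {p t v : ℕ} (e : p ^^^ t = v) : p = v ^^^ t := by
  rw [← e, Nat.xor_assoc, Nat.xor_self, Nat.xor_zero]

theorem M8_sq {l : ℕ} (h : l < 27) : M8 l * M8 l = 1 := by
  rw [M8, dif_pos h]
  exact Equiv.ext fun v => (inv8 l h v).1

theorem M8_rev {w : List ℕ} (hw : inR 27 w = true) : evL M8 w.reverse = (evL M8 w)⁻¹ :=
  evL_rev fun l hl => M8_sq (inR_spec hw l hl).2

theorem hD8 : ∀ l < 27, l < 10 ∨ (letChk RT [(DW.getD l []).filter (10 ≤ ·)] = true ∧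
    eq8 [l] ((DW.getD l []).filter (10 ≤ ·)) = true) := by decide +kernel

theorem evM_Om {w : List ℕ} (hw : inR 27 w = true) : evL M8 w ∈ gen M8 RT :=
  evL_mem_of_letters fun l hl => by
    rcases hD8 l (inR_spec hw l hl).2 with h | ⟨h1, h2⟩
    · rw [M8_small h]; exact one_mem _
    · rw [← evL_singleton M8 l, eq8_spec h2]
      exact mem_of_letChk h1 _ List.mem_cons_self

theorem Om_le : gen M8 RT ≤ OG false := gen_le fun w _ => evM_mem w

theorem odd_fix (S : Finset ℕ) (hS : Odd S.card) (f : ℕ → ℕ) (h1 : ∀ v ∈ S, f v ∈ S)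
    (h2 : ∀ v ∈ S, f (f v) = v) : ∃ v ∈ S, f v = v := by
  by_contra h
  have := Finset.sum_involution (s := S) (f := fun _ => (1 : ZMod 2)) (fun v _ => f v)
    (fun _ _ => rfl) (fun v hv _ e => h ⟨v, hv, e⟩) h1 h2
  rw [Finset.sum_const, nsmul_eq_mul, mul_one, ZMod.natCast_eq_zero_iff_even] at this
  exact Nat.not_even_iff_odd.mpr hS this

/-- The product of a subfamily of words. -/
def sub (L : List (List ℕ)) (k : ℕ) : List ℕ :=
  ((List.range L.length).filter k.testBit).flatMap fun i => L.getD i []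

def U2 : List (List ℕ) := [[12], [12, 14, 12, 14], [23], [24]]

def U1 : List (List ℕ) := [[14], [16]]

/-- Words that move singular vectors to the second basis vector. -/
def TV2 : List (List ℕ) := [[], [], [], [], [12,13], [], [13], [], [14,15,12,13], [], [13,15,13], [], [15,12,13], [], [15,13], [], [], [], [], [], [], [], [], [], [], [], [], [], [], [], [], [], [12,16,13,17,14,15,12,13], [], [], [], [17,15,13,17,15,12,13], [], [], [], [12,13,17,14,15,12,13], [], [], [], [17,13,17,15,12,13], [], [], [], [], [], [], [], [], [], [], [], [], [], [], [], [], [], [], [], [16,17,14,15,12,13], [], [16,17,13,15,13], [], [], [], [], [], [17,14,15,12,13], [], [17,13,15,13], [], [], [], [], [], [], [], [], [], [], [], [], [], [], [], [], [], [], [], [], [], [16,13,17,14,15,12,13], [], [], [], [], [], [15,13,17,13,15,13], [], [13,17,14,15,12,13], [], [], [], [], [], [13,17,13,15,13], [], [], [], [], [], [], [], [],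 [], [], [], [], [], [], [], [], [], [16,17,12,13], [], [13,17,13], [], [17,12,13], [], [17,13], [], [], [], [], [], [], [], [], [], [], [], [], [], [], [], [], [], [], [], [], [], [], [], [], [], [16,15,13,17,15,12,13], [], [], [], [15,13,17,15,12,13], [], [], [], [], [], [12,13,17,15,13], [], [], [], [12,13,17,15,12,13], [], [], [], [], [], [], [], [], [], [], [], [], [], [], [], [], [], [16,17,15,12,13], [], [16,17,15,13], [], [], [], [], [], [], [], [], [], [17,15,12,13], [], [17,15,13], [], [], [], [], [], [], [], [], [], [], [], [], [], [], [], [], [], [16,13,17,15,12,13], [], [], [], [], [], [16,13,17,15,13], [], [], [], [13,17,15,13], [], [13,17,15,12,13], [], [], [], [], [], [], [], [], [], [], [], [], [], [], [], [], [], [], []]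

/-- Words that move singular vectors to the third basis vector. -/
def TV3 : List (List ℕ) := [[], [], [], [], [], [], [], [], [14,15], [], [], [], [15], [], [], [], [], [], [], [], [], [], [], [], [], [], [], [], [], [], [], [], [], [], [], [], [], [], [], [], [], [], [], [], [], [], [], [], [], [], [], [], [], [], [], [], [], [], [], [], [], [], [], [], [16,17,14,15], [], [], [], [], [], [], [], [17,14,15], [], [], [], [], [], [], [], [], [], [], [], [], [], [], [], [], [], [], [], [], [], [], [], [], [], [], [], [], [], [], [], [], [], [], [], [], [], [], [], [], [], [], [], [], [], [], [], [], [], [], [], [], [], [], [], [16,17], [], [], [], [17], [], [], [], [], [], [], [], [], [], [], [], [], [], [], [], [], [], [], [], [], [], [], [], [], [], [], [], [], [], [], [], [], [], [], [], [], [], [], [], [], [], [], [], [], [], [], [], [], [], [], [], [], [], [], [], [], [], [], [], [16,17,15], [], [],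 [], [], [], [], [], [], [], [], [], [17,15], [], [], [], [], [], [], [], [], [], [], [], [], [], [], [], [], [], [], [], [], [], [], [], [], [], [], [], [], [], [], [], [], [], [], [], [], [], [], [], [], [], [], [], [], [], [], [], [], [], [], []]

theorem hTV2 : ∀ v < 256, v ≠ 0 → qf false v = false → v &&& 17 = 0 → inR 27 (nthW TV2 v) = true ∧
    trF img8 (nthW TV2 v) 1 = 1 ∧ trF img8 (nthW TV2 v) v = 2 := by decide +kernel

theorem hTV3 : ∀ v < 256, v ≠ 0 → qf false v = false → v &&& 51 = 0 → inR 27 (nthW TV3 v) = true ∧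
    trF img8 (nthW TV3 v) 1 = 1 ∧ trF img8 (nthW TV3 v) 2 = 2 ∧ trF img8 (nthW TV3 v) v = 4 := by
  decide +kernel

theorem stepA : ∀ q < 256, qf false q = false ∧ qf false (q ^^^ 1) = true → ∀ p2 < 4, 2 ≤ p2 ∧
    qf false (q ^^^ p2) = false → ∀ p3 < 8, 4 ≤ p3 ∧ qf false (q ^^^ p3) = false → ∃ k < 64,
    trF img8 (swb k) q = 16 ∧ trF img8 (swb k) p2 = 2 ∧ trF img8 (swb k) p3 ∈ [4, 6] := by
  decide +kernel

theorem stepB : ∀ q < 256, qf false q = false → qf false (q ^^^ 1) = false →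
    qf false (q ^^^ 16) = false → qf false (q ^^^ 2) = true → ∀ p3 ∈ [4, 6],
    qf false (q ^^^ p3) = false → ∃ k < 16, inR 27 (sub U2 k) = true ∧
    trF img8 (sub U2 k) q = 32 ∧ trF img8 (sub U2 k) p3 = 4 ∧ trF img8 (sub U2 k) 1 = 1 ∧
    trF img8 (sub U2 k) 16 = 16 ∧ trF img8 (sub U2 k) 2 = 2 := by
  decide +kernel

theorem stepC : ∀ q < 256, qf false q = false → qf false (q ^^^ 1) = false →
    qf false (q ^^^ 16) = false → qf false (q ^^^ 2) = false → qf false (q ^^^ 32) = false →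
    qf false (q ^^^ 4) = true → ∃ k < 4, inR 27 (sub U1 k) = true ∧
    trF img8 (sub U1 k) q = 64 ∧ trF img8 (sub U1 k) 4 = 4 ∧ trF img8 (sub U1 k) 1 = 1 ∧
    trF img8 (sub U1 k) 16 = 16 ∧ trF img8 (sub U1 k) 2 = 2 ∧ trF img8 (sub U1 k) 32 = 32 := by
  decide +kernel

/-- Representatives of the classes of involutions. -/
def RO (r : ℕ) : List ℕ := ([[20], [19,22], [20,16], [20,14], [19,22,23]] : List (List ℕ)).getD r []

/-- Conjugating words. -/
def TB (k1 k2 k3 : ℕ) : List ℕ × ℕ :=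
  ((([[[([], 0), ([13,11,12,10,17,13,16,12], 0), ([13,11,12,10,15,13,14,12], 0), ([11,10,13,12], 1)], [([13,11,12,10,15,14,17,16], 0), ([], 0), ([], 0), ([], 0)], [([13,11,12,10,17,16], 0), ([13,11,12,10,17,13,16], 0), ([], 0), ([], 0)], [([13,11,12,10,15,17,16], 0), ([], 0), ([], 0), ([], 0)], [([13,11,12,10], 0), ([13,11,10,17,13,12,10], 0), ([13,11,10,15,13,12,10], 0), ([11,10,13,14,12], 1)], [([11,10,14,15,14], 1), ([], 0), ([], 0), ([], 0)], [([13,11,12,10,17], 0), ([13,11,12,10,17,13], 0), ([], 0), ([], 0)], [([11,10,14,15], 1), ([], 0), ([], 0), ([], 0)], [([13,11,12,10,15,14], 0), ([], 0), ([13,11,12,10,15,13,14], 0), ([], 0)], [([13,11,12,10,15,14,17], 0), ([], 0), ([], 0), ([], 0)], [([11,10], 1), ([], 0), ([], 0), ([11,10,13,14], 1)], [([11,10,15], 1), ([], 0), ([], 0), ([], 0)], [([13,11,12,10,15], 0), ([], 0), ([13,11,12,10,15,13], 0), ([], 0)], [([11,10,14,17], 1), ([], 0), ([], 0), ([], 0)],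 [([11,10,14], 1), ([], 0), ([], 0), ([11,10,13], 1)], [([13,11,12,10,15,17], 0), ([], 0), ([], 0), ([], 0)]], [[([13,12,15,14,17,13,16,12], 0), ([12,10,13,11,12,10,17,13,16,12], 2), ([12,10,13,11,12,10,15,13,14,12], 3), ([10,11,10,15,14,17,13,16,12], 4)], [([], 0), ([], 0), ([], 0), ([], 0)], [([], 0), ([], 0), ([], 0), ([], 0)], [([], 0), ([], 0), ([], 0), ([], 0)], [([], 0), ([], 0), ([], 0), ([], 0)], [([], 0), ([], 0), ([], 0), ([], 0)], [([], 0), ([], 0), ([], 0), ([], 0)], [([], 0), ([], 0), ([], 0), ([], 0)], [([], 0), ([], 0), ([], 0), ([], 0)], [([], 0), ([], 0), ([], 0), ([], 0)], [([], 0), ([], 0), ([], 0), ([], 0)], [([], 0), ([], 0), ([], 0), ([], 0)], [([], 0), ([], 0), ([], 0), ([], 0)], [([], 0), ([], 0), ([], 0), ([], 0)], [([], 0), ([], 0), ([], 0), ([], 0)], [([], 0), ([], 0), ([], 0), ([], 0)]], [[([13,12,15,14,17,16], 0), ([], 0), ([], 0), ([], 0)], [([13,11,12,15,14,17,16], 0), ([],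 0), ([], 0), ([], 0)], [([12,10,13,11,12,10,17,16], 2), ([], 0), ([], 0), ([], 0)], [([12,10,13,12,14,17,16], 2), ([], 0), ([], 0), ([], 0)], [([], 0), ([], 0), ([], 0), ([], 0)], [([], 0), ([], 0), ([], 0), ([], 0)], [([], 0), ([], 0), ([], 0), ([], 0)], [([], 0), ([], 0), ([], 0), ([], 0)], [([12,10,13,11,12,10,15,14], 3), ([], 0), ([], 0), ([], 0)], [([12,10,13,12,15,14,16], 3), ([], 0), ([], 0), ([], 0)], [([10,11,10,15,14,17,16], 4), ([], 0), ([], 0), ([], 0)], [([11,10,15,14,17,16], 4), ([], 0), ([], 0), ([], 0)], [([], 0), ([], 0), ([], 0), ([], 0)], [([], 0), ([], 0), ([], 0), ([], 0)], [([], 0), ([], 0), ([], 0), ([], 0)], [([], 0), ([], 0), ([], 0), ([], 0)]], [[([13,12,15,14,17,13,16], 0), ([], 0), ([], 0), ([], 0)], [([], 0), ([], 0), ([], 0), ([], 0)], [([], 0), ([12,10,13,11,12,10,17,13,16], 2), ([], 0), ([], 0)], [([], 0), ([], 0), ([], 0), ([], 0)], [([], 0), ([], 0), ([], 0), ([], 0)], [([],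 0), ([], 0), ([], 0), ([], 0)], [([], 0), ([], 0), ([], 0), ([], 0)], [([], 0), ([], 0), ([], 0), ([], 0)], [([], 0), ([], 0), ([12,10,13,11,12,10,15,13,14], 3), ([], 0)], [([], 0), ([], 0), ([], 0), ([], 0)], [([], 0), ([], 0), ([], 0), ([], 0)], [([], 0), ([], 0), ([], 0), ([], 0)], [([], 0), ([], 0), ([], 0), ([], 0)], [([], 0), ([], 0), ([], 0), ([], 0)], [([], 0), ([], 0), ([], 0), ([10,11,10,15,14,17,13,16], 4)], [([], 0), ([], 0), ([], 0), ([], 0)]], [[([13,12,17,16], 0), ([13,11,12,17,13,11,16], 0), ([], 0), ([], 0)], [([12,13,12,17,16], 2), ([], 0), ([], 0), ([], 0)], [([13,11,12,17,16], 0), ([13,11,12,17,13,16], 0), ([], 0), ([], 0)], [([12,13,11,12,17,16], 2), ([], 0), ([], 0), ([], 0)], [([12,10,13,11,12,10], 3), ([12,10,16,12,10], 3), ([], 0), ([], 0)], [([11,10,17,16], 4), ([], 0), ([], 0), ([], 0)], [([12,10,13,12,16], 3), ([13,11,12,10], 3), ([], 0), ([], 0)], [([10,11,10,17,16], 4), ([],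 0), ([], 0), ([], 0)], [([], 0), ([], 0), ([], 0), ([], 0)], [([], 0), ([], 0), ([], 0), ([], 0)], [([], 0), ([], 0), ([], 0), ([], 0)], [([], 0), ([], 0), ([], 0), ([], 0)], [([], 0), ([], 0), ([], 0), ([], 0)], [([], 0), ([], 0), ([], 0), ([], 0)], [([], 0), ([], 0), ([], 0), ([], 0)], [([], 0), ([], 0), ([], 0), ([], 0)]], [[([13,12,15,17,13,15,16], 0), ([12,10,13,11,12,17,13,16,12], 2), ([], 0), ([], 0)], [([], 0), ([], 0), ([], 0), ([], 0)], [([], 0), ([], 0), ([], 0), ([], 0)], [([], 0), ([], 0), ([], 0), ([], 0)], [([], 0), ([], 0), ([12,10,13,11,10,15,13,12,10], 3), ([10,11,10,15,17,13,16,12], 4)], [([], 0), ([], 0), ([], 0), ([], 0)], [([], 0), ([], 0), ([], 0), ([], 0)], [([], 0), ([], 0), ([], 0), ([], 0)], [([], 0), ([], 0), ([], 0), ([], 0)], [([], 0), ([], 0), ([], 0), ([], 0)], [([], 0), ([], 0), ([], 0), ([], 0)], [([], 0), ([], 0), ([], 0), ([], 0)], [([], 0), ([], 0), ([], 0), ([], 0)],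 [([], 0), ([], 0), ([], 0), ([], 0)], [([], 0), ([], 0), ([], 0), ([], 0)], [([], 0), ([], 0), ([], 0), ([], 0)]], [[([13,12,15,17,16], 0), ([], 0), ([], 0), ([], 0)], [([12,10,13,12,17,16], 2), ([], 0), ([], 0), ([], 0)], [([12,10,13,11,12,17,16], 2), ([], 0), ([], 0), ([], 0)], [([13,11,12,15,17,16], 0), ([], 0), ([], 0), ([], 0)], [([], 0), ([], 0), ([], 0), ([], 0)], [([], 0), ([], 0), ([], 0), ([], 0)], [([], 0), ([], 0), ([], 0), ([], 0)], [([], 0), ([], 0), ([], 0), ([], 0)], [([], 0), ([], 0), ([], 0), ([], 0)], [([], 0), ([], 0), ([], 0), ([], 0)], [([], 0), ([], 0), ([], 0), ([], 0)], [([], 0), ([], 0), ([], 0), ([], 0)], [([12,10,13,11,12,10,15], 3), ([], 0), ([], 0), ([], 0)], [([11,10,15,17,16], 4), ([], 0), ([], 0), ([], 0)], [([10,11,10,15,17,16], 4), ([], 0), ([], 0), ([], 0)], [([12,10,13,12,15,16], 3), ([], 0), ([], 0), ([], 0)]], [[([13,12,15,17,13,16], 0), ([], 0), ([], 0), ([], 0)],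 [([], 0), ([], 0), ([], 0), ([], 0)], [([], 0), ([12,10,13,11,12,17,13,16], 2), ([], 0), ([], 0)], [([], 0), ([], 0), ([], 0), ([], 0)], [([], 0), ([], 0), ([], 0), ([], 0)], [([], 0), ([], 0), ([], 0), ([], 0)], [([], 0), ([], 0), ([], 0), ([], 0)], [([], 0), ([], 0), ([], 0), ([], 0)], [([], 0), ([], 0), ([], 0), ([], 0)], [([], 0), ([], 0), ([], 0), ([], 0)], [([], 0), ([], 0), ([], 0), ([10,11,10,15,17,13,16], 4)], [([], 0), ([], 0), ([], 0), ([], 0)], [([], 0), ([], 0), ([12,10,13,11,12,10,15,13], 3), ([], 0)], [([], 0), ([], 0), ([], 0), ([], 0)], [([], 0), ([], 0), ([], 0), ([], 0)], [([], 0), ([], 0), ([], 0), ([], 0)]], [[([], 0), ([], 3), ([], 2), ([10,11,10,12,13,12], 4)], [([13,11,10,15,14,17,16], 0), ([], 0), ([], 0), ([], 0)], [([13,11,10,17,16], 0), ([12], 3), ([], 0), ([], 0)], [([13,11,10,15,17,16], 0), ([], 0), ([], 0), ([], 0)], [([13,11,10], 0), ([12,16,12], 3), ([12,14,12], 2), ([11,10,12,13,12],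 4)], [([11,14,12,10,15,14], 1), ([], 0), ([], 0), ([], 0)], [([13,11,10,17], 0), ([12,16], 3), ([], 0), ([], 0)], [([11,14,12,10,15], 1), ([], 0), ([], 0), ([], 0)], [([13,11,10,15,14], 0), ([], 0), ([12], 2), ([], 0)], [([13,11,10,15,14,17], 0), ([], 0), ([], 0), ([], 0)], [([11,14,12,10,14], 1), ([], 0), ([], 0), ([11,10,12,13], 4)], [([11,14,12,10,14,15], 1), ([], 0), ([], 0), ([], 0)], [([13,11,10,15], 0), ([], 0), ([12,14], 2), ([], 0)], [([11,14,12,10,17], 1), ([], 0), ([], 0), ([], 0)], [([11,14,12,10], 1), ([], 0), ([], 0), ([10,11,10,12,13], 4)], [([13,11,10,15,17], 0), ([], 0), ([], 0), ([], 0)]], [[([14,12,15,13,14,12], 1), ([10,12,17,13,16,12], 4), ([10,12,15,13,14,12], 4), ([10,11,15,17,13,12], 4)], [([], 0), ([], 0), ([], 0), ([], 0)], [([], 0), ([], 0), ([], 0), ([], 0)], [([], 0), ([], 0), ([], 0), ([], 0)], [([], 0), ([], 0), ([], 0), ([], 0)], [([], 0), ([], 0), ([], 0), ([], 0)], [([],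 0), ([], 0), ([], 0), ([], 0)], [([], 0), ([], 0), ([], 0), ([], 0)], [([], 0), ([], 0), ([], 0), ([], 0)], [([], 0), ([], 0), ([], 0), ([], 0)], [([], 0), ([], 0), ([], 0), ([], 0)], [([], 0), ([], 0), ([], 0), ([], 0)], [([], 0), ([], 0), ([], 0), ([], 0)], [([], 0), ([], 0), ([], 0), ([], 0)], [([], 0), ([], 0), ([], 0), ([], 0)], [([], 0), ([], 0), ([], 0), ([], 0)]], [[([13,15,13,17,16], 0), ([], 0), ([], 0), ([], 0)], [([13,11,15,14,17,16], 0), ([], 0), ([], 0), ([], 0)], [([12,10,13,11,10,17,16], 2), ([], 0), ([], 0), ([], 0)], [([12,10,13,14,17,16], 2), ([], 0), ([], 0), ([], 0)], [([], 0), ([], 0), ([], 0), ([], 0)], [([], 0), ([], 0), ([], 0), ([], 0)], [([], 0), ([], 0), ([], 0), ([], 0)], [([], 0), ([], 0), ([], 0), ([], 0)], [([12,10,13,11,10,15,14], 3), ([], 0), ([], 0), ([], 0)], [([12,10,13,15,14,16], 3), ([], 0), ([], 0), ([], 0)], [([10,11,10,12,15,14,17,16], 4), ([], 0), ([], 0), ([],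 0)], [([11,10,12,15,14,17,16], 4), ([], 0), ([], 0), ([], 0)], [([], 0), ([], 0), ([], 0), ([], 0)], [([], 0), ([], 0), ([], 0), ([], 0)], [([], 0), ([], 0), ([], 0), ([], 0)], [([], 0), ([], 0), ([], 0), ([], 0)]], [[([14,12,15,13,14], 1), ([], 0), ([], 0), ([], 0)], [([], 0), ([], 0), ([], 0), ([], 0)], [([], 0), ([10,12,17,13,16], 4), ([], 0), ([], 0)], [([], 0), ([], 0), ([], 0), ([], 0)], [([], 0), ([], 0), ([], 0), ([], 0)], [([], 0), ([], 0), ([], 0), ([], 0)], [([], 0), ([], 0), ([], 0), ([], 0)], [([], 0), ([], 0), ([], 0), ([], 0)], [([], 0), ([], 0), ([10,12,15,13,14], 4), ([], 0)], [([], 0), ([], 0), ([], 0), ([], 0)], [([], 0), ([], 0), ([], 0), ([], 0)], [([], 0), ([], 0), ([], 0), ([], 0)], [([], 0), ([], 0), ([], 0), ([], 0)], [([], 0), ([], 0), ([], 0), ([], 0)], [([], 0), ([], 0), ([], 0), ([10,11,15,17,13], 4)], [([], 0), ([], 0), ([], 0), ([], 0)]], [[([13,17,13], 0), ([12,10,11], 3),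 ([], 0), ([], 0)], [([12,13,17,16], 2), ([], 0), ([], 0), ([], 0)], [([13,11,17,16], 0), ([12,10], 3), ([], 0), ([], 0)], [([12,13,11,17,16], 2), ([], 0), ([], 0), ([], 0)], [([12,10,13,11,10], 3), ([13,11,17,13,11], 0), ([], 0), ([], 0)], [([11,10,12,17,16], 4), ([], 0), ([], 0), ([], 0)], [([12,10,13,16], 3), ([13,11,17,13], 0), ([], 0), ([], 0)], [([10,11,10,12,17,16], 4), ([], 0), ([], 0), ([], 0)], [([], 0), ([], 0), ([], 0), ([], 0)], [([], 0), ([], 0), ([], 0), ([], 0)], [([], 0), ([], 0), ([], 0), ([], 0)], [([], 0), ([], 0), ([], 0), ([], 0)], [([], 0), ([], 0), ([], 0), ([], 0)], [([], 0), ([], 0), ([], 0), ([], 0)], [([], 0), ([], 0), ([], 0), ([], 0)], [([], 0), ([], 0), ([], 0), ([], 0)]], [[([14,12,15,13,12], 1), ([17,13,16,12,13], 4), ([], 0), ([], 0)], [([], 0), ([], 0), ([], 0), ([], 0)], [([], 0), ([], 0), ([], 0), ([], 0)], [([], 0), ([], 0), ([], 0), ([], 0)], [([], 0), ([], 0), ([10,12,15,13,12],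 4), ([10,11,15,14,17,13,12], 4)], [([], 0), ([], 0), ([], 0), ([], 0)], [([], 0), ([], 0), ([], 0), ([], 0)], [([], 0), ([], 0), ([], 0), ([], 0)], [([], 0), ([], 0), ([], 0), ([], 0)], [([], 0), ([], 0), ([], 0), ([], 0)], [([], 0), ([], 0), ([], 0), ([], 0)], [([], 0), ([], 0), ([], 0), ([], 0)], [([], 0), ([], 0), ([], 0), ([], 0)], [([], 0), ([], 0), ([], 0), ([], 0)], [([], 0), ([], 0), ([], 0), ([], 0)], [([], 0), ([], 0), ([], 0), ([], 0)]], [[([13,15,17,16], 0), ([], 0), ([], 0), ([], 0)], [([12,10,13,17,16], 2), ([], 0), ([], 0), ([], 0)], [([12,10,13,11,17,16], 2), ([], 0), ([], 0), ([], 0)], [([13,11,15,17,16], 0), ([], 0), ([], 0), ([], 0)], [([], 0), ([], 0), ([], 0), ([], 0)], [([], 0), ([], 0), ([], 0), ([], 0)], [([], 0), ([], 0), ([], 0), ([], 0)], [([], 0), ([], 0), ([], 0), ([], 0)], [([], 0), ([], 0), ([], 0), ([], 0)], [([], 0), ([], 0), ([], 0), ([], 0)], [([], 0), ([], 0), ([], 0),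 ([], 0)], [([], 0), ([], 0), ([], 0), ([], 0)], [([12,10,13,11,10,15], 3), ([], 0), ([], 0), ([], 0)], [([11,10,12,15,17,16], 4), ([], 0), ([], 0), ([], 0)], [([10,11,10,12,15,17,16], 4), ([], 0), ([], 0), ([], 0)], [([12,10,13,15,16], 3), ([], 0), ([], 0), ([], 0)]], [[([14,12,15,13], 1), ([], 0), ([], 0), ([], 0)], [([], 0), ([], 0), ([], 0), ([], 0)], [([], 0), ([17,16,12,13], 4), ([], 0), ([], 0)], [([], 0), ([], 0), ([], 0), ([], 0)], [([], 0), ([], 0), ([], 0), ([], 0)], [([], 0), ([], 0), ([], 0), ([], 0)], [([], 0), ([], 0), ([], 0), ([], 0)], [([], 0), ([], 0), ([], 0), ([], 0)], [([], 0), ([], 0), ([], 0), ([], 0)], [([], 0), ([], 0), ([], 0), ([], 0)], [([], 0), ([], 0), ([], 0), ([10,11,15,14,17,13], 4)], [([], 0), ([], 0), ([], 0), ([], 0)], [([], 0), ([], 0), ([10,12,15,13], 4), ([], 0)], [([], 0), ([], 0), ([], 0), ([], 0)], [([], 0), ([], 0), ([], 0), ([], 0)], [([], 0), ([], 0), ([], 0),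 ([], 0)]], [[([13,12], 0), ([13,11,10,17,13,11,12], 0), ([13,11,10,15,13,11,12], 0), ([11,10,13,14,12,10,11], 1)], [([], 0), ([], 0), ([], 0), ([], 0)], [([12,13,12], 3), ([13,12], 3), ([], 0), ([], 0)], [([], 0), ([], 0), ([], 0), ([], 0)], [([13,11,12], 0), ([13,11,10,17,13,12], 0), ([13,11,10,15,13,12], 0), ([11,10,13,14,12,10], 1)], [([], 0), ([], 0), ([], 0), ([], 0)], [([12,13,11,12], 3), ([13,11,12], 3), ([], 0), ([], 0)], [([], 0), ([], 0), ([], 0), ([], 0)], [([12,13,12], 2), ([], 0), ([13,12], 2), ([], 0)], [([], 0), ([], 0), ([], 0), ([], 0)], [([10,11,10], 4), ([], 0), ([], 0), ([11,10,13], 4)], [([], 0), ([], 0), ([], 0), ([], 0)], [([12,13,11,12], 2), ([], 0), ([13,11,12], 2), ([], 0)], [([], 0), ([], 0), ([], 0), ([], 0)], [([11,10], 4), ([], 0), ([], 0), ([10,11,10,13], 4)], [([], 0), ([], 0), ([], 0), ([], 0)]], [[([13,12,15,17,13,15,17], 0), ([12,10,13,11,10,17,13,16,12], 2), ([12,10,13,11,10,15,13,14,12],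 3), ([10,11,10,12,15,14,17,13,16,12], 4)], [([], 0), ([], 0), ([], 0), ([], 0)], [([], 0), ([], 0), ([], 0), ([], 0)], [([], 0), ([], 0), ([], 0), ([], 0)], [([], 0), ([], 0), ([], 0), ([], 0)], [([], 0), ([], 0), ([], 0), ([], 0)], [([], 0), ([], 0), ([], 0), ([], 0)], [([], 0), ([], 0), ([], 0), ([], 0)], [([], 0), ([], 0), ([], 0), ([], 0)], [([], 0), ([], 0), ([], 0), ([], 0)], [([], 0), ([], 0), ([], 0), ([], 0)], [([], 0), ([], 0), ([], 0), ([], 0)], [([], 0), ([], 0), ([], 0), ([], 0)], [([], 0), ([], 0), ([], 0), ([], 0)], [([], 0), ([], 0), ([], 0), ([], 0)], [([], 0), ([], 0), ([], 0), ([], 0)]], [[([14,15,14], 1), ([], 0), ([], 0), ([], 0)], [([], 0), ([], 0), ([], 0), ([], 0)], [([10,17,16], 4), ([], 0), ([], 0), ([], 0)], [([], 0), ([], 0), ([], 0), ([], 0)], [([], 0), ([], 0), ([], 0), ([], 0)], [([11,14,12,15,14], 1), ([], 0), ([], 0), ([], 0)], [([], 0), ([], 0), ([], 0), ([], 0)], [([10,11,12,17,16],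 4), ([], 0), ([], 0), ([], 0)], [([10,15,14], 4), ([], 0), ([], 0), ([], 0)], [([], 0), ([], 0), ([], 0), ([], 0)], [([10,11,12,15,17], 4), ([], 0), ([], 0), ([], 0)], [([], 0), ([], 0), ([], 0), ([], 0)], [([], 0), ([], 0), ([], 0), ([], 0)], [([10,11,12,15,14], 4), ([], 0), ([], 0), ([], 0)], [([], 0), ([], 0), ([], 0), ([], 0)], [([10,15,17], 4), ([], 0), ([], 0), ([], 0)]], [[([14,15,13,14], 1), ([], 0), ([], 0), ([], 0)], [([], 0), ([], 0), ([], 0), ([], 0)], [([], 0), ([10,17,13,16], 4), ([], 0), ([], 0)], [([], 0), ([], 0), ([], 0), ([], 0)], [([], 0), ([], 0), ([], 0), ([], 0)], [([], 0), ([], 0), ([], 0), ([], 0)], [([], 0), ([], 0), ([], 0), ([], 0)], [([], 0), ([], 0), ([], 0), ([], 0)], [([], 0), ([], 0), ([10,15,13,14], 4), ([], 0)], [([], 0), ([], 0), ([], 0), ([], 0)], [([], 0), ([], 0), ([], 0), ([], 0)], [([], 0), ([], 0), ([], 0), ([], 0)], [([], 0), ([], 0), ([], 0), ([], 0)], [([], 0),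 ([], 0), ([], 0), ([], 0)], [([], 0), ([], 0), ([], 0), ([10,11,12,15,17,13], 4)], [([], 0), ([], 0), ([], 0), ([], 0)]], [[([13,12,17], 0), ([13,11,12,17,13,11], 0), ([], 0), ([], 0)], [([], 0), ([], 0), ([], 0), ([], 0)], [([12,10,13,12], 3), ([13,12,10], 3), ([], 0), ([], 0)], [([], 0), ([], 0), ([], 0), ([], 0)], [([12,10,13,11,12], 3), ([12,10,16,12], 3), ([], 0), ([], 0)], [([], 0), ([], 0), ([], 0), ([], 0)], [([13,11,12,17], 0), ([13,11,12,17,13], 0), ([], 0), ([], 0)], [([], 0), ([], 0), ([], 0), ([], 0)], [([], 0), ([], 0), ([], 0), ([], 0)], [([12,13,12,17], 2), ([], 0), ([], 0), ([], 0)], [([], 0), ([], 0), ([], 0), ([], 0)], [([10,11,10,17], 4), ([], 0), ([], 0), ([], 0)], [([], 0), ([], 0), ([], 0), ([], 0)], [([11,10,17], 4), ([], 0), ([], 0), ([], 0)], [([], 0), ([], 0), ([], 0), ([], 0)], [([12,13,11,12,17], 2), ([], 0), ([], 0), ([], 0)]], [[([13,12,15,17,13,15], 0), ([12,10,13,11,17,13,16,12],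 2), ([], 0), ([], 0)], [([], 0), ([], 0), ([], 0), ([], 0)], [([], 0), ([], 0), ([], 0), ([], 0)], [([], 0), ([], 0), ([], 0), ([], 0)], [([], 0), ([], 0), ([12,10,13,11,10,15,13,12], 3), ([10,11,10,12,15,17,13,16,12], 4)], [([], 0), ([], 0), ([], 0), ([], 0)], [([], 0), ([], 0), ([], 0), ([], 0)], [([], 0), ([], 0), ([], 0), ([], 0)], [([], 0), ([], 0), ([], 0), ([], 0)], [([], 0), ([], 0), ([], 0), ([], 0)], [([], 0), ([], 0), ([], 0), ([], 0)], [([], 0), ([], 0), ([], 0), ([], 0)], [([], 0), ([], 0), ([], 0), ([], 0)], [([], 0), ([], 0), ([], 0), ([], 0)], [([], 0), ([], 0), ([], 0), ([], 0)], [([], 0), ([], 0), ([], 0), ([], 0)]], [[([14,15], 1), ([], 0), ([], 0), ([], 0)], [([], 0), ([], 0), ([], 0), ([], 0)], [([17,16], 4), ([], 0), ([], 0), ([], 0)], [([], 0), ([], 0), ([], 0), ([], 0)], [([], 0), ([], 0), ([], 0), ([], 0)], [([11,17,16,12], 4), ([], 0), ([], 0), ([], 0)], [([], 0), ([], 0), ([],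 0), ([], 0)], [([11,14,12,15], 1), ([], 0), ([], 0), ([], 0)], [([], 0), ([], 0), ([], 0), ([], 0)], [([10,15,14,17], 4), ([], 0), ([], 0), ([], 0)], [([], 0), ([], 0), ([], 0), ([], 0)], [([10,11,12,15], 4), ([], 0), ([], 0), ([], 0)], [([10,15], 4), ([], 0), ([], 0), ([], 0)], [([], 0), ([], 0), ([], 0), ([], 0)], [([10,11,12,15,14,17], 4), ([], 0), ([], 0), ([], 0)], [([], 0), ([], 0), ([], 0), ([], 0)]], [[([14,15,13], 1), ([], 0), ([], 0), ([], 0)], [([], 0), ([], 0), ([], 0), ([], 0)], [([], 0), ([17,13,16], 4), ([], 0), ([], 0)], [([], 0), ([], 0), ([], 0), ([], 0)], [([], 0), ([], 0), ([], 0), ([], 0)], [([], 0), ([], 0), ([], 0), ([], 0)], [([], 0), ([], 0), ([], 0), ([], 0)], [([], 0), ([], 0), ([], 0), ([], 0)], [([], 0), ([], 0), ([], 0), ([], 0)], [([], 0), ([], 0), ([], 0), ([], 0)], [([], 0), ([], 0), ([], 0), ([10,11,12,15,14,17,13], 4)], [([], 0), ([], 0), ([], 0), ([], 0)], [([], 0), ([],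 0), ([10,15,13], 4), ([], 0)], [([], 0), ([], 0), ([], 0), ([], 0)], [([], 0), ([], 0), ([], 0), ([], 0)], [([], 0), ([], 0), ([], 0), ([], 0)]], [[([13], 0), ([13], 3), ([13], 2), ([10,11,10,13,12], 4)], [([], 0), ([], 0), ([], 0), ([], 0)], [([12,13], 3), ([13,11,10,17,13,11], 0), ([], 0), ([], 0)], [([], 0), ([], 0), ([], 0), ([], 0)], [([13,11], 0), ([13,11], 3), ([13,11], 2), ([11,10,13,12], 4)], [([], 0), ([], 0), ([], 0), ([], 0)], [([12,13,11], 3), ([13,11,10,17,13], 0), ([], 0), ([], 0)], [([], 0), ([], 0), ([], 0), ([], 0)], [([12,13], 2), ([], 0), ([13,11,10,15,13,11], 0), ([], 0)], [([], 0), ([], 0), ([], 0), ([], 0)], [([10,11,10,12], 4), ([], 0), ([], 0), ([11,14,12,10,13], 1)], [([], 0), ([], 0), ([], 0), ([], 0)], [([12,13,11], 2), ([], 0), ([13,11,10,15,13], 0), ([], 0)], [([], 0), ([], 0), ([], 0), ([], 0)], [([11,10,12], 4), ([], 0), ([], 0), ([11,13,11,14,12,10], 1)], [([], 0), ([], 0),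 ([], 0), ([], 0)]], [[([14,15,13,12,17], 1), ([10,17,13,16,12], 4), ([10,15,13,14,12], 4), ([10,11,12,15,17,13,12], 4)], [([], 0), ([], 0), ([], 0), ([], 0)], [([], 0), ([], 0), ([], 0), ([], 0)], [([], 0), ([], 0), ([], 0), ([], 0)], [([], 0), ([], 0), ([], 0), ([], 0)], [([], 0), ([], 0), ([], 0), ([], 0)], [([], 0), ([], 0), ([], 0), ([], 0)], [([], 0), ([], 0), ([], 0), ([], 0)], [([], 0), ([], 0), ([], 0), ([], 0)], [([], 0), ([], 0), ([], 0), ([], 0)], [([], 0), ([], 0), ([], 0), ([], 0)], [([], 0), ([], 0), ([], 0), ([], 0)], [([], 0), ([], 0), ([], 0), ([], 0)], [([], 0), ([], 0), ([], 0), ([], 0)], [([], 0), ([], 0), ([], 0), ([], 0)], [([], 0), ([], 0), ([], 0), ([], 0)]], [[([14,12,15,14], 1), ([], 0), ([], 0), ([], 0)], [([], 0), ([], 0), ([], 0), ([], 0)], [([10,12,17,16], 4), ([], 0), ([], 0), ([], 0)], [([], 0), ([], 0), ([], 0), ([], 0)], [([], 0), ([], 0), ([], 0), ([], 0)], [([11,14,15,14],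 1), ([], 0), ([], 0), ([], 0)], [([], 0), ([], 0), ([], 0), ([], 0)], [([10,11,17,16], 4), ([], 0), ([], 0), ([], 0)], [([10,12,15,14], 4), ([], 0), ([], 0), ([], 0)], [([], 0), ([], 0), ([], 0), ([], 0)], [([10,11,15,17], 4), ([], 0), ([], 0), ([], 0)], [([], 0), ([], 0), ([], 0), ([], 0)], [([], 0), ([], 0), ([], 0), ([], 0)], [([10,11,15,14], 4), ([], 0), ([], 0), ([], 0)], [([], 0), ([], 0), ([], 0), ([], 0)], [([10,12,15,17], 4), ([], 0), ([], 0), ([], 0)]], [[([13,15,13,17,13,15], 0), ([], 0), ([], 0), ([], 0)], [([], 0), ([], 0), ([], 0), ([], 0)], [([], 0), ([12,10,13,11,10,17,13,16], 2), ([], 0), ([], 0)], [([], 0), ([], 0), ([], 0), ([], 0)], [([], 0), ([], 0), ([], 0), ([], 0)], [([], 0), ([], 0), ([], 0), ([], 0)], [([], 0), ([], 0), ([], 0), ([], 0)], [([], 0), ([], 0), ([], 0), ([], 0)], [([], 0), ([], 0), ([12,10,13,11,10,15,13,14], 3), ([], 0)], [([], 0), ([], 0), ([], 0), ([], 0)], [([],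 0), ([], 0), ([], 0), ([], 0)], [([], 0), ([], 0), ([], 0), ([], 0)], [([], 0), ([], 0), ([], 0), ([], 0)], [([], 0), ([], 0), ([], 0), ([], 0)], [([], 0), ([], 0), ([], 0), ([10,11,10,12,15,14,17,13,16], 4)], [([], 0), ([], 0), ([], 0), ([], 0)]], [[([13,17], 0), ([13,17], 3), ([], 0), ([], 0)], [([], 0), ([], 0), ([], 0), ([], 0)], [([12,10,13], 3), ([13,11,17,13,16], 0), ([], 0), ([], 0)], [([], 0), ([], 0), ([], 0), ([], 0)], [([12,10,13,11], 3), ([13,11,10,17,13,17], 0), ([], 0), ([], 0)], [([], 0), ([], 0), ([], 0), ([], 0)], [([13,11,17], 0), ([12,10,16], 3), ([], 0), ([], 0)], [([], 0), ([], 0), ([], 0), ([], 0)], [([], 0), ([], 0), ([], 0), ([], 0)], [([12,13,17], 2), ([], 0), ([], 0), ([], 0)], [([], 0), ([], 0), ([], 0), ([], 0)], [([10,11,10,12,17], 4), ([], 0), ([], 0), ([], 0)], [([], 0), ([], 0), ([], 0), ([], 0)], [([11,10,12,17], 4), ([], 0), ([], 0), ([], 0)], [([], 0), ([], 0), ([], 0),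 ([], 0)], [([12,13,11,17], 2), ([], 0), ([], 0), ([], 0)]], [[([14,15,13,12], 1), ([17,13,16,12], 4), ([], 0), ([], 0)], [([], 0), ([], 0), ([], 0), ([], 0)], [([], 0), ([], 0), ([], 0), ([], 0)], [([], 0), ([], 0), ([], 0), ([], 0)], [([], 0), ([], 0), ([10,15,13,12], 4), ([10,11,12,15,14,17,13,12], 4)], [([], 0), ([], 0), ([], 0), ([], 0)], [([], 0), ([], 0), ([], 0), ([], 0)], [([], 0), ([], 0), ([], 0), ([], 0)], [([], 0), ([], 0), ([], 0), ([], 0)], [([], 0), ([], 0), ([], 0), ([], 0)], [([], 0), ([], 0), ([], 0), ([], 0)], [([], 0), ([], 0), ([], 0), ([], 0)], [([], 0), ([], 0), ([], 0), ([], 0)], [([], 0), ([], 0), ([], 0), ([], 0)], [([], 0), ([], 0), ([], 0), ([], 0)], [([], 0), ([], 0), ([], 0), ([], 0)]], [[([14,12,15], 1), ([], 0), ([], 0), ([], 0)], [([], 0), ([], 0), ([], 0), ([], 0)], [([17,16,12], 4), ([], 0), ([], 0), ([], 0)], [([], 0), ([], 0), ([], 0), ([], 0)], [([], 0), ([], 0), ([],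 0), ([], 0)], [([11,17,16], 4), ([], 0), ([], 0), ([], 0)], [([], 0), ([], 0), ([], 0), ([], 0)], [([11,14,15], 1), ([], 0), ([], 0), ([], 0)], [([], 0), ([], 0), ([], 0), ([], 0)], [([10,12,15,14,17], 4), ([], 0), ([], 0), ([], 0)], [([], 0), ([], 0), ([], 0), ([], 0)], [([10,11,15], 4), ([], 0), ([], 0), ([], 0)], [([10,12,15], 4), ([], 0), ([], 0), ([], 0)], [([], 0), ([], 0), ([], 0), ([], 0)], [([10,11,15,14,17], 4), ([], 0), ([], 0), ([], 0)], [([], 0), ([], 0), ([], 0), ([], 0)]], [[([13,15,17,13,16], 0), ([], 0), ([], 0), ([], 0)], [([], 0), ([], 0), ([], 0), ([], 0)], [([], 0), ([12,10,13,11,17,13,16], 2), ([], 0), ([], 0)], [([], 0), ([], 0), ([], 0), ([], 0)], [([], 0), ([], 0), ([], 0), ([], 0)], [([], 0), ([], 0), ([], 0), ([], 0)], [([], 0), ([], 0), ([], 0), ([], 0)], [([], 0), ([], 0), ([], 0), ([], 0)], [([], 0), ([], 0), ([], 0), ([], 0)], [([], 0), ([], 0), ([], 0), ([], 0)], [([], 0),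 ([], 0), ([], 0), ([10,11,10,12,15,17,13,16], 4)], [([], 0), ([], 0), ([], 0), ([], 0)], [([], 0), ([], 0), ([12,10,13,11,10,15,13], 3), ([], 0)], [([], 0), ([], 0), ([], 0), ([], 0)], [([], 0), ([], 0), ([], 0), ([], 0)], [([], 0), ([], 0), ([], 0), ([], 0)]], [[([13,12,15,14], 0), ([], 0), ([13,11,12,15,13,11,14], 0), ([], 0)], [([12,13,12,15,14], 3), ([], 0), ([], 0), ([], 0)], [([], 0), ([], 0), ([], 0), ([], 0)], [([], 0), ([], 0), ([], 0), ([], 0)], [([12,10,13,11,12,10], 2), ([], 0), ([12,10,14,12,10], 2), ([], 0)], [([11,10,15,14], 4), ([], 0), ([], 0), ([], 0)], [([], 0), ([], 0), ([], 0), ([], 0)], [([], 0), ([], 0), ([], 0), ([], 0)], [([13,11,12,15,14], 0), ([], 0), ([13,11,12,15,13,14], 0), ([], 0)], [([12,13,11,12,15,14], 3), ([], 0), ([], 0), ([], 0)], [([], 0), ([], 0), ([], 0), ([], 0)], [([], 0), ([], 0), ([], 0), ([], 0)], [([12,10,13,12,14], 2), ([], 0), ([13,11,12,10], 2), ([], 0)],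 [([10,11,10,15,14], 4), ([], 0), ([], 0), ([], 0)], [([], 0), ([], 0), ([], 0), ([], 0)], [([], 0), ([], 0), ([], 0), ([], 0)]], [[([13,12,15,14,17,13,12], 0), ([], 0), ([12,10,13,11,12,15,13,14,12], 3), ([], 0)], [([], 0), ([], 0), ([], 0), ([], 0)], [([], 0), ([], 0), ([], 0), ([], 0)], [([], 0), ([], 0), ([], 0), ([], 0)], [([], 0), ([12,10,13,11,10,17,13,12,10], 2), ([], 0), ([10,11,10,15,14,17,13,12], 4)], [([], 0), ([], 0), ([], 0), ([], 0)], [([], 0), ([], 0), ([], 0), ([], 0)], [([], 0), ([], 0), ([], 0), ([], 0)], [([], 0), ([], 0), ([], 0), ([], 0)], [([], 0), ([], 0), ([], 0), ([], 0)], [([], 0), ([], 0), ([], 0), ([], 0)], [([], 0), ([], 0), ([], 0), ([], 0)], [([], 0), ([], 0), ([], 0), ([], 0)], [([], 0), ([], 0), ([], 0), ([], 0)], [([], 0), ([], 0), ([], 0), ([], 0)], [([], 0), ([], 0), ([], 0), ([], 0)]], [[([13,12,15,14,17], 0), ([], 0), ([], 0), ([], 0)], [([12,10,13,12,15,14], 3), ([],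 0), ([], 0), ([], 0)], [([], 0), ([], 0), ([], 0), ([], 0)], [([], 0), ([], 0), ([], 0), ([], 0)], [([], 0), ([], 0), ([], 0), ([], 0)], [([], 0), ([], 0), ([], 0), ([], 0)], [([12,10,13,11,12,10,17], 2), ([], 0), ([], 0), ([], 0)], [([11,10,15,14,17], 4), ([], 0), ([], 0), ([], 0)], [([12,10,13,11,12,15,14], 3), ([], 0), ([], 0), ([], 0)], [([13,11,12,15,14,17], 0), ([], 0), ([], 0), ([], 0)], [([], 0), ([], 0), ([], 0), ([], 0)], [([], 0), ([], 0), ([], 0), ([], 0)], [([], 0), ([], 0), ([], 0), ([], 0)], [([], 0), ([], 0), ([], 0), ([], 0)], [([10,11,10,15,14,17], 4), ([], 0), ([], 0), ([], 0)], [([12,10,13,12,14,17], 2), ([], 0), ([], 0), ([], 0)]], [[([13,12,15,14,17,13], 0), ([], 0), ([], 0), ([], 0)], [([], 0), ([], 0), ([], 0), ([], 0)], [([], 0), ([], 0), ([], 0), ([], 0)], [([], 0), ([], 0), ([], 0), ([], 0)], [([], 0), ([], 0), ([], 0), ([], 0)], [([], 0), ([], 0), ([], 0), ([], 0)], [([], 0),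 ([12,10,13,11,12,10,17,13], 2), ([], 0), ([], 0)], [([], 0), ([], 0), ([], 0), ([], 0)], [([], 0), ([], 0), ([12,10,13,11,12,15,13,14], 3), ([], 0)], [([], 0), ([], 0), ([], 0), ([], 0)], [([], 0), ([], 0), ([], 0), ([10,11,10,15,14,17,13], 4)], [([], 0), ([], 0), ([], 0), ([], 0)], [([], 0), ([], 0), ([], 0), ([], 0)], [([], 0), ([], 0), ([], 0), ([], 0)], [([], 0), ([], 0), ([], 0), ([], 0)], [([], 0), ([], 0), ([], 0), ([], 0)]], [[([], 1), ([], 0), ([], 0), ([11,13,11,14], 1)], [([15,14,17,16], 4), ([], 0), ([], 0), ([], 0)], [([], 0), ([], 0), ([], 0), ([], 0)], [([], 0), ([], 0), ([], 0), ([], 0)], [([], 4), ([], 0), ([], 0), ([10,11,13,11], 4)], [([10,11,12,14,15,17], 4), ([], 0), ([], 0), ([], 0)], [([], 0), ([], 0), ([], 0), ([], 0)], [([], 0), ([], 0), ([], 0), ([], 0)], [([], 0), ([], 0), ([], 0), ([], 0)], [([], 0), ([], 0), ([], 0), ([], 0)], [([11,14,12,14], 1), ([], 0), ([], 0), ([10,11,12,13,14],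 4)], [([11,15,14,12,17,16], 4), ([], 0), ([], 0), ([], 0)], [([], 0), ([], 0), ([], 0), ([], 0)], [([], 0), ([], 0), ([], 0), ([], 0)], [([10,11,12,14], 4), ([], 0), ([], 0), ([11,13,11,14,12], 1)], [([15,17], 4), ([], 0), ([], 0), ([], 0)]], [[([15,13,12], 1), ([], 0), ([], 0), ([10,11,12,15,14,17,13,16,12], 4)], [([], 0), ([], 0), ([], 0), ([], 0)], [([], 0), ([], 0), ([], 0), ([], 0)], [([], 0), ([], 0), ([], 0), ([], 0)], [([], 0), ([17,13,12], 4), ([15,13,12], 4), ([], 0)], [([], 0), ([], 0), ([], 0), ([], 0)], [([], 0), ([], 0), ([], 0), ([], 0)], [([], 0), ([], 0), ([], 0), ([], 0)], [([], 0), ([], 0), ([], 0), ([], 0)], [([], 0), ([], 0), ([], 0), ([], 0)], [([], 0), ([], 0), ([], 0), ([], 0)], [([], 0), ([], 0), ([], 0), ([], 0)], [([], 0), ([], 0), ([], 0), ([], 0)], [([], 0), ([], 0), ([], 0), ([], 0)], [([], 0), ([], 0), ([], 0), ([], 0)], [([], 0), ([], 0), ([], 0), ([], 0)]], [[([15], 1), ([],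 0), ([], 0), ([], 0)], [([10,15,14,17,16], 4), ([], 0), ([], 0), ([], 0)], [([], 0), ([], 0), ([], 0), ([], 0)], [([], 0), ([], 0), ([], 0), ([], 0)], [([], 0), ([], 0), ([], 0), ([], 0)], [([], 0), ([], 0), ([], 0), ([], 0)], [([17], 4), ([], 0), ([], 0), ([], 0)], [([10,11,12,14,15], 4), ([], 0), ([], 0), ([], 0)], [([], 0), ([], 0), ([], 0), ([], 0)], [([], 0), ([], 0), ([], 0), ([], 0)], [([10,11,12,15,14,17,16], 4), ([], 0), ([], 0), ([], 0)], [([11,14,12,14,15], 1), ([], 0), ([], 0), ([], 0)], [([15], 4), ([], 0), ([], 0), ([], 0)], [([10,11,12,14,17], 4), ([], 0), ([], 0), ([], 0)], [([], 0), ([], 0), ([], 0), ([], 0)], [([], 0), ([], 0), ([], 0), ([], 0)]], [[([15,13], 1), ([], 0), ([], 0), ([], 0)], [([], 0), ([], 0), ([], 0), ([], 0)], [([], 0), ([], 0), ([], 0), ([], 0)], [([], 0), ([], 0), ([], 0), ([], 0)], [([], 0), ([], 0), ([], 0), ([], 0)], [([], 0), ([], 0), ([], 0), ([], 0)], [([], 0),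 ([17,13], 4), ([], 0), ([], 0)], [([], 0), ([], 0), ([], 0), ([], 0)], [([], 0), ([], 0), ([], 0), ([], 0)], [([], 0), ([], 0), ([], 0), ([], 0)], [([], 0), ([], 0), ([], 0), ([], 0)], [([], 0), ([], 0), ([], 0), ([], 0)], [([], 0), ([], 0), ([15,13], 4), ([], 0)], [([], 0), ([], 0), ([], 0), ([], 0)], [([], 0), ([], 0), ([], 0), ([10,11,12,15,14,17,13,16], 4)], [([], 0), ([], 0), ([], 0), ([], 0)]], [[([13,15,13], 0), ([], 0), ([12,10,11], 2), ([], 0)], [([12,13,15,14], 3), ([], 0), ([], 0), ([], 0)], [([], 0), ([], 0), ([], 0), ([], 0)], [([], 0), ([], 0), ([], 0), ([], 0)], [([12,10,13,11,10], 2), ([], 0), ([13,11,15,13,11], 0), ([], 0)], [([11,10,12,15,14], 4), ([], 0), ([], 0), ([], 0)], [([], 0), ([], 0), ([], 0), ([], 0)], [([], 0), ([], 0), ([], 0), ([], 0)], [([13,11,15,14], 0), ([], 0), ([12,10], 2), ([], 0)], [([12,13,11,15,14], 3), ([], 0), ([], 0), ([], 0)], [([], 0), ([], 0), ([], 0), ([],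 0)], [([], 0), ([], 0), ([], 0), ([], 0)], [([12,10,13,14], 2), ([], 0), ([13,11,15,13], 0), ([], 0)], [([10,11,10,12,15,14], 4), ([], 0), ([], 0), ([], 0)], [([], 0), ([], 0), ([], 0), ([], 0)], [([], 0), ([], 0), ([], 0), ([], 0)]], [[([14,12,17,13,12], 1), ([], 0), ([15,13,14,12,13], 4), ([], 0)], [([], 0), ([], 0), ([], 0), ([], 0)], [([], 0), ([], 0), ([], 0), ([], 0)], [([], 0), ([], 0), ([], 0), ([], 0)], [([], 0), ([10,12,17,13,12], 4), ([], 0), ([10,11,15,17,13,16,12], 4)], [([], 0), ([], 0), ([], 0), ([], 0)], [([], 0), ([], 0), ([], 0), ([], 0)], [([], 0), ([], 0), ([], 0), ([], 0)], [([], 0), ([], 0), ([], 0), ([], 0)], [([], 0), ([], 0), ([], 0), ([], 0)], [([], 0), ([], 0), ([], 0), ([], 0)], [([], 0), ([], 0), ([], 0), ([], 0)], [([], 0), ([], 0), ([], 0), ([], 0)], [([], 0), ([], 0), ([], 0), ([], 0)], [([], 0), ([], 0), ([], 0), ([], 0)], [([], 0), ([], 0), ([], 0), ([], 0)]], [[([13,15,13,17],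 0), ([], 0), ([], 0), ([], 0)], [([12,10,13,15,14], 3), ([], 0), ([], 0), ([], 0)], [([], 0), ([], 0), ([], 0), ([], 0)], [([], 0), ([], 0), ([], 0), ([], 0)], [([], 0), ([], 0), ([], 0), ([], 0)], [([], 0), ([], 0), ([], 0), ([], 0)], [([12,10,13,11,10,17], 2), ([], 0), ([], 0), ([], 0)], [([11,10,12,15,14,17], 4), ([], 0), ([], 0), ([], 0)], [([12,10,13,11,15,14], 3), ([], 0), ([], 0), ([], 0)], [([13,11,15,14,17], 0), ([], 0), ([], 0), ([], 0)], [([], 0), ([], 0), ([], 0), ([], 0)], [([], 0), ([], 0), ([], 0), ([], 0)], [([], 0), ([], 0), ([], 0), ([], 0)], [([], 0), ([], 0), ([], 0), ([], 0)], [([10,11,10,12,15,14,17], 4), ([], 0), ([], 0), ([], 0)], [([12,10,13,14,17], 2), ([], 0), ([], 0), ([], 0)]], [[([14,12,17,13], 1), ([], 0), ([], 0), ([], 0)], [([], 0), ([], 0), ([], 0), ([], 0)], [([], 0), ([], 0), ([], 0), ([], 0)], [([], 0), ([], 0), ([], 0), ([], 0)], [([], 0), ([], 0), ([], 0), ([], 0)],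 [([], 0), ([], 0), ([], 0), ([], 0)], [([], 0), ([10,12,17,13], 4), ([], 0), ([], 0)], [([], 0), ([], 0), ([], 0), ([], 0)], [([], 0), ([], 0), ([15,14,12,13], 4), ([], 0)], [([], 0), ([], 0), ([], 0), ([], 0)], [([], 0), ([], 0), ([], 0), ([10,11,15,17,13,16], 4)], [([], 0), ([], 0), ([], 0), ([], 0)], [([], 0), ([], 0), ([], 0), ([], 0)], [([], 0), ([], 0), ([], 0), ([], 0)], [([], 0), ([], 0), ([], 0), ([], 0)], [([], 0), ([], 0), ([], 0), ([], 0)]], [[([14,12,13], 1), ([], 0), ([], 0), ([10,11,13,12], 4)], [([15,14,12,17,16], 4), ([], 0), ([], 0), ([], 0)], [([], 0), ([], 0), ([], 0), ([], 0)], [([], 0), ([], 0), ([], 0), ([], 0)], [([10,12,10], 4), ([], 0), ([], 0), ([11,13,14,12], 1)], [([11,15,17], 4), ([], 0), ([], 0), ([], 0)], [([], 0), ([], 0), ([], 0), ([], 0)], [([], 0), ([], 0), ([], 0), ([], 0)], [([], 0), ([], 0), ([], 0), ([], 0)], [([], 0), ([], 0), ([], 0), ([], 0)], [([11], 1), ([], 0),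 ([], 0), ([11,13,14], 1)], [([11,15,14,17,16], 4), ([], 0), ([], 0), ([], 0)], [([], 0), ([], 0), ([], 0), ([], 0)], [([], 0), ([], 0), ([], 0), ([], 0)], [([11], 4), ([], 0), ([], 0), ([10,11,13], 4)], [([10,12,10,15,17], 4), ([], 0), ([], 0), ([], 0)]], [[([13,15,17,13,12], 0), ([], 0), ([], 0), ([10,11,10,12,15,17,13,12], 4)], [([], 0), ([], 0), ([], 0), ([], 0)], [([], 0), ([], 0), ([], 0), ([], 0)], [([], 0), ([], 0), ([], 0), ([], 0)], [([], 0), ([12,10,13,11,17,13,12], 2), ([12,10,13,11,15,13,12], 3), ([], 0)], [([], 0), ([], 0), ([], 0), ([], 0)], [([], 0), ([], 0), ([], 0), ([], 0)], [([], 0), ([], 0), ([], 0), ([], 0)], [([], 0), ([], 0), ([], 0), ([], 0)], [([], 0), ([], 0), ([], 0), ([], 0)], [([], 0), ([], 0), ([], 0), ([], 0)], [([], 0), ([], 0), ([], 0), ([], 0)], [([], 0), ([], 0), ([], 0), ([], 0)], [([], 0), ([], 0), ([], 0), ([], 0)], [([], 0), ([], 0), ([], 0), ([], 0)], [([], 0), ([],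 0), ([], 0), ([], 0)]], [[([14,12,13,15], 1), ([], 0), ([], 0), ([], 0)], [([10,12,15,14,17,16], 4), ([], 0), ([], 0), ([], 0)], [([], 0), ([], 0), ([], 0), ([], 0)], [([], 0), ([], 0), ([], 0), ([], 0)], [([], 0), ([], 0), ([], 0), ([], 0)], [([], 0), ([], 0), ([], 0), ([], 0)], [([10,12,10,17], 4), ([], 0), ([], 0), ([], 0)], [([11,15], 4), ([], 0), ([], 0), ([], 0)], [([], 0), ([], 0), ([], 0), ([], 0)], [([], 0), ([], 0), ([], 0), ([], 0)], [([10,11,15,14,17,16], 4), ([], 0), ([], 0), ([], 0)], [([11,15], 1), ([], 0), ([], 0), ([], 0)], [([10,12,10,15], 4), ([], 0), ([], 0), ([], 0)], [([11,17], 4), ([], 0), ([], 0), ([], 0)], [([], 0), ([], 0), ([], 0), ([], 0)], [([], 0), ([], 0), ([], 0), ([], 0)]], [[([13,15,17,13], 0), ([], 0), ([], 0), ([], 0)], [([], 0), ([], 0), ([], 0), ([], 0)], [([], 0), ([], 0), ([], 0), ([], 0)], [([], 0), ([], 0), ([], 0), ([], 0)], [([], 0), ([], 0), ([], 0), ([], 0)],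 [([], 0), ([], 0), ([], 0), ([], 0)], [([], 0), ([12,10,13,11,17,13], 2), ([], 0), ([], 0)], [([], 0), ([], 0), ([], 0), ([], 0)], [([], 0), ([], 0), ([], 0), ([], 0)], [([], 0), ([], 0), ([], 0), ([], 0)], [([], 0), ([], 0), ([], 0), ([], 0)], [([], 0), ([], 0), ([], 0), ([], 0)], [([], 0), ([], 0), ([12,10,13,11,15,13], 3), ([], 0)], [([], 0), ([], 0), ([], 0), ([], 0)], [([], 0), ([], 0), ([], 0), ([10,11,10,12,15,17,13], 4)], [([], 0), ([], 0), ([], 0), ([], 0)]], [[([13,12,15], 0), ([], 0), ([13,11,12,15,13,11], 0), ([], 0)], [([], 0), ([], 0), ([], 0), ([], 0)], [([], 0), ([], 0), ([], 0), ([], 0)], [([12,13,12,15], 3), ([], 0), ([], 0), ([], 0)], [([12,10,13,11,12], 2), ([], 0), ([12,10,14,12], 2), ([], 0)], [([], 0), ([], 0), ([], 0), ([], 0)], [([], 0), ([], 0), ([], 0), ([], 0)], [([11,10,15], 4), ([], 0), ([], 0), ([], 0)], [([12,10,13,12], 2), ([], 0), ([13,12,10], 2), ([], 0)], [([], 0), ([],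 0), ([], 0), ([], 0)], [([], 0), ([], 0), ([], 0), ([], 0)], [([10,11,10,15], 4), ([], 0), ([], 0), ([], 0)], [([13,11,12,15], 0), ([], 0), ([13,11,12,15,13], 0), ([], 0)], [([], 0), ([], 0), ([], 0), ([], 0)], [([], 0), ([], 0), ([], 0), ([], 0)], [([12,13,11,12,15], 3), ([], 0), ([], 0), ([], 0)]], [[([13,12,15,17,13,17], 0), ([], 0), ([12,10,13,11,15,13,14,12], 3), ([], 0)], [([], 0), ([], 0), ([], 0), ([], 0)], [([], 0), ([], 0), ([], 0), ([], 0)], [([], 0), ([], 0), ([], 0), ([], 0)], [([], 0), ([12,10,13,11,10,17,13,12], 2), ([], 0), ([10,11,10,12,15,14,17,13,12], 4)], [([], 0), ([], 0), ([], 0), ([], 0)], [([], 0), ([], 0), ([], 0), ([], 0)], [([], 0), ([], 0), ([], 0), ([], 0)], [([], 0), ([], 0), ([], 0), ([], 0)], [([], 0), ([], 0), ([], 0), ([], 0)], [([], 0), ([], 0), ([], 0), ([], 0)], [([], 0), ([], 0), ([], 0), ([], 0)], [([], 0), ([], 0), ([], 0), ([], 0)], [([], 0), ([], 0), ([], 0), ([],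 0)], [([], 0), ([], 0), ([], 0), ([], 0)], [([], 0), ([], 0), ([], 0), ([], 0)]], [[([14,17], 1), ([], 0), ([], 0), ([], 0)], [([], 0), ([], 0), ([], 0), ([], 0)], [([], 0), ([], 0), ([], 0), ([], 0)], [([10,15,17,16], 4), ([], 0), ([], 0), ([], 0)], [([], 0), ([], 0), ([], 0), ([], 0)], [([11,15,14,12], 4), ([], 0), ([], 0), ([], 0)], [([10,17], 4), ([], 0), ([], 0), ([], 0)], [([], 0), ([], 0), ([], 0), ([], 0)], [([15,14], 4), ([], 0), ([], 0), ([], 0)], [([], 0), ([], 0), ([], 0), ([], 0)], [([], 0), ([], 0), ([], 0), ([], 0)], [([10,11,12,17], 4), ([], 0), ([], 0), ([], 0)], [([], 0), ([], 0), ([], 0), ([], 0)], [([11,14,12,17], 1), ([], 0), ([], 0), ([], 0)], [([10,11,12,15,17,16], 4), ([], 0), ([], 0), ([], 0)], [([], 0), ([], 0), ([], 0), ([], 0)]], [[([14,17,13], 1), ([], 0), ([], 0), ([], 0)], [([], 0), ([], 0), ([], 0), ([], 0)], [([], 0), ([], 0), ([], 0), ([], 0)], [([], 0), ([], 0), ([], 0),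 ([], 0)], [([], 0), ([], 0), ([], 0), ([], 0)], [([], 0), ([], 0), ([], 0), ([], 0)], [([], 0), ([10,17,13], 4), ([], 0), ([], 0)], [([], 0), ([], 0), ([], 0), ([], 0)], [([], 0), ([], 0), ([15,13,14], 4), ([], 0)], [([], 0), ([], 0), ([], 0), ([], 0)], [([], 0), ([], 0), ([], 0), ([10,11,12,15,17,13,16], 4)], [([], 0), ([], 0), ([], 0), ([], 0)], [([], 0), ([], 0), ([], 0), ([], 0)], [([], 0), ([], 0), ([], 0), ([], 0)], [([], 0), ([], 0), ([], 0), ([], 0)], [([], 0), ([], 0), ([], 0), ([], 0)]], [[([14], 1), ([], 0), ([], 0), ([11,13,11], 1)], [([], 0), ([], 0), ([], 0), ([], 0)], [([], 0), ([], 0), ([], 0), ([], 0)], [([15,17,16], 4), ([], 0), ([], 0), ([], 0)], [([10], 4), ([], 0), ([], 0), ([11,13,11], 4)], [([], 0), ([], 0), ([], 0), ([], 0)], [([], 0), ([], 0), ([], 0), ([], 0)], [([11,15,14,12,17], 4), ([], 0), ([], 0), ([], 0)], [([], 0), ([], 0), ([], 0), ([], 0)], [([15,14,17], 4), ([], 0), ([],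 0), ([], 0)], [([10,11,12], 4), ([], 0), ([], 0), ([11,14,12,13], 1)], [([], 0), ([], 0), ([], 0), ([], 0)], [([], 0), ([], 0), ([], 0), ([], 0)], [([11,15,17,16,12], 4), ([], 0), ([], 0), ([], 0)], [([11,14,12], 1), ([], 0), ([], 0), ([10,11,12,13], 4)], [([], 0), ([], 0), ([], 0), ([], 0)]], [[([14,15,13,15], 1), ([], 0), ([], 0), ([10,11,15,14,17,13,16,12], 4)], [([], 0), ([], 0), ([], 0), ([], 0)], [([], 0), ([], 0), ([], 0), ([], 0)], [([], 0), ([], 0), ([], 0), ([], 0)], [([], 0), ([10,17,13,17], 4), ([10,15,13,15], 4), ([], 0)], [([], 0), ([], 0), ([], 0), ([], 0)], [([], 0), ([], 0), ([], 0), ([], 0)], [([], 0), ([], 0), ([], 0), ([], 0)], [([], 0), ([], 0), ([], 0), ([], 0)], [([], 0), ([], 0), ([], 0), ([], 0)], [([], 0), ([], 0), ([], 0), ([], 0)], [([], 0), ([], 0), ([], 0), ([], 0)], [([], 0), ([], 0), ([], 0), ([], 0)], [([], 0), ([], 0), ([], 0), ([], 0)], [([], 0), ([], 0), ([], 0), ([],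 0)], [([], 0), ([], 0), ([], 0), ([], 0)]], [[([13,12,15,17], 0), ([], 0), ([], 0), ([], 0)], [([], 0), ([], 0), ([], 0), ([], 0)], [([], 0), ([], 0), ([], 0), ([], 0)], [([12,10,13,12,15], 3), ([], 0), ([], 0), ([], 0)], [([], 0), ([], 0), ([], 0), ([], 0)], [([11,10,15,17], 4), ([], 0), ([], 0), ([], 0)], [([12,10,13,11,12,17], 2), ([], 0), ([], 0), ([], 0)], [([], 0), ([], 0), ([], 0), ([], 0)], [([], 0), ([], 0), ([], 0), ([], 0)], [([12,10,13,12,17], 2), ([], 0), ([], 0), ([], 0)], [([10,11,10,15,17], 4), ([], 0), ([], 0), ([], 0)], [([], 0), ([], 0), ([], 0), ([], 0)], [([12,10,13,11,12,15], 3), ([], 0), ([], 0), ([], 0)], [([], 0), ([], 0), ([], 0), ([], 0)], [([], 0), ([], 0), ([], 0), ([], 0)], [([13,11,12,15,17], 0), ([], 0), ([], 0), ([], 0)]], [[([13,12,15,17,13], 0), ([], 0), ([], 0), ([], 0)], [([], 0), ([], 0), ([], 0), ([], 0)], [([], 0), ([], 0), ([], 0), ([], 0)], [([], 0), ([], 0), ([],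 0), ([], 0)], [([], 0), ([], 0), ([], 0), ([], 0)], [([], 0), ([], 0), ([], 0), ([], 0)], [([], 0), ([12,10,13,11,12,17,13], 2), ([], 0), ([], 0)], [([], 0), ([], 0), ([], 0), ([], 0)], [([], 0), ([], 0), ([], 0), ([], 0)], [([], 0), ([], 0), ([], 0), ([], 0)], [([], 0), ([], 0), ([], 0), ([], 0)], [([], 0), ([], 0), ([], 0), ([], 0)], [([], 0), ([], 0), ([12,10,13,11,12,15,13], 3), ([], 0)], [([], 0), ([], 0), ([], 0), ([], 0)], [([], 0), ([], 0), ([], 0), ([10,11,10,15,17,13], 4)], [([], 0), ([], 0), ([], 0), ([], 0)]], [[([13,15], 0), ([], 0), ([13,15], 2), ([], 0)], [([], 0), ([], 0), ([], 0), ([], 0)], [([], 0), ([], 0), ([], 0), ([], 0)], [([12,13,15], 3), ([], 0), ([], 0), ([], 0)], [([12,10,13,11], 2), ([], 0), ([13,11,10,15,13,15], 0), ([], 0)], [([], 0), ([], 0), ([], 0), ([], 0)], [([], 0), ([], 0), ([], 0), ([], 0)], [([11,10,12,15], 4), ([], 0), ([], 0), ([], 0)], [([12,10,13], 2), ([], 0),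 ([13,11,15,13,14], 0), ([], 0)], [([], 0), ([], 0), ([], 0), ([], 0)], [([], 0), ([], 0), ([], 0), ([], 0)], [([10,11,10,12,15], 4), ([], 0), ([], 0), ([], 0)], [([13,11,15], 0), ([], 0), ([12,10,14], 2), ([], 0)], [([], 0), ([], 0), ([], 0), ([], 0)], [([], 0), ([], 0), ([], 0), ([], 0)], [([12,13,11,15], 3), ([], 0), ([], 0), ([], 0)]], [[([14,17,13,12], 1), ([], 0), ([15,13,14,12], 4), ([], 0)], [([], 0), ([], 0), ([], 0), ([], 0)], [([], 0), ([], 0), ([], 0), ([], 0)], [([], 0), ([], 0), ([], 0), ([], 0)], [([], 0), ([10,17,13,12], 4), ([], 0), ([10,11,12,15,17,13,16,12], 4)], [([], 0), ([], 0), ([], 0), ([], 0)], [([], 0), ([], 0), ([], 0), ([], 0)], [([], 0), ([], 0), ([], 0), ([], 0)], [([], 0), ([], 0), ([], 0), ([], 0)], [([], 0), ([], 0), ([], 0), ([], 0)], [([], 0), ([], 0), ([], 0), ([], 0)], [([], 0), ([], 0), ([], 0), ([], 0)], [([], 0), ([], 0), ([], 0), ([], 0)], [([], 0), ([], 0), ([], 0),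 ([], 0)], [([], 0), ([], 0), ([], 0), ([], 0)], [([], 0), ([], 0), ([], 0), ([], 0)]], [[([14,12,17], 1), ([], 0), ([], 0), ([], 0)], [([], 0), ([], 0), ([], 0), ([], 0)], [([], 0), ([], 0), ([], 0), ([], 0)], [([10,12,15,17,16], 4), ([], 0), ([], 0), ([], 0)], [([], 0), ([], 0), ([], 0), ([], 0)], [([11,15,14], 4), ([], 0), ([], 0), ([], 0)], [([10,12,17], 4), ([], 0), ([], 0), ([], 0)], [([], 0), ([], 0), ([], 0), ([], 0)], [([15,14,12], 4), ([], 0), ([], 0), ([], 0)], [([], 0), ([], 0), ([], 0), ([], 0)], [([], 0), ([], 0), ([], 0), ([], 0)], [([10,11,17], 4), ([], 0), ([], 0), ([], 0)], [([], 0), ([], 0), ([], 0), ([], 0)], [([11,14,17], 1), ([], 0), ([], 0), ([], 0)], [([10,11,15,17,16], 4), ([], 0), ([], 0), ([], 0)], [([], 0), ([], 0), ([], 0), ([], 0)]], [[([13,15,13,17,13], 0), ([], 0), ([], 0), ([], 0)], [([], 0), ([], 0), ([], 0), ([], 0)], [([], 0), ([], 0), ([], 0), ([], 0)], [([], 0), ([],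 0), ([], 0), ([], 0)], [([], 0), ([], 0), ([], 0), ([], 0)], [([], 0), ([], 0), ([], 0), ([], 0)], [([], 0), ([12,10,13,11,10,17,13], 2), ([], 0), ([], 0)], [([], 0), ([], 0), ([], 0), ([], 0)], [([], 0), ([], 0), ([12,10,13,11,15,13,14], 3), ([], 0)], [([], 0), ([], 0), ([], 0), ([], 0)], [([], 0), ([], 0), ([], 0), ([10,11,10,12,15,14,17,13], 4)], [([], 0), ([], 0), ([], 0), ([], 0)], [([], 0), ([], 0), ([], 0), ([], 0)], [([], 0), ([], 0), ([], 0), ([], 0)], [([], 0), ([], 0), ([], 0), ([], 0)], [([], 0), ([], 0), ([], 0), ([], 0)]], [[([14,12], 1), ([], 0), ([], 0), ([10,11,12,13,11], 4)], [([], 0), ([], 0), ([], 0), ([], 0)], [([], 0), ([], 0), ([], 0), ([], 0)], [([15,17,16,12], 4), ([], 0), ([], 0), ([], 0)], [([10,12], 4), ([], 0), ([], 0), ([11,13,14,12,10], 1)], [([], 0), ([], 0), ([], 0), ([], 0)], [([], 0), ([], 0), ([], 0), ([], 0)], [([11,15,14,17], 4), ([], 0), ([], 0), ([], 0)], [([], 0),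 ([], 0), ([], 0), ([], 0)], [([15,14,12,17], 4), ([], 0), ([], 0), ([], 0)], [([10,11], 4), ([], 0), ([], 0), ([11,13], 4)], [([], 0), ([], 0), ([], 0), ([], 0)], [([], 0), ([], 0), ([], 0), ([], 0)], [([11,15,17,16], 4), ([], 0), ([], 0), ([], 0)], [([11,14], 1), ([], 0), ([], 0), ([11,13], 1)], [([], 0), ([], 0), ([], 0), ([], 0)]], [[([13,12,15,17,13,12], 0), ([], 0), ([], 0), ([10,11,10,15,17,13,12], 4)], [([], 0), ([], 0), ([], 0), ([], 0)], [([], 0), ([], 0), ([], 0), ([], 0)], [([], 0), ([], 0), ([], 0), ([], 0)], [([], 0), ([12,10,13,11,10,17,13,17], 2), ([12,10,13,11,10,15,13,15], 3), ([], 0)], [([], 0), ([], 0), ([], 0), ([], 0)], [([], 0), ([], 0), ([], 0), ([], 0)], [([], 0), ([], 0), ([], 0), ([], 0)], [([], 0), ([], 0), ([], 0), ([], 0)], [([], 0), ([], 0), ([], 0), ([], 0)], [([], 0), ([], 0), ([], 0), ([], 0)], [([], 0), ([], 0), ([], 0), ([], 0)], [([], 0), ([], 0), ([], 0), ([], 0)], [([],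 0), ([], 0), ([], 0), ([], 0)], [([], 0), ([], 0), ([], 0), ([], 0)], [([], 0), ([], 0), ([], 0), ([], 0)]], [[([13,15,17], 0), ([], 0), ([], 0), ([], 0)], [([], 0), ([], 0), ([], 0), ([], 0)], [([], 0), ([], 0), ([], 0), ([], 0)], [([12,10,13,15], 3), ([], 0), ([], 0), ([], 0)], [([], 0), ([], 0), ([], 0), ([], 0)], [([11,10,12,15,17], 4), ([], 0), ([], 0), ([], 0)], [([12,10,13,11,17], 2), ([], 0), ([], 0), ([], 0)], [([], 0), ([], 0), ([], 0), ([], 0)], [([], 0), ([], 0), ([], 0), ([], 0)], [([12,10,13,17], 2), ([], 0), ([], 0), ([], 0)], [([10,11,10,12,15,17], 4), ([], 0), ([], 0), ([], 0)], [([], 0), ([], 0), ([], 0), ([], 0)], [([12,10,13,11,15], 3), ([], 0), ([], 0), ([], 0)], [([], 0), ([], 0), ([], 0), ([], 0)], [([], 0), ([], 0), ([], 0), ([], 0)], [([13,11,15,17], 0), ([], 0), ([], 0), ([], 0)]], [[([14,12,13,15,13], 1), ([], 0), ([], 0), ([], 0)], [([], 0), ([], 0), ([], 0), ([], 0)], [([], 0),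 ([], 0), ([], 0), ([], 0)], [([], 0), ([], 0), ([], 0), ([], 0)], [([], 0), ([], 0), ([], 0), ([], 0)], [([], 0), ([], 0), ([], 0), ([], 0)], [([], 0), ([10,12,10,17,13], 4), ([], 0), ([], 0)], [([], 0), ([], 0), ([], 0), ([], 0)], [([], 0), ([], 0), ([], 0), ([], 0)], [([], 0), ([], 0), ([], 0), ([], 0)], [([], 0), ([], 0), ([], 0), ([], 0)], [([], 0), ([], 0), ([], 0), ([], 0)], [([], 0), ([], 0), ([10,12,10,15,13], 4), ([], 0)], [([], 0), ([], 0), ([], 0), ([], 0)], [([], 0), ([], 0), ([], 0), ([10,11,15,14,17,13,16], 4)], [([], 0), ([], 0), ([], 0), ([], 0)]]] : List (List (List (List ℕ × ℕ)))).getD k1 []).getD k2 []).getD k3 ([], 0)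

/-- The check for an element of the Sylow subgroup. -/
noncomputable def tbOk (k1 k2 k3 : ℕ) : Bool :=
  !(eq8 ((swb k1 ++ sub U2 k2 ++ sub U1 k3) ++ (swb k1 ++ sub U2 k2 ++ sub U1 k3)) []) ||
    (k1 + k2 + k3 == 0) || (decide ((TB k1 k2 k3).2 < 5) &&
    eq8 ((TB k1 k2 k3).1 ++ (swb k1 ++ sub U2 k2 ++ sub U1 k3) ++ (TB k1 k2 k3).1.reverse)
      (RO (TB k1 k2 k3).2))

theorem hTB0 : ∀ k1 < 16, 0 ≤ k1 → ∀ k2 < 16, ∀ k3 < 4, tbOk k1 k2 k3 = true := by
  decide +kernel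

theorem hTB1 : ∀ k1 < 32, 16 ≤ k1 → ∀ k2 < 16, ∀ k3 < 4, tbOk k1 k2 k3 = true := by
  decide +kernel

theorem hTB2 : ∀ k1 < 48, 32 ≤ k1 → ∀ k2 < 16, ∀ k3 < 4, tbOk k1 k2 k3 = true := by
  decide +kernel

theorem hTB3 : ∀ k1 < 64, 48 ≤ k1 → ∀ k2 < 16, ∀ k3 < 4, tbOk k1 k2 k3 = true := by
  decide +kernel


theorem hTB : ∀ k1 < 64, ∀ k2 < 16, ∀ k3 < 4, tbOk k1 k2 k3 = true := fun k1 h => by
  by_cases a : k1 < 16
  · exact hTB0 k1 a (by omega)
  by_cases b : k1 < 32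
  · exact hTB1 k1 b (by omega)
  by_cases c : k1 < 48
  · exact hTB2 k1 c (by omega)
  · exact hTB3 k1 h (by omega)

theorem eq8_of {w : List ℕ} (hw : inR 27 w = true) (h : evL M8 w = 1) : eq8 w [] = true := by
  simp only [eq8, Bool.and_eq_true, List.all_eq_true, List.mem_range, beq_iff_eq]
  refine ⟨⟨hw, rfl⟩, fun i hi => ?_⟩
  have : 2 ^ i < 256 := by interval_cases i <;> norm_num
  rw [← vl_inv hw this, h, inv_one, vl_one this]
  rfl

theorem inR_append {m : ℕ} {u v : List ℕ} :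
    inR m (u ++ v) = true ↔ inR m u = true ∧ inR m v = true := by
  rw [inR, List.all_append, Bool.and_eq_true]
  rfl

variable {G : Type*} [Group G] [Finite G] {z : G} {Q : Subgroup G} {a : ℕ → G} (E : ES z Q)
  (F : Fr z Q false a)
include E F

theorem base_fix {σ : Equiv.Perm (Fin 256)} (h : σ ∈ gen M8 RT)
    (e : ∀ b ∈ [64, 4, 32, 2, 16, 1], vl σ b = b) : σ = 1 := by
  have := (lb8'.1.exact (by rw [← range_eq E F, card_range E F])).2
  refine mem_bot.mp (this ▸ mem_inf.mpr ⟨h, fun b hb => ?_⟩)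
  have h1 := lb8'.2 b hb
  refine (ph_val σ ⟨b, h1⟩).trans ?_
  rw [← fv_val ⟨b, h1⟩]
  exact e b hb

theorem borel {σ : Equiv.Perm (Fin 256)} (h : σ ∈ gen M8 RT) (h1 : vl σ 1 = 1)
    (h2 : vl σ 2 < 4 ∧ 2 ≤ vl σ 2) (h3 : vl σ 4 < 8 ∧ 4 ≤ vl σ 4) :
    ∃ k1 < 64, ∃ k2 < 16, ∃ k3 < 4, inR 27 (swb k1 ++ sub U2 k2 ++ sub U1 k3) = true ∧
      σ = evL M8 (swb k1 ++ sub U2 k2 ++ sub U1 k3) := by
  have q : ∀ {σ : Equiv.Perm (Fin 256)}, σ ∈ gen M8 RT → ∀ p q r, p < 256 → q < 256 → vl σ q = r →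
      qf false (vl σ p ^^^ r) = qf false (p ^^^ q) := fun h p q r hp hq e =>
    e ▸ vl_qf2 (Om_le h) hp hq
  have m : ∀ {σ : Equiv.Perm (Fin 256)} {w : List ℕ}, inR 27 w = true → ∀ p,
      vl ((evL M8 w)⁻¹ * σ) p = trF img8 w (vl σ p) := fun hw p => by
    rw [vl_mul, vl_inv hw (vl_lt _ _)]
  obtain ⟨k1, a0, a1, a2, a3⟩ := stepA _ (vl_lt σ 16) ⟨vl_qf (Om_le h) (by norm_num),
    q h 16 1 1 (by norm_num) (by norm_num) h1⟩ _ h2.1 ⟨h2.2,
    q h 16 2 _ (by norm_num) (by norm_num) rfl⟩ _ h3.1 ⟨h3.2,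
    q h 16 4 _ (by norm_num) (by norm_num) rfl⟩
  obtain ⟨w1, a4, -⟩ := hswb k1 a0
  rw [← h1] at a4
  rw [← m w1] at a1 a2 a3 a4
  rw [h1] at a4
  have h' := mul_mem (inv_mem (evM_Om w1)) h
  generalize hτ : (evL M8 (swb k1))⁻¹ * σ = τ at *
  obtain ⟨k2, b0, w2, b1, b2, b3, b4, b5⟩ := stepB _ (vl_lt τ 32) (vl_qf (Om_le h') (by norm_num))
    (q h' 32 1 1 (by norm_num) (by norm_num) a4) (q h' 32 16 16 (by norm_num) (by norm_num) a1)
    (q h' 32 2 2 (by norm_num) (by norm_num) a2) _ a3 (q h' 32 4 _ (by norm_num) (by norm_num) rfl)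
  rw [← a4] at b3
  rw [← a1] at b4
  rw [← a2] at b5
  rw [← m w2] at b1 b2 b3 b4 b5
  rw [a4] at b3
  rw [a1] at b4
  rw [a2] at b5
  have h'' := mul_mem (inv_mem (evM_Om w2)) h'
  generalize hυ : (evL M8 (sub U2 k2))⁻¹ * τ = υ at *
  obtain ⟨k3, c0, w3, c1, c2, c3, c4, c5, c6⟩ := stepC _ (vl_lt υ 64)
    (vl_qf (Om_le h'') (by norm_num))
    (q h'' 64 1 1 (by norm_num) (by norm_num) b3) (q h'' 64 16 16 (by norm_num) (by norm_num) b4)
    (q h'' 64 2 2 (by norm_num) (by norm_num) b5) (q h'' 64 32 32 (by norm_num) (by norm_num) b1)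
    (q h'' 64 4 4 (by norm_num) (by norm_num) b2)
  have e := base_fix E F (mul_mem (inv_mem (evM_Om w3)) h'') fun b hb => by
    rw [m w3]
    simp only [List.mem_cons, List.not_mem_nil, or_false] at hb
    rcases hb with rfl | rfl | rfl | rfl | rfl | rfl
    · exact c1
    · rw [b2, c2]
    · rw [b1, c6]
    · rw [b5, c5]
    · rw [b4, c4]
    · rw [b3, c3]
  refine ⟨k1, a0, k2, b0, k3, c0, inR_append.mpr ⟨inR_append.mpr ⟨w1, w2⟩, w3⟩, ?_⟩
  rw [evL_append, evL_append, inv_mul_eq_one.mp e, ← hυ, ← hτ]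
  group

omit E F in
theorem to_borel {σ : Equiv.Perm (Fin 256)} (h : σ ∈ gen M8 RT) (hs : σ * σ = 1) :
    ∃ τ ∈ gen M8 RT, vl (τ * σ * τ⁻¹) 1 = 1 ∧ (vl (τ * σ * τ⁻¹) 2 < 4 ∧ 2 ≤ vl (τ * σ * τ⁻¹) 2) ∧
      vl (τ * σ * τ⁻¹) 4 < 8 ∧ 4 ≤ vl (τ * σ * τ⁻¹) 4 := by
  have cj : ∀ (σ τ : Equiv.Perm (Fin 256)) p, p < 256 → vl (τ * σ * τ⁻¹) (vl τ p) = vl τ (vl σ p) :=
    fun σ τ p hp => by rw [← vl_mul, inv_mul_cancel_right, vl_mul]
  have ss : ∀ {σ : Equiv.Perm (Fin 256)}, σ * σ = 1 → ∀ p, p < 256 → vl σ (vl σ p) = p :=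
    fun hs p hp => by rw [← vl_mul, hs, vl_one hp]
  have sq : ∀ {σ : Equiv.Perm (Fin 256)} τ, σ * σ = 1 → τ * σ * τ⁻¹ * (τ * σ * τ⁻¹) = 1 :=
    fun τ hs => by rw [conj_mul, hs, mul_one, mul_inv_cancel]
  have s1 : ∀ {σ : Equiv.Perm (Fin 256)}, σ ∈ gen M8 RT → σ * σ = 1 →
      ∃ τ ∈ gen M8 RT, vl (τ * σ * τ⁻¹) 1 = 1 := fun {σ} h hs => by
    obtain ⟨v, hv, e⟩ := odd_fix ((Finset.range 256).filter fun v => v ≠ 0 ∧ qf false v = false)
      (by decide +kernel) (vl σ) (fun v hv => by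
        simp only [Finset.mem_filter, Finset.mem_range] at hv ⊢
        exact ⟨vl_lt _ _, fun e => hv.2.1 (vl_inj σ hv.1 (by norm_num)
          (e.trans (vl_zero (Om_le h)).symm)), (vl_qf (Om_le h) hv.1).trans hv.2.2⟩)
      fun v hv => ss hs v (Finset.mem_range.mp (Finset.mem_filter.mp hv).1)
    simp only [Finset.mem_filter, Finset.mem_range] at hv
    obtain ⟨τ, h1, h2⟩ := trans8 (v := ⟨v, hv.1⟩) (fun e => hv.2.1 (congrArg Fin.val e)) hv.2.2
    have h3 : vl τ v = 1 := by rw [vl, show fv v = ⟨v, hv.1⟩ from fv_val ⟨v, hv.1⟩, h2]; rfl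
    exact ⟨τ, h1, by rw [← h3, cj σ τ v hv.1, e]⟩
  have s2 : ∀ {σ : Equiv.Perm (Fin 256)}, σ ∈ gen M8 RT → σ * σ = 1 → vl σ 1 = 1 →
      ∃ τ ∈ gen M8 RT, vl (τ * σ * τ⁻¹) 1 = 1 ∧ vl (τ * σ * τ⁻¹) 2 < 4 ∧ 2 ≤ vl (τ * σ * τ⁻¹) 2 := by
    intro σ h hs h1
    have o := Om_le h
    have t1 : ∀ v < 256, v ≠ 0 ∧ qf false v = false ∧ v &&& 17 = 0 → ∀ p < 256, p ≠ 0 ∧ p ≠ 1 ∧
        qf false p = false ∧ qf false (p ^^^ 1) = qf false (v ^^^ 1) → v ≠ 1 ∧
        (p &&& 254 < 256 ∧ p &&& 254 ≠ 0 ∧ qf false (p &&& 254) = false ∧ p &&& 254 &&& 17 = 0) ∧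
        (p &&& 254 = p ∨ p &&& 254 = p ^^^ 1) ∧ v &&& 254 = v ∧ (v ^^^ 1) &&& 254 = v := by
      decide +kernel
    have t2 : ∀ v < 256, v ≠ 0 → qf false v = false → v &&& 17 = 0 → _ := fun v a b c d =>
      t1 v a ⟨b, c, d⟩ _ (vl_lt σ v)
        ⟨fun e => b (vl_inj σ a (by norm_num) (e.trans (vl_zero o).symm)), fun e => by
          have := vl_inj σ a (by norm_num) (e.trans h1.symm)
          rw [this] at d
          exact absurd d (by decide), (vl_qf o a).trans c,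
        by rw [← vl_qf2 o a (by norm_num : 1 < 256), h1]⟩
    obtain ⟨v, hv, e⟩ := odd_fix ((Finset.range 256).filter fun v => v ≠ 0 ∧ qf false v = false ∧
      v &&& 17 = 0) (by decide +kernel) (fun v => vl σ v &&& 254) (fun v hv => by
        simp only [Finset.mem_filter, Finset.mem_range] at hv ⊢
        exact (t2 v hv.1 hv.2.1 hv.2.2.1 hv.2.2.2).2.1) fun v hv => by
        simp only [Finset.mem_filter, Finset.mem_range] at hv
        obtain ⟨-, -, k1, k2, k3⟩ := t2 v hv.1 hv.2.1 hv.2.2.1 hv.2.2.2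
        rcases k1 with k | k <;> rw [k]
        · rw [ss hs v hv.1, k2]
        · rw [vl_xor o (vl_lt _ _) (by norm_num), ss hs v hv.1, h1, k3]
    simp only [Finset.mem_filter, Finset.mem_range] at hv
    obtain ⟨w1, w2, w3⟩ := hTV2 v hv.1 hv.2.1 hv.2.2.1 hv.2.2.2
    rw [← vl_inv w1 (by norm_num)] at w2
    rw [← vl_inv w1 hv.1] at w3
    have m := inv_mem (evM_Om w1)
    generalize (evL M8 (nthW TV2 v))⁻¹ = τ at *
    refine ⟨τ, m, by rw [← w2, cj σ τ 1 (by norm_num), h1], ?_⟩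
    rw [← w3, cj σ τ v hv.1]
    rcases (t2 v hv.1 hv.2.1 hv.2.2.1 hv.2.2.2).2.2.1 with k | k <;> rw [k] at e
    · rw [e, w3]; omega
    · have : vl σ v = v ^^^ 1 := xor_swap e
      rw [this, vl_xor (Om_le m) hv.1 (by norm_num), w2, w3]
      decide
  have s3 : ∀ {σ : Equiv.Perm (Fin 256)}, σ ∈ gen M8 RT → σ * σ = 1 → vl σ 1 = 1 →
      vl σ 2 < 4 ∧ 2 ≤ vl σ 2 → ∃ τ ∈ gen M8 RT, vl (τ * σ * τ⁻¹) 1 = 1 ∧
      (vl (τ * σ * τ⁻¹) 2 < 4 ∧ 2 ≤ vl (τ * σ * τ⁻¹) 2) ∧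
      vl (τ * σ * τ⁻¹) 4 < 8 ∧ 4 ≤ vl (τ * σ * τ⁻¹) 4 := by
    intro σ h hs h1 h2
    have o := Om_le h
    have lo : ∀ {σ : Equiv.Perm (Fin 256)}, σ ∈ OG false → vl σ 1 = 1 → vl σ 2 < 4 →
        ∀ t < 4, vl σ t < 4 := fun {σ} o h1 h2 t ht => by
      interval_cases t
      · rw [vl_zero o]; norm_num
      · omega
      · exact h2
      · rw [show 3 = 2 ^^^ 1 from rfl, vl_xor o (by norm_num) (by norm_num), h1]
        exact Nat.xor_lt_two_pow (n := 2) h2 (by norm_num)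
    have t1 : ∀ v < 256, v ≠ 0 ∧ qf false v = false ∧ v &&& 51 = 0 → ∀ p < 256, 4 ≤ p ∧
        qf false p = false ∧ qf false (p ^^^ 1) = qf false (v ^^^ 1) → ∀ r < 4, 2 ≤ r ∧
        qf false (p ^^^ r) = qf false (v ^^^ 2) →
        (p &&& 252 < 256 ∧ p &&& 252 ≠ 0 ∧ qf false (p &&& 252) = false ∧ p &&& 252 &&& 51 = 0) ∧
        (∃ t < 4, p &&& 252 = p ^^^ t) ∧ ∀ t < 4, (v ^^^ t) &&& 252 = v := by
      decide +kernel
    have t2 : ∀ v < 256, v ≠ 0 → qf false v = false → v &&& 51 = 0 → _ := fun v a b c d =>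
      t1 v a ⟨b, c, d⟩ _ (vl_lt σ v) ⟨by
          by_contra e
          have := lo o h1 h2.1 _ (not_le.mp e)
          rw [ss hs v a] at this
          interval_cases v
          · exact b rfl
          all_goals exact absurd d (by decide), (vl_qf o a).trans c,
        by rw [← vl_qf2 o a (by norm_num : 1 < 256), h1]⟩ _ h2.1 ⟨h2.2,
        vl_qf2 o a (by norm_num)⟩
    obtain ⟨v, hv, e⟩ := odd_fix ((Finset.range 256).filter fun v => v ≠ 0 ∧ qf false v = false ∧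
      v &&& 51 = 0) (by decide +kernel) (fun v => vl σ v &&& 252) (fun v hv => by
        simp only [Finset.mem_filter, Finset.mem_range] at hv ⊢
        exact (t2 v hv.1 hv.2.1 hv.2.2.1 hv.2.2.2).1) fun v hv => by
        simp only [Finset.mem_filter, Finset.mem_range] at hv
        obtain ⟨-, ⟨t, ht, k1⟩, k2⟩ := t2 v hv.1 hv.2.1 hv.2.2.1 hv.2.2.2
        rw [k1, vl_xor o (vl_lt _ _) (by omega), ss hs v hv.1, k2 _ (lo o h1 h2.1 t ht)]
    simp only [Finset.mem_filter, Finset.mem_range] at hv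
    obtain ⟨w1, w2, w3, w4⟩ := hTV3 v hv.1 hv.2.1 hv.2.2.1 hv.2.2.2
    rw [← vl_inv w1 (by norm_num)] at w2 w3
    rw [← vl_inv w1 hv.1] at w4
    have m := inv_mem (evM_Om w1)
    generalize (evL M8 (nthW TV3 v))⁻¹ = τ at *
    have l := lo (Om_le m) w2 (by omega)
    refine ⟨τ, m, by rw [← w2, cj σ τ 1 (by norm_num), h1], ?_, ?_⟩
    · rw [← w3, cj σ τ 2 (by norm_num), w3]
      refine ⟨l _ h2.1, ?_⟩
      by_contra k
      have k' : vl τ (vl σ 2) = 0 ∨ vl τ (vl σ 2) = 1 := by omega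
      rw [← vl_zero (Om_le m), ← w2] at k'
      rcases k' with k' | k' <;> have := vl_inj τ (vl_lt _ _) (by norm_num) k' <;> omega
    · obtain ⟨t, ht, k⟩ := (t2 v hv.1 hv.2.1 hv.2.2.1 hv.2.2.2).2.1
      rw [k] at e
      have : vl σ v = v ^^^ t := xor_swap e
      rw [← w4, cj σ τ v hv.1, this, vl_xor (Om_le m) hv.1 (by omega), w4]
      have := l t ht
      generalize vl τ t = s at this
      interval_cases s <;> decide
  obtain ⟨τ1, m1, a1⟩ := s1 h hs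
  have n1 := mul_mem (mul_mem m1 h) (inv_mem m1)
  obtain ⟨τ2, m2, a2, a3⟩ := s2 n1 (sq τ1 hs) a1
  obtain ⟨τ3, m3, a4⟩ := s3 (mul_mem (mul_mem m2 n1) (inv_mem m2)) (sq τ2 (sq τ1 hs)) a2 a3
  refine ⟨τ3 * τ2 * τ1, mul_mem (mul_mem m3 m2) m1, ?_⟩
  rwa [show τ3 * τ2 * τ1 * σ * (τ3 * τ2 * τ1)⁻¹ = τ3 * (τ2 * (τ1 * σ * τ1⁻¹) * τ2⁻¹) * τ3⁻¹ by group]

theorem inv_class {σ : Equiv.Perm (Fin 256)} (h : σ ∈ gen M8 RT) (hs : σ * σ = 1) (h1 : σ ≠ 1) :
    ∃ τ ∈ gen M8 RT, ∃ r < 5, τ * σ * τ⁻¹ = evL M8 (RO r) := by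
  obtain ⟨τ, m, a1, a2, a3⟩ := to_borel h hs
  obtain ⟨k1, b1, k2, b2, k3, b3, w, e⟩ := borel E F (mul_mem (mul_mem m h) (inv_mem m)) a1 a2 a3
  have t := hTB k1 b1 k2 b2 k3 b3
  rw [tbOk, eq8_of (inR_append.mpr ⟨w, w⟩) (by
    rw [evL_append, ← e, conj_mul, hs, mul_one, mul_inv_cancel])] at t
  simp only [Bool.not_true, Bool.false_or, Bool.or_eq_true, beq_iff_eq, Bool.and_eq_true,
    decide_eq_true_eq] at t
  rcases t with t | ⟨t1, t2⟩
  · obtain rfl : k1 = 0 := by omega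
    obtain rfl : k2 = 0 := by omega
    obtain rfl : k3 = 0 := by omega
    exact absurd (conj_eq_one_iff.mp e) h1
  · have w' : inR 27 (TB k1 k2 k3).1 = true := by
      simp only [eq8, Bool.and_eq_true] at t2
      exact (inR_append.mp (inR_append.mp t2.1.1).1).1
    refine ⟨evL M8 (TB k1 k2 k3).1 * τ, mul_mem (evM_Om w') m, _, t1, ?_⟩
    rw [← eq8_spec t2, evL_append, evL_append, ← e, M8_rev w']
    group

end Cfsg.Co.Rc
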