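import Cfsg.Agent.Co.W1
import Cfsg.Agent.Co.B2

/-! Two involutions that are exchanged; the weakly closed case. -/

set_option autoImplicit false
set_option maxRecDepth 100000
set_option synthInstance.maxSize 8192
set_option synthInstance.maxHeartbeats 400000
set_option linter.unusedSectionVars false

namespace Cfsg.Co.Rc

open Subgroup Cfsg.H6 Cfsg.Co.Md

theorem inR_rev {m : ℕ} {w : List ℕ} (h : inR m w = true) : inR m w.reverse = true := by
  rwa [inR, List.all_reverse]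

theorem vl_ev {w : List ℕ} (hw : inR 27 w = true) {p : ℕ} (h : p < 256) :
    vl (evL M8 w) p = trF img8 w.reverse p := by
  rw [← vl_inv (inR_rev hw) h, M8_rev hw, inv_inv]

/-- Equality up to the first letter. -/
noncomputable def eqz (u v : List ℕ) : Bool := eqw u v || eqw u (1 :: v)

/-- Lifts of the representatives. -/
def Y0 (r : ℕ) : List ℕ := ([[20], [19,22,5], [20,16], [20,14], [19,22,23,5]] : List (List ℕ)).getD r []

/-- The eight classes. -/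
def YR (k : ℕ) : List ℕ := ([[20], [4,20], [4,8,20], [19,22,5], [3,7,19,22,5], [20,16], [20,14], [19,22,23,5]] : List (List ℕ)).getD k []

/-- Conjugating words. -/
def YT (r v : ℕ) : List ℕ × ℕ := (([[([], 0), ([7], 0), ([6], 0), ([6,7], 0), ([], 1), ([7], 1), ([6], 1), ([10,12], 1), ([15,14], 1), ([10,15,14], 1), ([11,15,14], 1), ([10,12,15,14], 1), ([15], 1), ([10,15], 1), ([11,15], 1), ([10,12,15], 1), ([], 0), ([], 0), ([], 0), ([], 0), ([], 0), ([], 0), ([], 0), ([], 0), ([], 0), ([], 0), ([], 0), ([], 0), ([], 0), ([], 0), ([], 0), ([], 0), ([], 0), ([], 0), ([], 0), ([], 0), ([], 0), ([], 0), ([], 0), ([], 0), ([], 0), ([], 0), ([], 0), ([], 0), ([], 0), ([], 0), ([], 0), ([], 0), ([], 0), ([], 0), ([], 0), ([], 0), ([], 0), ([], 0), ([], 0), ([], 0), ([], 0), ([], 0), ([], 0), ([], 0), ([], 0), ([], 0), ([], 0), ([], 0), ([15,14,17,16], 1), ([10,15,14,17,16], 1), ([11,15,14,17,16], 1), ([7,12,15,14,17,16],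 1), ([], 2), ([7], 2), ([6], 2), ([10,12], 2), ([15,14,17], 1), ([10,15,14,17], 1), ([11,15,14,17], 1), ([10,12,15,14,17], 1), ([15], 2), ([10,15], 2), ([11,15], 2), ([10,12,15], 2), ([], 0), ([], 0), ([], 0), ([], 0), ([], 0), ([], 0), ([], 0), ([], 0), ([], 0), ([], 0), ([], 0), ([], 0), ([], 0), ([], 0), ([], 0), ([], 0), ([], 0), ([], 0), ([], 0), ([], 0), ([], 0), ([], 0), ([], 0), ([], 0), ([], 0), ([], 0), ([], 0), ([], 0), ([], 0), ([], 0), ([], 0), ([], 0), ([], 0), ([], 0), ([], 0), ([], 0), ([], 0), ([], 0), ([], 0), ([], 0), ([], 0), ([], 0), ([], 0), ([], 0), ([], 0), ([], 0), ([], 0), ([], 0), ([17,16], 1), ([10,17,16], 1), ([11,17,16], 1), ([10,12,17,16], 1), ([17], 1), ([10,17], 1), ([11,17], 1), ([10,12,17], 1), ([14,15,14], 2), ([10,14,15,14], 2), ([11,14,15,14], 2), ([10,12,14,15,14], 2), ([14,15], 2), ([10,14,15], 2), ([11,14,15], 2), ([10,12,14,15], 2), ([], 0), ([], 0), ([], 0),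 ([], 0), ([], 0), ([], 0), ([], 0), ([], 0), ([], 0), ([], 0), ([], 0), ([], 0), ([], 0), ([], 0), ([], 0), ([], 0), ([], 0), ([], 0), ([], 0), ([], 0), ([], 0), ([], 0), ([], 0), ([], 0), ([], 0), ([], 0), ([], 0), ([], 0), ([], 0), ([], 0), ([], 0), ([], 0), ([], 0), ([], 0), ([], 0), ([], 0), ([], 0), ([], 0), ([], 0), ([], 0), ([], 0), ([], 0), ([], 0), ([], 0), ([], 0), ([], 0), ([], 0), ([], 0), ([15,17,16], 1), ([10,15,17,16], 1), ([11,15,17,16], 1), ([10,12,15,17,16], 1), ([14], 2), ([10,14], 2), ([11,14], 2), ([10,12,14], 2), ([14,16], 2), ([10,14,16], 2), ([11,14,16], 2), ([10,12,14,16], 2), ([15,17], 1), ([10,15,17], 1), ([11,15,17], 1), ([10,12,15,17], 1), ([], 0), ([], 0), ([], 0), ([], 0), ([], 0), ([], 0), ([], 0), ([], 0), ([], 0), ([], 0), ([], 0), ([], 0), ([], 0), ([], 0), ([], 0), ([], 0), ([], 0), ([], 0), ([], 0), ([], 0), ([], 0), ([], 0), ([], 0), ([], 0), ([], 0), ([], 0), ([],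 0), ([], 0), ([], 0), ([], 0), ([], 0), ([], 0), ([], 0), ([], 0), ([], 0), ([], 0), ([], 0), ([], 0), ([], 0), ([], 0), ([], 0), ([], 0), ([], 0), ([], 0), ([], 0), ([], 0), ([], 0), ([], 0)], [([], 3), ([5], 3), ([14,16,12,13], 3), ([14,16,12,10,13], 3), ([14,16], 3), ([14,16,12,10,12], 3), ([14,16,12], 3), ([14,16,12,10], 3), ([], 0), ([], 0), ([], 0), ([], 0), ([], 0), ([], 0), ([], 0), ([], 0), ([], 0), ([], 0), ([], 0), ([], 0), ([], 0), ([], 0), ([], 0), ([], 0), ([], 0), ([], 0), ([], 0), ([], 0), ([], 0), ([], 0), ([], 0), ([], 0), ([15,17,13,15,17], 3), ([15,17,13,12], 3), ([], 4), ([5], 4), ([15,17,13,15,14,17,16], 3), ([15,17,13,12,14,16], 3), ([13], 4), ([10,13], 4), ([], 0), ([], 0), ([], 0), ([], 0), ([], 0), ([], 0), ([], 0), ([], 0), ([], 0), ([], 0), ([], 0), ([], 0), ([], 0), ([], 0), ([], 0), ([], 0), ([], 0), ([], 0), ([], 0), ([], 0), ([], 0), ([], 0), ([], 0), ([], 0), ([5,15,17],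 3), ([15,17], 3), ([14,16,12,10,13,15,17], 3), ([14,16,12,13,15,17], 3), ([12,13,12], 4), ([10,12,13,12], 4), ([12,13], 4), ([10,12,13], 4), ([], 0), ([], 0), ([], 0), ([], 0), ([], 0), ([], 0), ([], 0), ([], 0), ([], 0), ([], 0), ([], 0), ([], 0), ([], 0), ([], 0), ([], 0), ([], 0), ([], 0), ([], 0), ([], 0), ([], 0), ([], 0), ([], 0), ([], 0), ([], 0), ([5,15,17,13], 3), ([15,17,13], 3), ([12], 4), ([10,12], 4), ([12,23], 4), ([10,13,12], 4), ([14,16,12,10,13,15,17,13], 3), ([14,16,12,13,15,17,13], 3), ([], 0), ([], 0), ([], 0), ([], 0), ([], 0), ([], 0), ([], 0), ([], 0), ([], 0), ([], 0), ([], 0), ([], 0), ([], 0), ([], 0), ([], 0), ([], 0), ([], 0), ([], 0), ([], 0), ([], 0), ([], 0), ([], 0), ([], 0), ([], 0), ([], 0), ([], 0), ([], 0), ([], 0), ([], 0), ([], 0), ([], 0), ([], 0), ([5,6], 3), ([6], 3), ([6,14,16,12,10,13], 3), ([6,14,16,12,13], 3), ([14,15,16,17], 3), ([5,14,15,16,17], 3), ([14,15,16,12,17],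 3), ([5,14,15,16,12,17], 3), ([], 0), ([], 0), ([], 0), ([], 0), ([], 0), ([], 0), ([], 0), ([], 0), ([], 0), ([], 0), ([], 0), ([], 0), ([], 0), ([], 0), ([], 0), ([], 0), ([], 0), ([], 0), ([], 0), ([], 0), ([], 0), ([], 0), ([], 0), ([], 0), ([6,15,17,13,12], 3), ([6,15,17,13,15,17], 3), ([12,14,16,12], 4), ([6], 4), ([15,14,17,16,13,15,14,17,16], 3), ([15,17,13,12,14,15,16,17], 3), ([10,13,15,17], 4), ([13,15,17], 4), ([], 0), ([], 0), ([], 0), ([], 0), ([], 0), ([], 0), ([], 0), ([], 0), ([], 0), ([], 0), ([], 0), ([], 0), ([], 0), ([], 0), ([], 0), ([], 0), ([], 0), ([], 0), ([], 0), ([], 0), ([], 0), ([], 0), ([], 0), ([], 0), ([5,15,14,17,16], 3), ([15,14,17,16], 3), ([14,16,12,15,17,13,15,17], 3), ([14,16,12,13,15,14,17,16], 3), ([12,13,12,14,16], 4), ([12,13,12,15,17], 4), ([12,13,14,16], 4), ([12,13,15,17], 4), ([], 0), ([], 0), ([], 0), ([], 0), ([], 0), ([], 0), ([], 0), ([], 0), ([], 0),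 ([], 0), ([], 0), ([], 0), ([], 0), ([], 0), ([], 0), ([], 0), ([], 0), ([], 0), ([], 0), ([], 0), ([], 0), ([], 0), ([], 0), ([], 0), ([5,15,14,17,13,16], 3), ([15,14,17,13,16], 3), ([12,14,16], 4), ([10,12,14,16], 4), ([13,12,14,16], 4), ([13,12,15,17], 4), ([14,16,12,13,15,17,13,15,17], 3), ([14,15,16,17,12,13,15,17,13], 3), ([], 0), ([], 0), ([], 0), ([], 0), ([], 0), ([], 0), ([], 0), ([], 0), ([], 0), ([], 0), ([], 0), ([], 0), ([], 0), ([], 0), ([], 0), ([], 0)], [([], 5), ([7], 5), ([6], 5), ([6,7], 5), ([9], 5), ([10,14], 5), ([11,14], 5), ([10,14,6], 5), ([8], 5), ([10,15], 5), ([11,15], 5), ([10,15,6], 5), ([8,9], 5), ([10,14,8], 5), ([11,14,8], 5), ([11,15,13,19], 5), ([], 0), ([], 0), ([], 0), ([], 0), ([], 0), ([], 0), ([], 0), ([], 0), ([], 0), ([], 0), ([], 0), ([], 0), ([], 0), ([], 0), ([], 0), ([], 0), ([], 0), ([], 0), ([], 0), ([], 0), ([], 0), ([], 0), ([], 0), ([], 0), ([], 0),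 ([], 0), ([], 0), ([], 0), ([], 0), ([], 0), ([], 0), ([], 0), ([], 0), ([], 0), ([], 0), ([], 0), ([], 0), ([], 0), ([], 0), ([], 0), ([], 0), ([], 0), ([], 0), ([], 0), ([], 0), ([], 0), ([], 0), ([], 0), ([], 0), ([], 0), ([], 0), ([], 0), ([], 0), ([], 0), ([], 0), ([], 0), ([], 0), ([], 0), ([], 0), ([], 0), ([], 0), ([], 0), ([], 0), ([], 0), ([], 0), ([], 0), ([], 0), ([], 0), ([], 0), ([], 0), ([], 0), ([], 0), ([], 0), ([], 0), ([], 0), ([], 0), ([], 0), ([], 0), ([], 0), ([], 0), ([], 0), ([], 0), ([], 0), ([], 0), ([], 0), ([], 0), ([], 0), ([], 0), ([], 0), ([], 0), ([], 0), ([], 0), ([], 0), ([], 0), ([], 0), ([], 0), ([], 0), ([], 0), ([], 0), ([], 0), ([], 0), ([], 0), ([], 0), ([], 0), ([], 0), ([], 0), ([], 0), ([], 0), ([], 0), ([], 0), ([], 0), ([], 0), ([], 0), ([], 0), ([], 0), ([], 0), ([], 0), ([], 0), ([], 0), ([], 0), ([], 0), ([], 0), ([], 0), ([], 0), ([], 0), ([], 0), ([],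 0), ([], 0), ([], 0), ([], 0), ([], 0), ([], 0), ([], 0), ([], 0), ([], 0), ([], 0), ([], 0), ([], 0), ([], 0), ([], 0), ([], 0), ([], 0), ([], 0), ([], 0), ([], 0), ([], 0), ([], 0), ([], 0), ([], 0), ([], 0), ([], 0), ([], 0), ([], 0), ([], 0), ([], 0), ([], 0), ([], 0), ([], 0), ([], 0), ([], 0), ([], 0), ([], 0), ([], 0), ([], 0), ([], 0), ([], 0), ([], 0), ([], 0), ([], 0), ([], 0), ([], 0), ([], 0), ([], 0), ([], 0), ([], 0), ([], 0), ([], 0), ([], 0), ([], 0), ([], 0), ([], 0), ([], 0), ([], 0), ([], 0), ([], 0), ([], 0), ([], 0), ([], 0), ([], 0), ([], 0), ([], 0), ([], 0), ([], 0), ([], 0), ([], 0), ([], 0), ([], 0), ([], 0), ([], 0), ([], 0), ([], 0), ([], 0), ([], 0), ([], 0), ([], 0), ([], 0), ([], 0), ([], 0), ([], 0), ([], 0), ([], 0), ([], 0), ([], 0), ([], 0), ([], 0), ([], 0), ([], 0), ([], 0), ([], 0), ([], 0), ([], 0), ([], 0), ([], 0), ([], 0), ([], 0), ([], 0), ([], 0), ([], 0),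 ([], 0), ([], 0), ([], 0), ([], 0), ([], 0), ([], 0), ([], 0), ([], 0), ([], 0), ([], 0), ([], 0), ([], 0)], [([], 6), ([7], 6), ([6], 6), ([6,7], 6), ([5], 6), ([10,16], 6), ([11,16], 6), ([10,16,6], 6), ([], 0), ([], 0), ([], 0), ([], 0), ([], 0), ([], 0), ([], 0), ([], 0), ([], 0), ([], 0), ([], 0), ([], 0), ([], 0), ([], 0), ([], 0), ([], 0), ([], 0), ([], 0), ([], 0), ([], 0), ([], 0), ([], 0), ([], 0), ([], 0), ([], 0), ([], 0), ([], 0), ([], 0), ([], 0), ([], 0), ([], 0), ([], 0), ([], 0), ([], 0), ([], 0), ([], 0), ([], 0), ([], 0), ([], 0), ([], 0), ([], 0), ([], 0), ([], 0), ([], 0), ([], 0), ([], 0), ([], 0), ([], 0), ([], 0), ([], 0), ([], 0), ([], 0), ([], 0), ([], 0), ([], 0), ([], 0), ([], 0), ([], 0), ([], 0), ([], 0), ([], 0), ([], 0), ([], 0), ([], 0), ([], 0), ([], 0), ([], 0), ([], 0), ([], 0), ([], 0), ([], 0), ([], 0), ([], 0), ([], 0), ([], 0), ([], 0), ([], 0), ([], 0), ([], 0),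 ([], 0), ([], 0), ([], 0), ([], 0), ([], 0), ([], 0), ([], 0), ([], 0), ([], 0), ([], 0), ([], 0), ([], 0), ([], 0), ([], 0), ([], 0), ([], 0), ([], 0), ([], 0), ([], 0), ([], 0), ([], 0), ([], 0), ([], 0), ([], 0), ([], 0), ([], 0), ([], 0), ([], 0), ([], 0), ([], 0), ([], 0), ([], 0), ([], 0), ([], 0), ([], 0), ([], 0), ([], 0), ([], 0), ([], 0), ([], 0), ([], 0), ([8], 6), ([7,8], 6), ([6,8], 6), ([11,16,17,13,22], 6), ([16,17], 6), ([10,16,17], 6), ([11,16,17], 6), ([10,16,17,6], 6), ([], 0), ([], 0), ([], 0), ([], 0), ([], 0), ([], 0), ([], 0), ([], 0), ([], 0), ([], 0), ([], 0), ([], 0), ([], 0), ([], 0), ([], 0), ([], 0), ([], 0), ([], 0), ([], 0), ([], 0), ([], 0), ([], 0), ([], 0), ([], 0), ([], 0), ([], 0), ([], 0), ([], 0), ([], 0), ([], 0), ([], 0), ([], 0), ([], 0), ([], 0), ([], 0), ([], 0), ([], 0), ([], 0), ([], 0), ([], 0), ([], 0), ([], 0), ([], 0), ([], 0), ([], 0), ([], 0), ([], 0),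 ([], 0), ([], 0), ([], 0), ([], 0), ([], 0), ([], 0), ([], 0), ([], 0), ([], 0), ([], 0), ([], 0), ([], 0), ([], 0), ([], 0), ([], 0), ([], 0), ([], 0), ([], 0), ([], 0), ([], 0), ([], 0), ([], 0), ([], 0), ([], 0), ([], 0), ([], 0), ([], 0), ([], 0), ([], 0), ([], 0), ([], 0), ([], 0), ([], 0), ([], 0), ([], 0), ([], 0), ([], 0), ([], 0), ([], 0), ([], 0), ([], 0), ([], 0), ([], 0), ([], 0), ([], 0), ([], 0), ([], 0), ([], 0), ([], 0), ([], 0), ([], 0), ([], 0), ([], 0), ([], 0), ([], 0), ([], 0), ([], 0), ([], 0), ([], 0), ([], 0), ([], 0), ([], 0), ([], 0), ([], 0), ([], 0), ([], 0), ([], 0), ([], 0), ([], 0), ([], 0), ([], 0), ([], 0), ([], 0)], [([], 7), ([5], 7), ([8], 7), ([12,22], 7), ([7], 7), ([13,22], 7), ([12,14,16], 7), ([12,10,14], 7), ([], 0), ([], 0), ([], 0), ([], 0), ([], 0), ([], 0), ([], 0), ([], 0), ([], 0), ([], 0), ([], 0), ([], 0), ([], 0), ([], 0), ([], 0), ([], 0), ([], 0),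 ([], 0), ([], 0), ([], 0), ([], 0), ([], 0), ([], 0), ([], 0), ([], 0), ([], 0), ([], 0), ([], 0), ([], 0), ([], 0), ([], 0), ([], 0), ([], 0), ([], 0), ([], 0), ([], 0), ([], 0), ([], 0), ([], 0), ([], 0), ([], 0), ([], 0), ([], 0), ([], 0), ([], 0), ([], 0), ([], 0), ([], 0), ([], 0), ([], 0), ([], 0), ([], 0), ([], 0), ([], 0), ([], 0), ([], 0), ([], 0), ([], 0), ([], 0), ([], 0), ([], 0), ([], 0), ([], 0), ([], 0), ([], 0), ([], 0), ([], 0), ([], 0), ([], 0), ([], 0), ([], 0), ([], 0), ([], 0), ([], 0), ([], 0), ([], 0), ([], 0), ([], 0), ([], 0), ([], 0), ([], 0), ([], 0), ([], 0), ([], 0), ([], 0), ([], 0), ([], 0), ([], 0), ([], 0), ([], 0), ([], 0), ([], 0), ([], 0), ([], 0), ([], 0), ([], 0), ([], 0), ([], 0), ([], 0), ([], 0), ([], 0), ([], 0), ([], 0), ([], 0), ([], 0), ([], 0), ([], 0), ([], 0), ([], 0), ([], 0), ([], 0), ([], 0), ([], 0), ([], 0), ([], 0), ([], 0), ([], 0), ([], 0), ([],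 0), ([], 0), ([], 0), ([], 0), ([], 0), ([], 0), ([], 0), ([], 0), ([], 0), ([], 0), ([5,6], 7), ([6], 7), ([6,12,19], 7), ([6,8], 7), ([6,13,19], 7), ([6,7], 7), ([6,12,10,16], 7), ([6,12,14,16], 7), ([], 0), ([], 0), ([], 0), ([], 0), ([], 0), ([], 0), ([], 0), ([], 0), ([], 0), ([], 0), ([], 0), ([], 0), ([], 0), ([], 0), ([], 0), ([], 0), ([], 0), ([], 0), ([], 0), ([], 0), ([], 0), ([], 0), ([], 0), ([], 0), ([], 0), ([], 0), ([], 0), ([], 0), ([], 0), ([], 0), ([], 0), ([], 0), ([], 0), ([], 0), ([], 0), ([], 0), ([], 0), ([], 0), ([], 0), ([], 0), ([], 0), ([], 0), ([], 0), ([], 0), ([], 0), ([], 0), ([], 0), ([], 0), ([], 0), ([], 0), ([], 0), ([], 0), ([], 0), ([], 0), ([], 0), ([], 0), ([], 0), ([], 0), ([], 0), ([], 0), ([], 0), ([], 0), ([], 0), ([], 0), ([], 0), ([], 0), ([], 0), ([], 0), ([], 0), ([], 0), ([], 0), ([], 0), ([], 0), ([], 0), ([], 0), ([], 0), ([], 0), ([], 0), ([], 0), ([],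 0), ([], 0), ([], 0), ([], 0), ([], 0), ([], 0), ([], 0), ([], 0), ([], 0), ([], 0), ([], 0), ([], 0), ([], 0), ([], 0), ([], 0), ([], 0), ([], 0), ([], 0), ([], 0), ([], 0), ([], 0), ([], 0), ([], 0), ([], 0), ([], 0), ([], 0), ([], 0), ([], 0), ([], 0), ([], 0), ([], 0), ([], 0), ([], 0)]] : List (List (List ℕ × ℕ))).getD r []).getD v ([], 0)

theorem hY0 : ∀ r < 5, inR 27 (Y0 r) = true ∧ eq8 (RO r) (Y0 r) = true ∧
    eqz (Y0 r ++ Y0 r) [] = true := by decide +kernel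

theorem hYT : ∀ r < 5, ∀ v < 256, trF img8 (Y0 r).reverse v = v → inR 27 (YT r v).1 = true ∧
    (YT r v).2 < 8 ∧
    eqz ((YT r v).1 ++ (bw v ++ Y0 r) ++ (YT r v).1.reverse) (YR (YT r v).2) = true := by
  decide +kernel

theorem card_fix {HB todo : List ℕ} (hb : ∀ i < 8, ∃ u ∈ todo.reverse ++ HB, ∃ v ∈ todo.reverse ++ HB,
    ∃ w ∈ todo.reverse ++ HB, fv (2 ^ i) = xo (fv u) (xo (fv v) (fv w))) :
    Nat.card (fixS (OG false).subtype (HB.map fv)) ≤ prodCnt (isoP false) 256 todo HB := by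
  have h := card_le_of_chain (OG false).subtype fv 256
    (fun v => ⟨v, v.2, fv_val v⟩) (isoP false) ?_ todo HB
  · have h2 : fixS (OG false).subtype (List.map fv (todo.reverse ++ HB)) = ⊥ := by
      refine eq_bot_iff.mpr fun g hg => Subtype.ext (ext_basis g.2 (one_mem _) fun i hi => ?_)
      obtain ⟨u, hu, v, hv, w, hw, e⟩ := hb i hi
      have k : ∀ u ∈ todo.reverse ++ HB, g.1 (fv u) = fv u := fun u hu =>
        hg _ (List.mem_map.mpr ⟨u, hu, rfl⟩)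
      rw [e, g.2.1, g.2.1, k u hu, k v hv, k w hw]
      rfl
    rwa [h2, Subgroup.card_bot, mul_one] at h
  · intro bs b p g hg hv
    have hv' : g.1 (fv p) = fv b := (Equiv.Perm.inv_eq_iff_eq.mp hv).symm
    unfold isoP
    simp only [Bool.and_eq_true, decide_eq_true_eq, List.all_eq_true, Bool.or_eq_true,
      Bool.not_eq_true', decide_eq_false_iff_not, beq_iff_eq]
    refine ⟨⟨by rw [← hv', g.2.2], fun c hc => ?_⟩, ?_⟩
    · have h1 : g.1 (fv c) = fv c := hg _ (List.mem_map.mpr ⟨c, hc, rfl⟩)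
      rw [← g.2.2 (xo (fv p) (fv c)), g.2.1, hv', h1]
    · by_cases h0 : fv p = 0
      · left; rw [← hv', h0, OG_zero g.2]
      · exact Or.inr h0

variable {G : Type*} [Group G]

/-- The involution `z` is weakly closed in `Q`, and `h` exchanges it with `y`. -/
structure Sw (z : G) (Q : Subgroup G) (y h : G) : Prop where
  wc : ∀ x ∈ Q, IsConj z x → x = z
  hz : h * z * h⁻¹ = y
  hy : h * y * h⁻¹ = z
  cm : y * z = z * y
  ne : y ≠ z

/-- A conjugate subgroup. -/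
def Qc (h : G) (Q : Subgroup G) : Subgroup G := Q.map (MulAut.conj h).toMonoidHom

theorem mem_Qc {h x : G} {Q : Subgroup G} : x ∈ Qc h Q ↔ h⁻¹ * x * h ∈ Q := by
  constructor
  · rintro ⟨q, hq, rfl⟩
    simpa [mul_assoc] using hq
  · exact fun k => ⟨_, k, by simp [mul_assoc]⟩

theorem cj_cm {h p q : G} (e : p * q = q * p) : h * p * h⁻¹ * (h * q * h⁻¹) =
    h * q * h⁻¹ * (h * p * h⁻¹) := by rw [conj_mul, conj_mul, e]

theorem cm_cj {c p : G} (e : c * p = p * c) : c * p * c⁻¹ = p := by rw [e, mul_inv_cancel_right]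

theorem cj_cm' {c p : G} (e : c * p * c⁻¹ = p) : c * p = p * c := mul_inv_eq_iff_eq_mul.mp e

theorem isConj_cj {z x : G} (h : IsConj z x) (c : G) : IsConj z (c * x * c⁻¹) :=
  h.trans (isConj_iff.mpr ⟨c, rfl⟩)

variable [Finite G] {z y h : G} {Q : Subgroup G} {a : ℕ → G}

theorem Sw.conj (S : Sw z Q y h) {c : G} (hc : c * z = z * c) :
    Sw z Q (c * y * c⁻¹) (c * h * c⁻¹) := by
  refine ⟨S.wc, ?_, ?_, ?_, fun e => S.ne ?_⟩
  · rw [← S.hz, show c * h * c⁻¹ * z * (c * h * c⁻¹)⁻¹ = c * (h * (c⁻¹ * z * c⁻¹⁻¹) * h⁻¹) * c⁻¹ by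
      group, cm_cj (Commute.inv_left hc : Commute _ _)]
  · rw [show c * h * c⁻¹ * (c * y * c⁻¹) * (c * h * c⁻¹)⁻¹ = c * (h * y * h⁻¹) * c⁻¹ by group, S.hy,
      cm_cj hc]
  · have := cj_cm (h := c) S.cm
    rwa [cm_cj hc] at this
  · rw [← cm_cj hc] at e
    simpa using e

theorem Sw.cy (S : Sw z Q y h) : IsConj z y := isConj_iff.mpr ⟨h, S.hz⟩

theorem Sw.yQ (S : Sw z Q y h) : y ∉ Q := fun k => S.ne (S.wc y k S.cy)

theorem Sw.wc' (S : Sw z Q y h) {x : G} (hx : x ∈ Qc h Q) (k : IsConj z x) : x = y := by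
  have := S.wc _ (mem_Qc.mp hx) (by simpa using isConj_cj k h⁻¹)
  rw [← S.hz, ← this]
  group

theorem Sw.zQ (S : Sw z Q y h) : z ∉ Qc h Q := fun k => S.ne (S.wc' k (IsConj.refl z)).symm

theorem up_Qc {q : G} (hq : q ∈ Q) : h * q * h⁻¹ ∈ Qc h Q := ⟨q, hq, rfl⟩

theorem Sw.upc (S : Sw z Q y h) {q : G} (k : q * y = y * q) :
    h * q * h⁻¹ * z = z * (h * q * h⁻¹) := by
  rw [← S.hy]; exact cj_cm k

theorem Sw.upz (S : Sw z Q y h) {q : G} (k : q * z = z * q) :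
    h * q * h⁻¹ * y = y * (h * q * h⁻¹) := by
  rw [← S.hz]; exact cj_cm k

variable (E : ES z Q)
include E

theorem Sw.es (S : Sw z Q y h) : ES y (Qc h Q) := S.hz ▸ E.conj h

theorem Sw.yy (S : Sw z Q y h) : y * y = 1 := (S.es E).zz

theorem Sw.down (S : Sw z Q y h) {n : G} (hn : n ∈ Qc h Q) : h * n * h⁻¹ ∈ Q := by
  have := E.nrm (h * h) (cj_cm' (by
    rw [show h * h * z * (h * h)⁻¹ = h * (h * z * h⁻¹) * h⁻¹ by group, S.hz, S.hy])) _ (mem_Qc.mp hn)
  rwa [show h * h * (h⁻¹ * n * h) * (h * h)⁻¹ = h * n * h⁻¹ by group] at this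

theorem Sw.cI (S : Sw z Q y h) {q n : G} (hq : q ∈ Q) (k : q * y = y * q) (hn : n ∈ Qc h Q)
    (l : n * z = z * n) : n * q * n⁻¹ * q⁻¹ ∈ Q ∧ n * q * n⁻¹ * q⁻¹ ∈ Qc h Q := by
  refine ⟨mul_mem (E.nrm n l q hq) (inv_mem hq), ?_⟩
  rw [show n * q * n⁻¹ * q⁻¹ = n * (q * n⁻¹ * q⁻¹) by group]
  exact mul_mem hn ((S.es E).nrm q k _ (inv_mem hn))

theorem Sw.Icm (S : Sw z Q y h) {i q : G} (h1 : i ∈ Q) (h2 : i ∈ Qc h Q) (hq : q ∈ Q)
    (k : q * y = y * q) : q * i = i * q := by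
  refine (E.comm i h1 q hq).resolve_right fun e => S.zQ ?_
  have := mul_mem ((S.es E).nrm q k i h2) (inv_mem h2)
  rwa [e, show z * (i * q) * q⁻¹ * i⁻¹ = z by group] at this

theorem Sw.Icm' (S : Sw z Q y h) {i n : G} (h1 : i ∈ Q) (h2 : i ∈ Qc h Q) (hn : n ∈ Qc h Q)
    (k : n * z = z * n) : n * i = i * n := by
  refine ((S.es E).comm i h2 n hn).resolve_right fun e => S.yQ ?_
  have := mul_mem (E.nrm n k i h1) (inv_mem h1)
  rwa [e, show y * (i * n) * n⁻¹ * i⁻¹ = y by group] at this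

theorem Sw.Isq (S : Sw z Q y h) {i : G} (h1 : i ∈ Q) (h2 : i ∈ Qc h Q) : i * i = 1 :=
  (E.sq i h1).resolve_right fun e => S.zQ (e ▸ mul_mem h2 h2)

theorem Sw.Iy (S : Sw z Q y h) {i : G} (h2 : i ∈ Qc h Q) (k : IsConj z (i * y)) : i = 1 := by
  simpa using S.wc' (mul_mem h2 (S.es E).zQ) k

variable (F : Fr z Q false a)
include F

open Classical in
/-- The action on coordinates. -/
noncomputable def rh (c : G) : Equiv.Perm (Fin 256) :=
  if k : c * z = z * c then rho E F ⟨c, mem_cen.mpr k⟩ else 1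

theorem rh_eq {c : G} (k : c * z = z * c) : rh E F c = rho E F ⟨c, mem_cen.mpr k⟩ := dif_pos k

omit E F in
theorem cz_mul {c d : G} (k : c * z = z * c) (l : d * z = z * d) : c * d * z = z * (c * d) :=
  (Commute.mul_left k l : Commute _ _)

omit E F in
theorem cz_inv {c : G} (k : c * z = z * c) : c⁻¹ * z = z * c⁻¹ :=
  (Commute.inv_left k : Commute _ _)

theorem rh_mul {c d : G} (k : c * z = z * c) (l : d * z = z * d) :
    rh E F (c * d) = rh E F c * rh E F d := by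
  rw [rh_eq E F k, rh_eq E F l, rh_eq E F (cz_mul k l), ← map_mul]
  rfl

theorem rh_inv {c : G} (k : c * z = z * c) : rh E F c⁻¹ = (rh E F c)⁻¹ := by
  rw [rh_eq E F k, rh_eq E F (cz_inv k), ← map_inv]
  rfl

theorem rh_cj {c d : G} (k : c * z = z * c) (l : d * z = z * d) :
    rh E F (c * d * c⁻¹) = rh E F c * rh E F d * (rh E F c)⁻¹ := by
  rw [rh_mul E F (cz_mul k l) (cz_inv k), rh_mul E F k l, rh_inv E F k]

theorem rh_one {c : G} (k : c * z = z * c) : rh E F c = 1 ↔ c ∈ Q := by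
  rw [rh_eq E F k, rho_eq_one]

theorem rh_Q {q : G} (hq : q ∈ Q) : rh E F q = 1 := (rh_one E F (E.qz q hq)).mpr hq

theorem rh_mem (c : G) : rh E F c ∈ gen M8 RT := by
  unfold rh
  split_ifs
  · rw [← range_eq E F]; exact ⟨_, rfl⟩
  · exact one_mem _

theorem rh_OG (c : G) : rh E F c ∈ OG false := Om_le (rh_mem E F c)

theorem rh_co {c : G} (k : c * z = z * c) {q : G} (hq : q ∈ Q) :
    co a (c * q * c⁻¹) = vl (rh E F c) (co a q) := by
  rw [rh_eq E F k, vl, rho_val, fv_lt (co_lt _ _), co_conj E F k hq]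

theorem rh_div {c d : G} (k : c * z = z * c) (l : d * z = z * d) (e : rh E F c = rh E F d) :
    c * d⁻¹ ∈ Q := by
  rw [← rh_one E F (cz_mul k (cz_inv l)), rh_mul E F k (cz_inv l), rh_inv E F l, e, mul_inv_cancel]

theorem exists_w {w : List ℕ} (hw : inR 27 w = true) :
    ∃ c, (c, evL e0 w) ∈ NN E F ∧ rh E F c = evL M8 w := by
  obtain ⟨g, H⟩ := exists_Lf E F
  have k : ∀ l ∈ w, l < 27 ∧ (evS g DW l, e0 l) ∈ NN E F := fun l hl => by
    have := (inR_spec hw l hl).2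
    refine ⟨this, ?_⟩
    rw [← e0_DW this]
    exact evL_NN E F fun x hx => H.nn x (inR_spec (hDW l this).1 x hx).2
  have m := evL_NN E F fun l hl => (k l hl).2
  exact ⟨_, m, by rw [rh_eq E F (NN_cen E F m)]; exact rho_evL E F k _ rfl⟩

theorem rh_NN {c : G} {w : List ℕ} (hw : inR 27 w = true) (k : (c, evL e0 w) ∈ NN E F) :
    rh E F c = evL M8 w := by
  obtain ⟨d, h1, h2⟩ := exists_w E F hw
  rcases NN_eq E F k h1 with rfl | rfl
  · exact h2
  · rw [rh_mul E F rfl (NN_cen E F h1), rh_Q E F E.zQ, one_mul, h2]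

theorem NN_eqz {c : G} {u v : List ℕ} (k : (c, evL e0 u) ∈ NN E F) (e : eqz u v = true) :
    (c, evL e0 v) ∈ NN E F := by
  rcases Bool.or_eq_true_iff.mp e with e | e
  · rwa [← eqw_spec e]
  · have := mul_mem (mul_mem (z_NN E F) (Qh_le E F (fa_NN E F (l := 1) (by norm_num)))) k
    rw [eqw_spec e, evL_cons] at this
    simpa [fa, E.zz, ← mul_assoc, sq_e0] using this

theorem fix_of_sq {p c : G} (hp : p ∈ Q) (hc : c * z = z * c) (h1 : p * c * (p * c) = 1)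
    (h2 : c * c = 1 ∨ c * c = z) : vl (rh E F c) (co a p) = co a p := by
  have e : p * (c * p * c⁻¹) = (c * c)⁻¹ := by
    rw [← one_mul (c * c)⁻¹, ← h1]; group
  have := co_mul E F hp (E.nrm c hc p hp)
  rw [e, rh_co E F hc hp] at this
  refine (Nat.xor_eq_zero_iff.mp (this.symm.trans ?_)).symm
  rcases h2 with k | k <;> rw [k]
  · rw [inv_one, co_one]
  · rw [E.zinv, co_z E F]

theorem NN_Q {p : G} (hp : p ∈ Q) : (p, evL e0 (bw (co a p))) ∈ NN E F := by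
  have := Qh_le E F (mem_Qh E F (bw_inR _ (co_lt a p)))
  rcases nf E F hp with e | e <;> rw [e] <;> rw [← e]
  · rwa [← e] at this
  · have := mul_mem (z_NN E F) this
    rwa [Prod.mk_mul_mk, one_mul, ← e] at this

theorem NN_cj {c d : G} {u v : List ℕ} (k : (c, evL e0 u) ∈ NN E F) (l : (d, evL e0 v) ∈ NN E F) :
    (c * d * c⁻¹, evL e0 (u ++ v ++ u.reverse)) ∈ NN E F := by
  rw [evL_append, evL_append, e0_rev]
  exact mul_mem (mul_mem k l) (inv_mem k)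

theorem Sw.classify (S : Sw z Q y h) :
    ∃ y' h', Sw z Q y' h' ∧ ∃ k < 8, (y', evL e0 (YR k)) ∈ NN E F := by
  obtain ⟨τ, m, r, hr, e⟩ := inv_class E F (rh_mem E F y)
    (by rw [← rh_mul E F S.cm S.cm, S.yy E, rh_Q E F Q.one_mem])
    fun e => S.yQ ((rh_one E F S.cm).mp e)
  rw [← range_eq E F] at m
  obtain ⟨⟨c, hc⟩, rfl⟩ := m
  have hc' := mem_cen.mp hc
  rw [← rh_eq E F hc', ← rh_cj E F hc' S.cm] at e
  have S' := S.conj hc'
  generalize c * y * c⁻¹ = y at *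
  generalize c * h * c⁻¹ = h at *
  obtain ⟨a1, a2, a3⟩ := hY0 r hr
  obtain ⟨d, d1, d2⟩ := exists_w E F a1
  have dz : d * z = z * d := NN_cen E F d1
  have hp := rh_div E F S'.cm dz (by rw [e, d2, eq8_spec a2])
  have hf := fix_of_sq E F hp dz (by rw [inv_mul_cancel_right, S'.yy E]) (NN_K E F
    (NN_eqz E F (u := Y0 r ++ Y0 r) (by rw [evL_append]; exact mul_mem d1 d1) a3))
  rw [d2, vl_ev a1 (co_lt _ _)] at hf
  obtain ⟨b1, b2, b3⟩ := hYT r hr _ (co_lt _ _) hf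
  obtain ⟨t, t1, -⟩ := exists_w E F b1
  refine ⟨_, _, S'.conj (NN_cen E F t1), _, b2, NN_eqz E F (NN_cj E F t1 ?_) b3⟩
  have := mul_mem (NN_Q E F hp) d1
  rwa [Prod.mk_mul_mk, inv_mul_cancel_right, ← evL_append] at this

theorem cmy {Y u t : List ℕ} (hy : (y, evL e0 Y) ∈ NN E F) (hu : inR 10 u = true)
    (ht : inR 10 t = true) (e : eqw (u ++ Y ++ u.reverse) (t ++ Y) = true) :
    evL (fa z a) u * y * (evL (fa z a) u)⁻¹ = evL (fa z a) t * y := by
  have e' := eqw_conj e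
  rw [evL_append] at e'
  have := NN_conj E F hy (inR_rev hu) (inR_append.mpr ⟨inR_rev hu, ht⟩) (by
    rw [evL_append, e0_rev, eq_inv_mul_iff_mul_eq, ← mul_inv_eq_iff_eq_mul.mpr e']
    group)
  rw [evL_append, evL_rev fun l _ => fa_sq E F l, eq_inv_mul_iff_mul_eq] at this
  rw [← this]
  group

theorem lift_cj {Y r : List ℕ} (hy : (y, evL e0 Y) ∈ NN E F) (hr : inR 27 r = true)
    (e : eqz (r ++ Y ++ r.reverse) Y = true) : ∃ c, c * z = z * c ∧ rh E F c = evL M8 r ∧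
      (c * y * c⁻¹ = y ∨ c * y * c⁻¹ = z * y) := by
  obtain ⟨c, c1, c2⟩ := exists_w E F hr
  exact ⟨c, NN_cen E F c1, c2, NN_eq E F (NN_eqz E F (NN_cj E F c1 hy) e) hy⟩

theorem Sw.co_ne (S : Sw z Q y h) {i : G} (h1 : i ∈ Q) (h2 : i ∈ Qc h Q) (e : co a i = 0) : i = 1 :=
  (eq_of_co_zero E F h1 e).resolve_right fun k => S.zQ (k ▸ h2)

/-- The vectors of a list commute with a word. -/
noncomputable def cmOk (Y L : List ℕ) : Bool :=
  L.all fun v => decide (v < 256) && eqw (bw v ++ Y ++ (bw v).reverse) ([] ++ Y)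

theorem cm_of {Y L : List ℕ} (hy : (y, evL e0 Y) ∈ NN E F) (hL : cmOk Y L = true) {v : ℕ}
    (hv : v ∈ L) : v < 256 ∧ ∃ q ∈ Q, co a q = v ∧ q * y = y * q := by
  have := List.all_eq_true.mp hL v hv
  rw [Bool.and_eq_true, decide_eq_true_eq] at this
  exact ⟨this.1, _, ev_mem E F _, co_bw E F this.1,
    cj_cm' ((cmy E F hy (bw_inR v this.1) rfl this.2).trans (one_mul y))⟩

theorem Sw.cand (S : Sw z Q y h) {Y HB : List ℕ} (hy : (y, evL e0 Y) ∈ NN E F)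
    (hY : inR 27 Y = true) (hB : cmOk Y HB = true) {i : G} (h1 : i ∈ Q) (h2 : i ∈ Qc h Q) :
    qf false (co a i) = false ∧ trF img8 Y.reverse (co a i) = co a i ∧
      ∀ u ∈ HB, qf false (u ^^^ co a i) = qf false u := by
  have key : ∀ {p q : G}, p ∈ Q → q ∈ Q → p * p = q * q → qf false (co a p) = qf false (co a q) :=
    fun {p q} hp hq e => by
      rw [sq_co E F hp, sq_co E F hq] at e
      by_cases k : qf false (co a p) = true <;> by_cases l : qf false (co a q) = true <;>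
        simp_all [E.z1, E.z1.symm]
  refine ⟨?_, ?_, fun u hu => ?_⟩
  · rw [key h1 Q.one_mem (by rw [S.Isq E h1 h2, one_mul]), co_one]
    rfl
  · rw [← vl_ev hY (co_lt _ _), ← rh_NN E F hY hy, ← rh_co E F S.cm h1,
      cm_cj ((S.es E).qz i h2).symm]
  · obtain ⟨-, q, hq, rfl, k⟩ := cm_of E F hy hB hu
    rw [← co_mul E F hq h1]
    refine key (mul_mem hq h1) hq ?_
    rw [show q * i * (q * i) = q * (i * q) * i by group, ← S.Icm E h1 h2 hq k,
      show q * (q * i) * i = q * q * (i * i) by group, S.Isq E h1 h2, mul_one]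

theorem Sw.count (S : Sw z Q y h) {Y HB todo L JS : List ℕ} (hy : (y, evL e0 Y) ∈ NN E F)
    (hfix : ∀ n ∈ Qc h Q, n * z = z * n → ∀ b ∈ HB, vl (rh E F n) b = b)
    (hJ : ∀ i ∈ Q, i ∈ Qc h Q → co a i ∈ JS) (hL : cmOk Y L = true) (h1 : ∀ b ∈ HB, b < 256)
    (h2 : ∀ i < 8, ∃ u ∈ todo.reverse ++ HB, ∃ v ∈ todo.reverse ++ HB,
      ∃ w ∈ todo.reverse ++ HB, fv (2 ^ i) = xo (fv u) (xo (fv v) (fv w)))
    (h3 : L.Nodup) (h4 : ∀ u ∈ L, ∀ v ∈ L, u ^^^ v ∈ JS → u = v)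
    (h5 : prodCnt (isoP false) 256 todo HB < L.length) : False := by
  choose q q1 q2 q3 using fun v : {v // v ∈ L} => (cm_of E F hy hL v.2).2
  let f : {v // v ∈ L} → fixS (OG false).subtype (HB.map fv) := fun v =>
    ⟨⟨rh E F (h * q v * h⁻¹), rh_OG E F _⟩, fun b hb => by
      obtain ⟨b, hb', rfl⟩ := List.mem_map.mp hb
      exact Fin.ext ((hfix _ (up_Qc (q1 v)) (S.upc (q3 v)) b hb').trans (fv_lt (h1 b hb')).symm)⟩
  have hf : Function.Injective f := fun u v e => by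
    have := rh_div E F (S.upc (q3 u)) (S.upc (q3 v)) (congrArg (·.1.1) e)
    rw [conj_inv, conj_mul] at this
    have m := mul_mem (q1 u) (inv_mem (q1 v))
    have k := hJ _ m (mem_Qc.mpr ?_)
    · rw [co_mul E F (q1 u) (inv_mem (q1 v)), co_inv E F (q1 v), q2, q2] at k
      exact Subtype.ext (h4 _ u.2 _ v.2 k)
    · have := E.nrm (h * h)⁻¹ (cz_inv (cj_cm' (by
        rw [show h * h * z * (h * h)⁻¹ = h * (h * z * h⁻¹) * h⁻¹ by group, S.hz, S.hy]))) _ this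
      rwa [show (h * h)⁻¹ * (h * (q u * (q v)⁻¹) * h⁻¹) * (h * h)⁻¹⁻¹ = h⁻¹ * (q u * (q v)⁻¹) * h by
        group] at this
  have := (Nat.card_le_card_of_injective f hf).trans (card_fix h2)
  rw [Nat.subtype_card L.toFinset fun _ => List.mem_toFinset, List.toFinset_card_of_nodup h3] at this
  omega

theorem Sw.fix_triv (S : Sw z Q y h) {Y HB : List ℕ} (hy : (y, evL e0 Y) ∈ NN E F)
    (hB : cmOk Y HB = true) (hI : ∀ i ∈ Q, i ∈ Qc h Q → i = 1) {n : G} (hn : n ∈ Qc h Q)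
    (k : n * z = z * n) {b : ℕ} (hb : b ∈ HB) : vl (rh E F n) b = b := by
  obtain ⟨-, q, hq, rfl, l⟩ := cm_of E F hy hB hb
  obtain ⟨m1, m2⟩ := S.cI E hq l hn k
  rw [← rh_co E F k hq, mul_inv_eq_one.mp (hI _ m1 m2)]

end Cfsg.Co.Rc
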