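import Cfsg.Agent.Co.W3

/-! The two classes of involutions whose fixed space is totally singular. -/

set_option autoImplicit false
set_option maxRecDepth 100000
set_option synthInstance.maxSize 8192
set_option synthInstance.maxHeartbeats 400000
set_option linter.unusedSectionVars false

namespace Cfsg.Co.Rc

open Subgroup Cfsg.H6 Cfsg.Co.Md

/-- The Pfaffian. -/
def pf (k : ℕ) : Bool := Nat.testBit 0x96665aaa3cccf000 k

/-- The signs of the commutators. -/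
def sg4 (k : ℕ) : Bool := Nat.testBit 0xd222 k

/-- The commutators. -/
def sw4 (m k : ℕ) : List ℕ :=
  (if sg4 k then [1] else []) ++ ((List.range 4).filter k.testBit).map fun i => if i = 3 then m else i + 2

/-- The translates of the quadric. -/
def mk4 (c : ℕ) : ℕ := 0xfff0ccc3aaa59996fff0ccc3555a6669fff0333caaa56669fff0333c555a9996ff0fcc3caa5a9969ff0fcc3c55a56696ff0f33c3aa5a6696ff0f33c355a59969f0ffc3cca5aa9699f0ffc3cc5a556966f0ff3c33a5aa6966f0ff3c335a5596990fff3ccc5aaa69990fff3ccca55596660fffc3335aaa96660fffc333a5556999ccc3fff09996aaa5ccc3fff06669555a333cfff06669aaa5333cfff09996555acc3cff0f9969aa5acc3cff0f669655a533c3ff0f6696aa5a33c3ff0f996955a5c3ccf0ff9699a5aac3ccf0ff69665a553c33f0ff6966a5aa3c33f0ff96995a553ccc0fff69995aaa3ccc0fff9666a555c3330fff96665aaac3330fff6999a555aaa59996fff0ccc3555a6669fff0ccc3aaa56669fff0333c555a9996fff0333caa5a9969ff0fcc3c55a56696ff0fcc3caa5a6696ff0f33c355a59969ff0f33c3a5aa9699f0ffc3cc5a556966f0ffc3cca5aa6966f0ff3c335a559699f0ff3c335aaa69990fff3ccca55596660fff3ccc5aaa96660fffc333a55569990fffc3339996aaa5ccc3fff06669555accc3fff06669aaa5333cfff09996555a333cfff09969aa5acc3cff0f669655a5cc3cff0f6696aa5a33c3ff0f996955a533c3ff0f9699a5aac3ccf0ff69665a55c3ccf0ff6966a5aa3c33f0ff96995a553c33f0ff69995aaa3ccc0fff9666a5553ccc0fff96665aaac3330fff6999a555c3330fff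 >>> (64 * c)

theorem mk4_bit : ∀ c < 64, ∀ d < 64, (mk4 c).testBit d = !pf (c ^^^ d) := by decide +kernel

theorem dfs4 : ∀ a < 64, pf a = false → ∀ b < 64,
    pf (33 ^^^ b) = false ∧ pf (33 ^^^ (a ^^^ b)) = false → ∀ c < 64,
    pf (33 ^^^ c) = false ∧ pf (a ^^^ c) = false ∧ pf (33 ^^^ (b ^^^ c)) = false ∧
      pf (33 ^^^ (a ^^^ (b ^^^ c))) = false →
    mk4 33 &&& (mk4 a &&& (mk4 (33 ^^^ b) &&& (mk4 (33 ^^^ (a ^^^ b)) &&& (mk4 c &&&
      (mk4 (33 ^^^ (a ^^^ c)) &&& (mk4 (b ^^^ c) &&& (mk4 (a ^^^ (b ^^^ c)) &&& (2 ^ 64 - 1)))))))) = 0 := by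
  decide +kernel

theorem dfs5 (m : ℕ) (f : ℕ → ℕ) (h0 : f 1 = 33) (lt : ∀ l, f l < 64) (h : ∀ k < 16, k ≠ 0 →
    pf ((1 :: sw4 m k).foldr (fun l acc => f l ^^^ acc) 0) = false) : False := by
  have h1 : pf (f 1 ^^^ (f 1 ^^^ (f 2 ^^^ 0))) = false := h 1 (by norm_num) (by norm_num)
  have h2 : pf (f 1 ^^^ (f 3 ^^^ 0)) = false := h 2 (by norm_num) (by norm_num)
  have h3 : pf (f 1 ^^^ (f 2 ^^^ (f 3 ^^^ 0))) = false := h 3 (by norm_num) (by norm_num)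
  have h4 : pf (f 1 ^^^ (f 4 ^^^ 0)) = false := h 4 (by norm_num) (by norm_num)
  have h5 : pf (f 1 ^^^ (f 1 ^^^ (f 2 ^^^ (f 4 ^^^ 0)))) = false := h 5 (by norm_num) (by norm_num)
  have h6 : pf (f 1 ^^^ (f 3 ^^^ (f 4 ^^^ 0))) = false := h 6 (by norm_num) (by norm_num)
  have h7 : pf (f 1 ^^^ (f 2 ^^^ (f 3 ^^^ (f 4 ^^^ 0)))) = false := h 7 (by norm_num) (by norm_num)
  have h8 : pf (f 1 ^^^ (f m ^^^ 0)) = false := h 8 (by norm_num) (by norm_num)
  have h9 : pf (f 1 ^^^ (f 1 ^^^ (f 2 ^^^ (f m ^^^ 0)))) = false := h 9 (by norm_num) (by norm_num)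
  have h10 : pf (f 1 ^^^ (f 3 ^^^ (f m ^^^ 0))) = false := h 10 (by norm_num) (by norm_num)
  have h11 : pf (f 1 ^^^ (f 2 ^^^ (f 3 ^^^ (f m ^^^ 0)))) = false := h 11 (by norm_num) (by norm_num)
  have h12 : pf (f 1 ^^^ (f 1 ^^^ (f 4 ^^^ (f m ^^^ 0)))) = false := h 12 (by norm_num) (by norm_num)
  have h13 : pf (f 1 ^^^ (f 2 ^^^ (f 4 ^^^ (f m ^^^ 0)))) = false := h 13 (by norm_num) (by norm_num)
  have h14 : pf (f 1 ^^^ (f 1 ^^^ (f 3 ^^^ (f 4 ^^^ (f m ^^^ 0))))) = false := h 14 (by norm_num) (by norm_num)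
  have h15 : pf (f 1 ^^^ (f 1 ^^^ (f 2 ^^^ (f 3 ^^^ (f 4 ^^^ (f m ^^^ 0)))))) = false := h 15 (by norm_num) (by norm_num)
  simp only [h0, Nat.xor_zero, Nat.xor_xor_cancel_left] at *
  have x : ∀ {u v : ℕ}, u < 64 → v < 64 → u ^^^ v < 64 := Nat.xor_lt_two_pow (n := 6)
  have y : 33 < 64 := by norm_num
  have e := congrArg (Nat.testBit · (f m))
    (dfs4 _ (lt 2) h1 _ (lt 3) ⟨h2, h3⟩ _ (lt 4) ⟨h4, h5, h6, h7⟩)
  simp only [Nat.testBit_and, Nat.testBit_two_pow_sub_one, Nat.zero_testBit] at e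
  rw [mk4_bit _ y _ (lt m), mk4_bit _ (lt 2) _ (lt m), mk4_bit _ (x y (lt 3)) _ (lt m),
    mk4_bit _ (x y (x (lt 2) (lt 3))) _ (lt m), mk4_bit _ (lt 4) _ (lt m),
    mk4_bit _ (x y (x (lt 2) (lt 4))) _ (lt m), mk4_bit _ (x (lt 3) (lt 4)) _ (lt m),
    mk4_bit _ (x (lt 2) (x (lt 3) (lt 4))) _ (lt m)] at e
  simp only [Nat.xor_assoc, h8, h9, h10, h11, h12, h13, h14, h15, lt m] at e
  exact absurd e (by decide)

/-- The code of three numbers. -/
def cd3 (p q r : ℕ) : ℕ := (p &&& 1) ^^^ (((q &&& 3) <<< 1) ^^^ ((r &&& 7) <<< 3))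

theorem cd3_xor (p q r p' q' r' : ℕ) :
    cd3 (p ^^^ p') (q ^^^ q') (r ^^^ r') = cd3 p q r ^^^ cd3 p' q' r' := by
  simp only [cd3, Nat.and_xor_distrib_right, Nat.shiftLeft_xor_distrib]
  ac_rfl

theorem cd3_spec (p q r : ℕ) : cd3 p q r < 64 ∧
    (cd3 p q r = 0 → p &&& 1 = 0 ∧ q &&& 3 = 0 ∧ r &&& 7 = 0) :=
  (by decide : ∀ x < 2, ∀ y < 4, ∀ w < 8, x ^^^ ((y <<< 1) ^^^ (w <<< 3)) < 64 ∧
    (x ^^^ ((y <<< 1) ^^^ (w <<< 3)) = 0 → x = 0 ∧ y = 0 ∧ w = 0)) _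
    (Nat.lt_succ_of_le Nat.and_le_right) _ (Nat.lt_succ_of_le Nat.and_le_right) _
    (Nat.lt_succ_of_le Nat.and_le_right)

/-- The code of an isometry. -/
def cd (b : ℕ) (σ : Equiv.Perm (Fin 256)) : ℕ := cd3 (vl σ 32) (vl σ 64) (vl σ b)

theorem fixc {σ : Equiv.Perm (Fin 256)} (h : σ ∈ OG false) {L : List ℕ}
    (k : ∀ w ∈ L, w < 256 ∧ vl σ w = w) {b : ℕ} (hb : b < 256) :
    ∀ w ∈ L, qf false (vl σ b ^^^ w) = qf false (b ^^^ w) := fun w hw => by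
  have := vl_qf2 h hb (k w hw).1
  rwa [(k w hw).2] at this

/-- The checks on the fixed space. -/
structure W4 (b : ℕ) (WL : List ℕ) : Prop where
  lt : ∀ w ∈ WL, w < 256
  b1 : b < 256 ∧ cd3 32 64 b = 0
  mv : ∀ c ∈ [32, 64, b], ∀ p < 256, (∀ w ∈ WL, qf false (p ^^^ w) = qf false (c ^^^ w)) →
    p ^^^ c ∈ WL
  z4 : ∀ p < 256, (∀ w ∈ WL, qf false (p ^^^ w) = qf false (b ^^^ w)) → p &&& 7 = 0 → p = b
  z3 : ∀ p < 256, (∀ w ∈ b :: WL, qf false (p ^^^ w) = qf false (64 ^^^ w)) → p &&& 3 = 0 → p = 64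
  z2 : ∀ p < 256, (∀ w ∈ 64 :: b :: WL, qf false (p ^^^ w) = qf false (32 ^^^ w)) →
    p &&& 1 = 0 → p = 32
  z1 : ∀ p < 256, (∀ w ∈ 32 :: 64 :: b :: WL, qf false (p ^^^ w) = qf false (16 ^^^ w)) → p = 16
  bs : ∀ i < 8, 2 ^ i ∈ 16 :: 32 :: 64 :: b :: WL

theorem W4.mul {b : ℕ} {WL : List ℕ} (H : W4 b WL) {σ τ : Equiv.Perm (Fin 256)} (h : σ ∈ OG false)
    (k : τ ∈ OG false) (h1 : ∀ w ∈ WL, vl σ w = w) (k1 : ∀ w ∈ WL, vl τ w = w) :
    cd b (σ * τ) = cd b σ ^^^ cd b τ := by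
  have e : ∀ c ∈ [32, 64, b], vl (σ * τ) c = vl σ c ^^^ vl τ c ^^^ c := fun c hc => by
    have hc' : c < 256 := by
      simp only [List.mem_cons, List.not_mem_nil, or_false] at hc
      have := H.b1.1
      omega
    have m := H.mv c hc _ (vl_lt τ c) (fixc k (fun w hw => ⟨H.lt w hw, k1 w hw⟩) hc')
    rw [vl_mul, Nat.xor_assoc, ← h1 _ m, ← vl_xor h hc' (H.lt _ m), Nat.xor_comm (vl τ c),
      ← Nat.xor_assoc, Nat.xor_self, Nat.zero_xor]
  rw [cd, e 32 (by simp), e 64 (by simp), e b (by simp), cd3_xor, cd3_xor, H.b1.2, Nat.xor_zero]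
  rfl

theorem W4.one {b : ℕ} {WL : List ℕ} (H : W4 b WL) {σ : Equiv.Perm (Fin 256)} (h : σ ∈ OG false)
    (h1 : ∀ w ∈ WL, vl σ w = w) (e : cd b σ = 0) : σ = 1 := by
  obtain ⟨e2, e3, e4⟩ := (cd3_spec _ _ _).2 e
  have f0 : ∀ w ∈ WL, w < 256 ∧ vl σ w = w := fun w hw => ⟨H.lt w hw, h1 w hw⟩
  have f4 := List.forall_mem_cons.mpr ⟨⟨H.b1.1, H.z4 _ (vl_lt _ _) (fixc h f0 H.b1.1) e4⟩, f0⟩
  have f3 := List.forall_mem_cons.mpr ⟨⟨(by norm_num : 64 < 256),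
    H.z3 _ (vl_lt _ _) (fixc h f4 (by norm_num)) e3⟩, f4⟩
  have f2 := List.forall_mem_cons.mpr ⟨⟨(by norm_num : 32 < 256),
    H.z2 _ (vl_lt _ _) (fixc h f3 (by norm_num)) e2⟩, f3⟩
  have f1 := List.forall_mem_cons.mpr ⟨⟨(by norm_num : 16 < 256),
    H.z1 _ (vl_lt _ _) (fixc h f2 (by norm_num))⟩, f2⟩
  exact ext_basis h (one_mem _) fun i hi =>
    Fin.ext ((f1 _ (H.bs i hi)).2.trans (fv_lt (f1 _ (H.bs i hi)).1).symm)

variable {G : Type*} [Group G] [Finite G] {z y h : G} {Q : Subgroup G} {a : ℕ → G}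
  (E : ES z Q) (F : Fr z Q false a)
include E F

theorem Sw.four (S : Sw z Q y h) {Y WL U r : List ℕ} {TR PW : List (List ℕ)} {b m : ℕ}
    (hy : (y, evL e0 Y) ∈ NN E F) (hY : inR 27 Y = true) (H : W4 b WL) (hB : cmOk Y WL = true)
    (hK : ∀ k < 16, kOk Y (U.getD k 0) (sw4 m k) = true ∧ qf false (xs (sw4 m k)) = false ∧
      (k = 0 ∨ xs (sw4 m k) ≠ 0 ∧ inR 27 (TR.getD k []) = true ∧
        eqz (TR.getD k [] ++ Y ++ (TR.getD k []).reverse) Y = true ∧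
        trF img8 (TR.getD k []).reverse (xs (sw4 m k)) = 1))
    (hf : ∀ v < 256, trF img8 Y.reverse v = v → ∃ k < 16, v = xs (sw4 m k))
    (hr : inR 27 r = true ∧ eqz (r ++ Y ++ r.reverse) Y = true ∧ trF img8 r.reverse 1 = 4)
    (hP : ∀ k < 64, pf k = true → inR 27 (PW.getD k []) = true ∧
      (∀ w ∈ WL, trF img8 (PW.getD k [] ++ Y ++ (PW.getD k []).reverse) w = w) ∧
      cd3 (trF img8 (PW.getD k [] ++ Y ++ (PW.getD k []).reverse) 32)
        (trF img8 (PW.getD k [] ++ Y ++ (PW.getD k []).reverse) 64)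
        (trF img8 (PW.getD k [] ++ Y ++ (PW.getD k []).reverse) b) = k)
    (hη : cd3 (trF img8 Y.reverse 32) (trF img8 Y.reverse 64) (trF img8 Y.reverse b) = 33)
    (hl : ∀ l ∈ [1, 2, 3, 4, m], x1 l ∈ WL) (hx : ∀ u ∈ WL, ∀ v ∈ WL, u ^^^ v ∈ WL)
    (hs : ∀ k ∈ [1, 4, 5], xs (sw4 m k) = k) : False := by
  have E' := S.es E
  by_cases hI : ∀ i ∈ Q, i ∈ Qc h Q → i = 1
  swap
  · push Not at hI
    obtain ⟨i, i1, i2, i3⟩ := hI
    obtain ⟨k, hk, e⟩ := hf _ (co_lt a i) (S.cand E F hy hY hB i1 i2).2.1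
    obtain ⟨k1, -, rfl | ⟨k2, k3, k4, k5⟩⟩ := hK k hk
    · exact i3 (S.co_ne E F i1 i2 e)
    have hn := (S.one E F hy k1 i1 i2 e k2).2
    obtain ⟨c, c1, c2, c3⟩ := liftX E F hy k3 k4 S.cy (Or.inr hn)
    obtain ⟨d, d1, d2, d3⟩ := liftX E F hy hr.1 hr.2.1 S.cy (Or.inr hn)
    have j1 := E.nrm c c1 i i1
    have j2 := E'.nrm c c2 i i2
    have j3 := c3 i i1
    rw [e, k5] at j3
    generalize c * i * c⁻¹ = j at *
    have l1 := E.nrm d d1 j j1
    have l2 := E'.nrm d d2 j j2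
    have l3 := d3 j j1
    rw [j3, hr.2.2] at l3
    have s1 := hs 1 (by decide)
    have s4 := hs 4 (by decide)
    have s5 := hs 5 (by decide)
    have u1 := (S.one E F hy (hK 1 (by norm_num)).1 j1 j2 (j3.trans s1.symm) (by omega)).1
    have u4 := (S.one E F hy (hK 4 (by norm_num)).1 l1 l2 (l3.trans s4.symm) (by omega)).1
    have u5 := (S.one E F hy (hK 5 (by norm_num)).1 (mul_mem j1 l1) (mul_mem j2 l2)
      (by rw [co_mul E F j1 l1, j3, l3, s5]; rfl) (by omega)).1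
    rw [u4, u1] at u5
    have e1 : ∀ k, k = 1 ∨ k = 4 ∨ k = 5 → evL (fa z a) (sw4 m k) =
        if k = 1 then z * a 0 else if k = 4 then a 2 else z * (a 0 * a 2) := by
      rintro _ (rfl | rfl | rfl) <;> simp [sw4, sg4, List.range_succ, evL_cons, evL_nil, fa, Nat.testBit]
    rw [e1 1 (by simp), e1 4 (by simp), e1 5 (by simp)] at u5
    simp only [if_true, show (4 : ℕ) ≠ 1 by decide, show (5 : ℕ) ≠ 1 by decide,
      show (5 : ℕ) ≠ 4 by decide, if_false, E.zzm] at u5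
    rw [← mul_assoc, E.qz _ (F.mem 0 (by norm_num)), mul_assoc] at u5
    exact E.ne _ u5
  have fx : ∀ q ∈ Q, co a q ∈ WL → ∀ w ∈ WL, vl (rh E F (h * q * h⁻¹)) w = w := fun q hq k w hw =>
    S.fix_triv E F hy hB hI (up_Qc hq) (S.upc (cm_all E F hy hB hq k)) hw
  have ad : ∀ w : List ℕ, (∀ l ∈ w, l ∈ [1, 2, 3, 4, m]) → co a (evL (fa z a) w) ∈ WL ∧
      cd b (rh E F (h * evL (fa z a) w * h⁻¹)) =
        w.foldr (fun l acc => cd b (rh E F (h * fa z a l * h⁻¹)) ^^^ acc) 0 := fun w hw => by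
    induction w with
    | nil =>
      refine ⟨by rw [evL_nil, co_one]; exact hl 1 (by simp), ?_⟩
      rw [evL_nil, mul_one, mul_inv_cancel, rh_Q E F Q.one_mem, cd, vl_one (by norm_num),
        vl_one (by norm_num), vl_one H.b1.1, H.b1.2]
      rfl
    | cons l w ih =>
      obtain ⟨i1, i2⟩ := ih fun x hx => hw x (List.mem_cons_of_mem _ hx)
      have p1 := fa_mem E F l
      have p2 := ev_mem E F w
      have p3 : co a (fa z a l) ∈ WL := by rw [co_fa E F]; exact hl l (hw l List.mem_cons_self)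
      rw [evL_cons, co_mul E F p1 p2, ← conj_mul, rh_mul E F (S.upc (cm_all E F hy hB p1 p3))
        (S.upc (cm_all E F hy hB p2 i1)), H.mul (rh_OG E F _) (rh_OG E F _) (fx _ p1 p3) (fx _ p2 i1),
        i2]
      exact ⟨hx _ p3 _ i1, rfl⟩
  have lm : ∀ k < 16, ∀ l ∈ 1 :: sw4 m k, l ∈ [1, 2, 3, 4, m] := fun k hk => by
    interval_cases k <;> simp [sw4, sg4, List.range_succ, Nat.testBit]
  have key : ∀ k < 16, k ≠ 0 →
      pf (cd b (rh E F (h * evL (fa z a) (1 :: sw4 m k) * h⁻¹))) = false := fun k hk k0 => by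
    by_contra hp
    obtain ⟨k1, k2, k3⟩ := hK k hk
    have k4 := (k3.resolve_left k0).1
    obtain ⟨p1, p3, e1⟩ := kq E F hy k1
    have q1 := ev_mem E F (1 :: sw4 m k)
    have q2 := (ad _ (lm k hk)).1
    have q3 : co a (evL (fa z a) (1 :: sw4 m k)) = xs (sw4 m k) := by
      rw [co_ev E F]; exact Nat.zero_xor _
    have q4 : evL (fa z a) (1 :: sw4 m k) * y = p1 * (z * y) * p1⁻¹ := by
      rw [evL_cons, mul_assoc, ← e1, ← conj_mul, cm_cj (E.qz _ p3)]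
      rfl
    generalize evL (fa z a) (1 :: sw4 m k) = q at *
    have q5 := cm_all E F hy hB q1 q2
    have n1 := S.upc q5
    have n2 : h * q * h⁻¹ * (h * q * h⁻¹) = 1 := by
      rw [conj_mul, sq_co E F q1, q3, k2]; simp
    have n3 : IsConj (z * y) (z * (h * q * h⁻¹)) := by
      have := isConj_cj (isConj_iff.mpr ⟨p1, q4.symm⟩) h
      rwa [q5, ← conj_mul, S.hy] at this
    have n4 : h * q * h⁻¹ ≠ y := fun e => k4 (by
      rw [← S.hz] at e
      rw [← q3, show q = z by simpa using e, co_z E F])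
    have n5 := up_Qc (h := h) q1
    have n6 := fx q q1 q2
    generalize h * q * h⁻¹ = n at *
    obtain ⟨c1, c2, c3⟩ := hP (cd b (rh E F n)) (cd3_spec _ _ _).1 (by simpa using hp)
    generalize PW.getD (cd b (rh E F n)) [] = w at c1 c2 c3
    have c4 := inR_append.mpr ⟨inR_append.mpr ⟨c1, hY⟩, inR_rev c1⟩
    obtain ⟨d, d1, -⟩ := exists_w E F c1
    have d2 : d * z = z * d := NN_cen E F d1
    have d3 := rh_NN E F c4 (NN_cj E F d1 hy)
    rw [← vl_inv c4 (by norm_num), ← vl_inv c4 (by norm_num), ← vl_inv c4 H.b1.1] at c3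
    have c5 : ∀ w ∈ WL, vl _ w = w := fun w hw => (vl_inv c4 (H.lt w hw)).trans (c2 w hw)
    have c6 := inv_mem (evM_mem (w ++ Y ++ w.reverse))
    have e := mul_inv_eq_one.mp (H.one (mul_mem (rh_OG E F n) c6)
      (fun w hw => by rw [vl_mul]; exact (congrArg _ (c5 w hw)).trans (n6 w hw))
      ((H.mul (rh_OG E F n) c6 n6 c5).trans (Nat.xor_eq_zero_iff.mpr c3.symm)))
    have n7 := cz_mul (cz_mul (cz_inv d2) n1) (cz_inv (cz_inv d2))
    have hp := rh_div E F n7 S.cm (by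
      rw [rh_cj E F (cz_inv d2) n1, e, ← d3, rh_cj E F d2 S.cm, rh_inv E F d2]; group)
    have hfix := fix_of_sq E F hp S.cm (by
      rw [inv_mul_cancel_right, conj_mul, n2, mul_one, mul_inv_cancel]) (Or.inl (S.yy E))
    rw [rh_NN E F hY hy, vl_ev hY (co_lt _ _)] at hfix
    obtain ⟨k', hk', e'⟩ := hf _ (co_lt _ _) hfix
    obtain ⟨p0, p2, e0⟩ := kq E F hy (hK k' hk').1
    refine n4 (S.wc' n5 ?_)
    rcases eq_of_co E F hp (ev_mem E F _) (e'.trans (co_ev E F _).symm) with l | l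
    · rw [← l, inv_mul_cancel_right] at e0
      have := isConj_cj (isConj_cj S.cy p0) d
      rwa [e0, show d * (d⁻¹ * n * d⁻¹⁻¹) * d⁻¹ = n by group] at this
    · have l' : n = d * p0 * (z * y) * (d * p0)⁻¹ := by
        rw [show d * p0 * (z * y) * (d * p0)⁻¹ = d * (p0 * z * p0⁻¹ * (p0 * y * p0⁻¹)) * d⁻¹ by group,
          e0, cm_cj (E.qz _ p2), ← mul_assoc z, ← l]
        group
      have t1 : IsConj z (z * n) := by
        have := isConj_cj S.cy (d * p0)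
        rwa [← E.zzm y, ← conj_mul, cm_cj (cz_mul d2 (E.qz _ p2)), ← l'] at this
      exact (t1.trans n3.symm).trans (isConj_iff.mpr ⟨_, l'.symm⟩)
  have η : cd b (rh E F (h * fa z a 1 * h⁻¹)) = 33 := by
    rw [show fa z a 1 = z from rfl, S.hz, rh_NN E F hY hy, cd, vl_ev hY (by norm_num),
      vl_ev hY (by norm_num), vl_ev hY H.b1.1, hη]
  exact dfs5 m (fun l => cd b (rh E F (h * fa z a l * h⁻¹))) η (fun l => (cd3_spec _ _ _).1)
    fun k hk k0 => (ad _ (lm k hk)).2 ▸ key k hk k0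

theorem Sw.case5 (S : Sw z Q y h) (hy : (y, evL e0 (YR 5)) ∈ NN E F) : False :=
  S.four E F (WL := [0, 1, 2, 3, 4, 5, 6, 7, 8, 9, 10, 11, 12, 13, 14, 15]) (U := [0, 32, 16, 48, 128, 160, 144, 176, 64, 96, 80, 112, 192, 224, 208, 240]) (r := [15, 8, 19, 13, 15, 11, 8, 6, 19, 13, 11, 6]) (TR := [[], [], [7, 11, 10], [6, 11], [6, 11, 13, 19, 6, 8, 11, 15, 13, 19, 8, 15], [6, 11, 13, 19, 6, 11], [7, 11, 10, 13, 19], [6, 11, 13, 19], [6, 11, 13, 19, 6, 9, 11, 15, 14, 13, 19], [6, 11, 13, 19, 6, 9, 11, 15, 14], [6, 11, 13, 19, 7, 9, 10, 15, 14], [6, 11, 13, 19, 9, 15, 14], [6, 11, 13, 19, 6, 8, 11, 15, 13, 19], [6, 11, 13, 19, 6, 8, 11, 15], [6, 11, 13, 19, 7, 8, 10, 15], [6, 11, 13, 19, 8, 15]]) (PW := [[], [], [], [], [], [], [], [], [], [], [], [], [10, 12, 11, 13, 10, 12], [10, 11, 13, 10, 12], [12, 11, 13, 10, 12], [11, 13, 10, 12], [], [], [12, 13, 12], [13, 12], [], [], [12, 11, 13, 12],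 [11, 13, 12], [], [], [12, 13, 10, 12], [13, 10, 12], [14, 12, 13, 10, 12], [14, 13, 10, 12], [], [], [], [], [], [13], [], [12, 14, 12], [], [11, 13], [], [11, 10, 12], [], [15, 13], [10, 12, 14, 10, 12], [], [12, 14, 10, 12], [], [], [12], [12, 13], [], [], [14, 12], [12, 11, 13], [], [], [10, 12], [10, 12, 13], [], [10, 12, 11, 13], [], [], [14, 10, 12]]) (b := 128) (m := 5) hy (by decide)
    ⟨by decide, by decide, by decide +kernel, by decide +kernel, by decide +kernel, by decide +kernel,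
      by decide +kernel, by decide +kernel⟩
    (by decide +kernel) (by decide +kernel) (by decide +kernel) (by decide +kernel) (by decide +kernel)
    (by decide +kernel) (by decide +kernel) (by decide +kernel) (by decide +kernel)

theorem Sw.case6 (S : Sw z Q y h) (hy : (y, evL e0 (YR 6)) ∈ NN E F) : False :=
  S.four E F (WL := [0, 1, 2, 3, 4, 5, 6, 7, 128, 129, 130, 131, 132, 133, 134, 135]) (U := [0, 32, 16, 48, 8, 40, 24, 56, 64, 96, 80, 112, 72, 104, 88, 120]) (r := [17, 22, 13, 17, 11, 6, 22, 13, 11, 6]) (TR := [[], [], [7, 11, 10], [6, 11], [6, 11, 13, 22, 6, 11, 17, 13, 22, 17], [6, 11, 13, 22, 6, 11], [7, 11, 10, 13, 22], [6, 11, 13, 22], [6, 11, 13, 22, 5, 6, 8, 11, 17, 16, 13, 22], [6, 11, 13, 22, 5, 6, 8, 11, 17, 16], [6, 11, 13, 22, 5, 7, 8, 10, 17, 16], [6, 11, 13, 22, 5, 8, 17, 16], [6, 11, 13, 22, 6, 11, 17, 13, 22], [6, 11, 13, 22, 6, 11, 17], [6, 11, 13, 22, 7, 10, 17], [6,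 11, 13, 22, 17]]) (PW := [[], [], [], [], [], [], [], [], [], [], [], [], [10, 12, 11, 13, 10, 12], [10, 11, 13, 10, 12], [12, 11, 13, 10, 12], [11, 13, 10, 12], [], [], [12, 13, 12], [13, 12], [], [], [12, 11, 13, 12], [11, 13, 12], [], [], [12, 13, 10, 12], [13, 10, 12], [16, 12, 13, 10, 12], [16, 13, 10, 12], [], [], [], [], [], [13], [], [12, 16, 12], [], [11, 13], [], [11, 10, 12], [], [17, 13], [10, 12, 16, 10, 12], [], [12, 16, 10, 12], [], [], [12], [12, 13], [], [], [16, 12], [12, 11, 13], [], [], [10, 12], [10, 12, 13], [], [10, 12, 11, 13], [], [], [16, 10, 12]]) (b := 8) (m := 9) hy (by decide)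
    ⟨by decide, by decide, by decide +kernel, by decide +kernel, by decide +kernel, by decide +kernel,
      by decide +kernel, by decide +kernel⟩
    (by decide +kernel) (by decide +kernel) (by decide +kernel) (by decide +kernel) (by decide +kernel)
    (by decide +kernel) (by decide +kernel) (by decide +kernel) (by decide +kernel)

theorem Sw.false (S : Sw z Q y h) : False := by
  obtain ⟨y, h, S, k, hk, hy⟩ := S.classify E F
  interval_cases k
  exacts [S.case0 E F hy, S.case1 E F hy, S.case2 E F hy, S.case3 E F hy, S.case4 E F hy,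
    S.case5 E F hy, S.case6 E F hy, S.case7 E F hy]

end Cfsg.Co.Rc
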